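import Mathlib
import Cfsg.Agent.H442.HallGen
import Cfsg.Agent.Lib.SolvableMinNormal

/-!
A group with a solvable normal subgroup `K` such that `G ⧸ K` is a `σ`-group lies in the class
`DClass σ`, so that Hall `σ`-subgroups exist, dominate and are conjugate.
-/

set_option autoImplicit false
set_option linter.unusedSectionVars false

namespace Cfsg.Agent.H442.HallGen

open Cfsg
open Cfsg.Agent.OddOrderLocal
open scoped Pointwise

universe u

theorem dclass_of_card {σ : Set ℕ} {G : Type u} [Group G] (h : PN σ (Nat.card G)) :
    DClass σ G := by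
  refine DClass.step G ⊤ (Or.inl ?_) (DClass.triv _ ?_)
  · rw [Subgroup.card_top]; exact h
  · exact QuotientGroup.subsingleton_quotient_top

theorem dclass_of_solvable (σ : Set ℕ) (n : ℕ) : ∀ (G : Type u) [Group G] [Finite G],
    Nat.card G = n → ∀ (K : Subgroup G) [K.Normal], Group.IsSolvable K → PN σ K.index →
    DClass σ G := by
  induction n using Nat.strong_induction_on with
  | _ n ih =>
    intro G _ _ hn K hK hs hidx
    by_cases hK1 : K = ⊥
    · subst hK1
      rw [Subgroup.index_bot] at hidx
      exact dclass_of_card hidx
    · have : Nontrivial K := (Subgroup.nontrivial_iff_ne_bot K).mpr hK1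
      obtain ⟨p, hp, N₀, hch, -, hpg, hne⟩ :=
        Lib.SolvableMinNormal.exists_characteristic_pgroup (G := K)
      have : Fact p.Prime := ⟨hp⟩
      set N : Subgroup G := N₀.map K.subtype with hN
      have hNn : N.Normal := by
        rw [hN]; infer_instance
      have hNK : N ≤ K := Subgroup.map_subtype_le _
      have hNe : N ≠ ⊥ := by
        rw [hN, Ne, Subgroup.map_eq_bot_iff_of_injective _ K.subtype_injective]
        exact hne
      have hNp : IsPGroup p N := hpg.map _
      have hlt : Nat.card (G ⧸ N) < n := by
        rw [← hn, ← N.index_mul_card, ← N.index_eq_card]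
        exact lt_mul_of_one_lt_right (Nat.pos_of_ne_zero Subgroup.index_ne_zero_of_finite)
          (N.one_lt_card_iff_ne_bot.mpr hNe)
      have hKn : (K.map (QuotientGroup.mk' N)).Normal :=
        Subgroup.Normal.map inferInstance _ (QuotientGroup.mk'_surjective N)
      have hKs : Group.IsSolvable (K.map (QuotientGroup.mk' N)) :=
        Group.isSolvable_of_surjective (f := (QuotientGroup.mk' N).subgroupMap K)
          ((QuotientGroup.mk' N).subgroupMap_surjective K)
      have hKi : (K.map (QuotientGroup.mk' N)).index = K.index :=
        Subgroup.index_map_eq K (QuotientGroup.mk'_surjective N)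
          (by rw [QuotientGroup.ker_mk']; exact hNK)
      have hquo := ih _ hlt (G ⧸ N) rfl (K.map (QuotientGroup.mk' N)) hKs (by rw [hKi]; exact hidx)
      refine DClass.step G N ?_ hquo
      obtain ⟨m, hm⟩ := IsPGroup.iff_card.mp hNp
      by_cases hpσ : p ∈ σ
      · left
        intro q hq hd
        rw [hm] at hd
        rwa [(Nat.prime_dvd_prime_iff_eq hq hp).mp (hq.dvd_of_dvd_pow hd)]
      · right
        refine ⟨?_, ?_⟩
        · intro q hq hd
          rw [hm] at hd
          rwa [(Nat.prime_dvd_prime_iff_eq hq hp).mp (hq.dvd_of_dvd_pow hd)]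
        · have := hNp.isNilpotent
          infer_instance

end Cfsg.Agent.H442.HallGen
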