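import Cfsg.Agent.H504.Zeros
import Cfsg.Agent.H727.PslSq
import Cfsg.Agent.H627.PrincipalCount
import Cfsg.Agent.SmallSimple.DihedralNormalizerSimple
import Cfsg.Agent.S0253
import Cfsg.Agent.S0254
import Cfsg.Agent.S1005
import Cfsg.Agent.SmallSimple.S1000.PSLFacts

/-!
# S4895: the exceptions `A₅`, `PSL₂(7)`, `A₆` (helper442)
-/

set_option autoImplicit false

namespace Cfsg.Agent.H442.ZerosSmall

open Cfsg Cfsg.Agent.H504.Zeros Cfsg.Agent.Characters.Core Cfsg.Agent.H727.DegCount Matrix

universe u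

variable {G : Type u} [Group G]

/-- the number of irreducible characters vanishing at `g` -/
noncomputable def zn (g : G) : ℕ := Nat.card {χ : IrrCharacter G // (χ : G → ℂ) g = 0}

theorem zn_one [Finite G] : zn (1 : G) = 0 := by
  have : IsEmpty {χ : IrrCharacter G // (χ : G → ℂ) 1 = 0} :=
    ⟨fun χ => isIrr_apply_one_ne_zero χ.1.2 χ.2⟩
  exact Nat.card_of_isEmpty

/-- the number of zeros by columns -/
theorem card_ZP_le [Finite G] (s : Finset G) (hs : NonConj s) (M k : ℕ)
    (hk : Nat.card (ConjClasses G) = k) (hM : ∀ g : G, zn g ≤ M) :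
    Nat.card (ZP G) ≤ ∑ g ∈ s, zn g + (k - s.card) * M := by
  classical
  have := finite_irr (G := G)
  have hf : Finite (ConjClasses G) := inferInstance
  have := Fintype.ofFinite (ConjClasses G)
  let Z : ConjClasses G → Type u := fun c =>
    {χ : IrrCharacter G // ∀ g : G, ConjClasses.mk g = c → (χ : G → ℂ) g = 0}
  have hZ : ∀ g : G, Nat.card (Z (ConjClasses.mk g)) ≤ zn g := fun g =>
    Nat.card_le_card_of_injective (fun χ => ⟨χ.1, χ.2 g rfl⟩) fun χ ψ h =>
      Subtype.ext (congrArg (fun y : {χ : IrrCharacter G // (χ : G → ℂ) g = 0} => y.1) h)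
  let f : ZP G → Σ c : ConjClasses G, Z c := fun x => ⟨x.1.2, ⟨x.1.1, x.2.2⟩⟩
  have hfi : Function.Injective f := by
    rintro ⟨⟨χ, c⟩, h⟩ ⟨⟨ψ, d⟩, h'⟩ hh
    simp only [f, Sigma.mk.injEq] at hh
    obtain ⟨h1, h2⟩ := hh
    subst h1
    have h3 := eq_of_heq h2
    have h4 : χ = ψ := congrArg Subtype.val h3
    subst h4
    rfl
  have h1 := Nat.card_le_card_of_injective f hfi
  rw [Nat.card_sigma] at h1
  refine h1.trans ?_
  have hinj : Set.InjOn (ConjClasses.mk : G → ConjClasses G) s := by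
    intro a ha b hb hab
    exact hs a ha b hb (ConjClasses.mk_eq_mk_iff_isConj.1 hab)
  rw [← Finset.sum_add_sum_compl (s.image ConjClasses.mk)]
  refine add_le_add ?_ ?_
  · rw [Finset.sum_image fun a ha b hb h => hinj ha hb h]
    exact Finset.sum_le_sum fun g _ => hZ g
  · refine (Finset.sum_le_card_nsmul _ _ M fun c _ => ?_).trans ?_
    · obtain ⟨g, rfl⟩ := Quotient.exists_rep c
      exact (hZ g).trans (hM g)
    · rw [smul_eq_mul, Finset.card_compl, Finset.card_image_of_injOn hinj,
        ← Nat.card_eq_fintype_card, hk]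

/-- the characters of given degrees -/
theorem card_filter [Finite G] (P : ℕ → Prop) [DecidablePred P] (S : Finset ℕ)
    (hS : ∀ d, 0 < cnt G d → d ∈ S) :
    Nat.card {χ : IrrCharacter G // P (charDegree (χ : G → ℂ))} = ∑ d ∈ S.filter P, cnt G d := by
  classical
  have := finite_irr (G := G)
  have := Fintype.ofFinite (IrrCharacter G)
  have hc : ∀ (χ : IrrCharacter G) (d : ℕ), (χ : G → ℂ) 1 = (d : ℂ) ↔ charDegree (χ : G → ℂ) = d := by
    intro χ d
    rw [← charDegree_cast_irr χ]
    exact ⟨fun h => by exact_mod_cast h, fun h => by rw [h]⟩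
  rw [Nat.card_eq_fintype_card, Fintype.card_subtype]
  have h1 : ∀ d, cnt G d = (Finset.univ.filter
      (fun χ : IrrCharacter G => charDegree (χ : G → ℂ) = d)).card := by
    intro d
    rw [cnt, Nat.card_eq_fintype_card, Fintype.card_subtype]
    congr 1
    ext χ
    simp only [Finset.mem_filter, Finset.mem_univ, true_and]
    exact hc χ d
  have h2 : (Finset.univ.filter (fun χ : IrrCharacter G => P (charDegree (χ : G → ℂ)))) =
      (S.filter P).biUnion (fun d => Finset.univ.filter
        (fun χ : IrrCharacter G => charDegree (χ : G → ℂ) = d)) := by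
    ext χ
    simp only [Finset.mem_filter, Finset.mem_univ, true_and, Finset.mem_biUnion]
    constructor
    · intro h
      refine ⟨_, ⟨hS _ ?_, h⟩, rfl⟩
      exact cnt_pos χ ((hc χ _).2 rfl)
    · rintro ⟨d, ⟨-, hd⟩, rfl⟩
      exact hd
  rw [h2, Finset.card_biUnion]
  · exact Finset.sum_congr rfl fun d _ => (h1 d).symm
  · intro a _ b _ hab
    rw [Function.onFun, Finset.disjoint_left]
    intro χ h3 h4
    simp only [Finset.mem_filter, Finset.mem_univ, true_and] at h3 h4
    exact hab (h3.symm.trans h4)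

theorem card_classes [Finite G] (S : Finset ℕ) (hS : ∀ d, 0 < cnt G d → d ∈ S) :
    Nat.card (ConjClasses G) = ∑ d ∈ S, cnt G d := by
  have h := card_filter (G := G) (fun _ => True) S hS
  rw [Finset.filter_true] at h
  rw [← h, ← Cfsg.Agent.Characters.Core.card_irr]
  exact Nat.card_congr (Equiv.subtypeUnivEquiv fun _ => trivial).symm

theorem card_NL [Finite G] (S : Finset ℕ) (hS : ∀ d, 0 < cnt G d → d ∈ S) :
    Nat.card (NL G) = ∑ d ∈ S.filter (fun d => d ≠ 1), cnt G d :=
  card_filter (G := G) (fun d => d ≠ 1) S hS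

/-- `p`-elements are zeros of characters of degree divisible by `p` only -/
theorem zn_le [Finite G] {p : ℕ} [Fact p.Prime] (S : Finset ℕ) (hS : ∀ d, 0 < cnt G d → d ∈ S)
    {g : G} (hg : ∃ k : ℕ, orderOf g = p ^ k) :
    zn g ≤ ∑ d ∈ S.filter (fun d => p ∣ d), cnt G d := by
  have := finite_irr (G := G)
  rw [← card_filter (G := G) (fun d => p ∣ d) S hS]
  refine Nat.card_le_card_of_injective (fun χ => ⟨χ.1, ?_⟩) fun χ ψ h => Subtype.ext ?_
  · by_contra hd
    exact Cfsg.Agent.H627.PrincipalCount.apply_ne_zero (isIrr_isCharacter χ.1.2) hd g hg χ.2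
  · exact congrArg (fun y : {χ : IrrCharacter G // p ∣ charDegree (χ : G → ℂ)} => y.1) h

/-! ### degrees -/

/-- The degrees of `PSL(2, q)`, `q = 2 h + 1`: bounds. -/
theorem psl_deg {F : Type*} [Field F] [Fintype F] {h : ℕ} (hq : Fintype.card F = 2 * h + 1)
    (h2 : 2 ≤ h) :
    (∀ d, 0 < cnt (ProjectiveSpecialLinearGroup (Fin 2) F) d →
      d ∈ ({1, 2 * h + 1, h + 1, h, 2 * h + 2, 2 * h} : Finset ℕ)) ∧
    cnt (ProjectiveSpecialLinearGroup (Fin 2) F) 1 = 1 ∧
    cnt (ProjectiveSpecialLinearGroup (Fin 2) F) (2 * h + 1) ≤ 1 ∧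
    cnt (ProjectiveSpecialLinearGroup (Fin 2) F) (h + 1) ≤ 2 ∧
    cnt (ProjectiveSpecialLinearGroup (Fin 2) F) h ≤ 2 ∧
    cnt (ProjectiveSpecialLinearGroup (Fin 2) F) (2 * h + 2) + 1 ≤ h ∧
    cnt (ProjectiveSpecialLinearGroup (Fin 2) F) (2 * h) ≤ h ∧
    Nat.card (ProjectiveSpecialLinearGroup (Fin 2) F) = 2 * h * (h + 1) * (2 * h + 1) := by
  classical
  have hfin : Finite (ProjectiveSpecialLinearGroup (Fin 2) F) := by
    unfold Matrix.ProjectiveSpecialLinearGroup
    infer_instance
  have hodd : Odd (Fintype.card F) := ⟨h, hq⟩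
  obtain ⟨nu, hnu⟩ := H670.SL2.exists_not_square (F := F) hodd
  have hcard : Nat.card (ProjectiveSpecialLinearGroup (Fin 2) F) = 2 * h * (h + 1) * (2 * h + 1) := by
    have h1 := ClassicalGeometry.PSL2Basic.card_PSL2_odd (F := F) hodd
    rw [hq] at h1
    have h2 : (2 * h + 1) ^ 2 - 1 = 4 * h * (h + 1) := by
      have : (2 * h + 1) ^ 2 = 4 * h * (h + 1) + 1 := by ring
      omega
    rw [h2] at h1
    have h3 : Nat.card (ProjectiveSpecialLinearGroup (Fin 2) F) * 2 =
        (2 * h * (h + 1) * (2 * h + 1)) * 2 := by rw [h1]; ring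
    omega
  have hSL : ∀ d, cnt (SpecialLinearGroup (Fin 2) F) d =
      (h - 1) * (if 2 * h + 2 = d then 1 else 0) + (if 1 = d then 1 else 0) +
      2 * (if h + 1 = d then 1 else 0) + (if 2 * h + 1 = d then 1 else 0) +
      h * (if 2 * h = d then 1 else 0) + 2 * (if h = d then 1 else 0) := fun d =>
    H670.SL2.card_degree hnu hq (d : ℂ) d rfl
  have hle : ∀ d, cnt (ProjectiveSpecialLinearGroup (Fin 2) F) d ≤
      cnt (SpecialLinearGroup (Fin 2) F) d := fun d =>
    cnt_le (QuotientGroup.mk' _) (QuotientGroup.mk'_surjective _) d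
  refine ⟨?_, le_antisymm ?_ cnt_one_pos, ?_, ?_, ?_, ?_, ?_, hcard⟩
  · intro d hd
    have h1 := hle d
    rw [hSL] at h1
    simp only [Finset.mem_insert, Finset.mem_singleton]
    by_contra hc
    push Not at hc
    obtain ⟨c1, c2, c3, c4, c5, c6⟩ := hc
    rw [if_neg (Ne.symm c5), if_neg (Ne.symm c1), if_neg (Ne.symm c3), if_neg (Ne.symm c2),
      if_neg (Ne.symm c6), if_neg (Ne.symm c4)] at h1
    omega
  · refine (hle 1).trans (le_of_eq ?_)
    rw [hSL, if_neg (by omega), if_pos rfl, if_neg (by omega), if_neg (by omega), if_neg (by omega),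
      if_neg (by omega)]
    simp
  · refine (hle _).trans (le_of_eq ?_)
    rw [hSL, if_neg (by omega), if_neg (by omega), if_neg (by omega), if_pos rfl, if_neg (by omega),
      if_neg (by omega)]
    simp
  · refine (hle _).trans (le_of_eq ?_)
    rw [hSL, if_neg (by omega), if_neg (by omega), if_pos rfl, if_neg (by omega), if_neg (by omega),
      if_neg (by omega)]
    simp
  · refine (hle _).trans (le_of_eq ?_)
    rw [hSL, if_neg (by omega), if_neg (by omega), if_neg (by omega), if_neg (by omega),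
      if_neg (by omega), if_pos rfl]
    simp
  · have h1 := hle (2 * h + 2)
    rw [hSL, if_pos rfl, if_neg (by omega), if_neg (by omega), if_neg (by omega), if_neg (by omega),
      if_neg (by omega)] at h1
    omega
  · have h1 := hle (2 * h)
    rw [hSL, if_neg (by omega), if_neg (by omega), if_neg (by omega), if_neg (by omega), if_pos rfl,
      if_neg (by omega)] at h1
    omega

theorem cnt_congr {H : Type*} [Group H] [Finite G] [Finite H] (e : G ≃* H) (d : ℕ) :
    cnt G d = cnt H d :=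
  le_antisymm (cnt_le e.symm.toMonoidHom e.symm.surjective d) (cnt_le e.toMonoidHom e.surjective d)

/-- the degrees of a group of order 60 in the list -/
structure Deg5 (G : Type*) [Group G] : Prop where
  mem : ∀ d, 0 < cnt G d → d ∈ ({1, 3, 4, 5} : Finset ℕ)
  one : cnt G 1 = 1
  three : cnt G 3 = 2
  four : cnt G 4 = 1
  five : cnt G 5 = 1

structure Deg7 (G : Type*) [Group G] : Prop where
  mem : ∀ d, 0 < cnt G d → d ∈ ({1, 3, 6, 7, 8} : Finset ℕ)
  one : cnt G 1 = 1
  three : cnt G 3 = 2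
  six : cnt G 6 = 1
  seven : cnt G 7 = 1
  eight : cnt G 8 = 1

structure Deg9 (G : Type*) [Group G] : Prop where
  mem : ∀ d, 0 < cnt G d → d ∈ ({1, 5, 8, 9, 10} : Finset ℕ)
  one : cnt G 1 = 1
  five : cnt G 5 = 2
  eight : cnt G 8 = 2
  nine : cnt G 9 = 1
  ten : cnt G 10 = 1

theorem num5 {a b c d e : ℕ} (ha : a ≤ 1) (hb : b ≤ 2) (hc : c ≤ 2) (hd : d + 1 ≤ 2) (he : e ≤ 2)
    (h : 1 + 25 * a + 9 * b + 4 * c + 36 * d + 16 * e = 60) :
    a = 1 ∧ b = 2 ∧ c = 0 ∧ d = 0 ∧ e = 1 := by
  have hd' : d ≤ 1 := by omega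
  interval_cases a <;> interval_cases b <;> interval_cases c <;> interval_cases d <;> omega

theorem num7 {a b c d e : ℕ} (ha : a ≤ 1) (hb : b ≤ 2) (hc : c ≤ 2) (hd : d + 1 ≤ 3) (he : e ≤ 3)
    (h : 1 + 49 * a + 16 * b + 9 * c + 64 * d + 36 * e = 168) :
    a = 1 ∧ b = 0 ∧ c = 2 ∧ d = 1 ∧ e = 1 := by
  have hd' : d ≤ 2 := by omega
  interval_cases a <;> interval_cases b <;> interval_cases c <;> interval_cases d <;> omega

theorem deg5 {F : Type*} [Field F] [Fintype F] (hq : Fintype.card F = 5) :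
    Deg5 (ProjectiveSpecialLinearGroup (Fin 2) F) := by
  have hfin : Finite (ProjectiveSpecialLinearGroup (Fin 2) F) := by
    unfold Matrix.ProjectiveSpecialLinearGroup
    infer_instance
  obtain ⟨h1, h2, h3, h4, h5, h6, h7, h8⟩ := psl_deg (F := F) (h := 2) hq le_rfl
  have h6' : cnt (ProjectiveSpecialLinearGroup (Fin 2) F) 6 + 1 ≤ 2 := h6
  norm_num at h3 h4 h5 h7 h8
  have hsum := sum_cnt _ h1
  rw [h8] at hsum
  have e1 : ({1, 2 * 2 + 1, 2 + 1, 2, 2 * 2 + 2, 2 * 2} : Finset ℕ) = {1, 5, 3, 2, 6, 4} := by decide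
  rw [e1] at hsum h1
  rw [Finset.sum_insert (by decide), Finset.sum_insert (by decide), Finset.sum_insert (by decide),
    Finset.sum_insert (by decide), Finset.sum_insert (by decide), Finset.sum_singleton, h2] at hsum
  obtain ⟨a1, a2, a3, a4, a5⟩ := num5 h3 h4 h5 h6' h7 (by rw [← hsum]; ring)
  refine ⟨fun d hd => ?_, h2, a2, a5, a1⟩
  have := h1 d hd
  simp only [Finset.mem_insert, Finset.mem_singleton] at this ⊢
  rcases this with rfl | rfl | rfl | rfl | rfl | rfl <;> first | omega

theorem deg7 {F : Type*} [Field F] [Fintype F] (hq : Fintype.card F = 7) :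
    Deg7 (ProjectiveSpecialLinearGroup (Fin 2) F) := by
  have hfin : Finite (ProjectiveSpecialLinearGroup (Fin 2) F) := by
    unfold Matrix.ProjectiveSpecialLinearGroup
    infer_instance
  obtain ⟨h1, h2, h3, h4, h5, h6, h7, h8⟩ := psl_deg (F := F) (h := 3) hq (by norm_num)
  have h6' : cnt (ProjectiveSpecialLinearGroup (Fin 2) F) 8 + 1 ≤ 3 := h6
  norm_num at h3 h4 h5 h7 h8
  have hsum := sum_cnt _ h1
  rw [h8] at hsum
  have e1 : ({1, 2 * 3 + 1, 3 + 1, 3, 2 * 3 + 2, 2 * 3} : Finset ℕ) = {1, 7, 4, 3, 8, 6} := by decide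
  rw [e1] at hsum h1
  rw [Finset.sum_insert (by decide), Finset.sum_insert (by decide), Finset.sum_insert (by decide),
    Finset.sum_insert (by decide), Finset.sum_insert (by decide), Finset.sum_singleton, h2] at hsum
  obtain ⟨a1, a2, a3, a4, a5⟩ := num7 h3 h4 h5 h6' h7 (by rw [← hsum]; ring)
  refine ⟨fun d hd => ?_, h2, a3, a5, a1, a4⟩
  have := h1 d hd
  simp only [Finset.mem_insert, Finset.mem_singleton] at this ⊢
  rcases this with rfl | rfl | rfl | rfl | rfl | rfl <;> first | omega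

theorem deg9 {F : Type*} [Field F] [Fintype F] (hq : Fintype.card F = 9) :
    Deg9 (ProjectiveSpecialLinearGroup (Fin 2) F) := by
  obtain ⟨h1, h2, h3, h4, h5, h6, -⟩ := H727.PslSq.psl_degrees (F := F) (h := 4) hq le_rfl (by decide)
  have h5' : 2 * cnt (ProjectiveSpecialLinearGroup (Fin 2) F) 10 + 2 = 4 := h5
  have h6' : 2 * cnt (ProjectiveSpecialLinearGroup (Fin 2) F) 8 = 4 := h6
  refine ⟨fun d hd => ?_, h2, h4, by omega, h3, by omega⟩
  have := h1 d hd
  simp only [Finset.mem_insert, Finset.mem_singleton] at this ⊢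
  rcases this with rfl | rfl | rfl | rfl | rfl <;> omega

theorem Deg5.congr {H : Type*} [Group H] [Finite G] [Finite H] (e : G ≃* H) (h : Deg5 G) : Deg5 H :=
  ⟨fun d hd => h.mem d (by rwa [cnt_congr e]), by rw [← cnt_congr e, h.one],
    by rw [← cnt_congr e, h.three], by rw [← cnt_congr e, h.four], by rw [← cnt_congr e, h.five]⟩

theorem Deg9.congr {H : Type*} [Group H] [Finite G] [Finite H] (e : G ≃* H) (h : Deg9 G) : Deg9 H :=
  ⟨fun d hd => h.mem d (by rwa [cnt_congr e]), by rw [← cnt_congr e, h.one],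
    by rw [← cnt_congr e, h.five], by rw [← cnt_congr e, h.eight], by rw [← cnt_congr e, h.nine],
    by rw [← cnt_congr e, h.ten]⟩

/-! ### `A₅` -/

theorem deg_a5 : Deg5 (alternatingGroup (Fin 5)) := by
  have hfin : Finite (ProjectiveSpecialLinearGroup (Fin 2) (ZMod 5)) := by
    unfold Matrix.ProjectiveSpecialLinearGroup
    infer_instance
  have : Fact (Nat.Prime 5) := ⟨by norm_num⟩
  obtain ⟨e⟩ := S0253.result (F := ZMod 5) (ZMod.card 5)
  exact (deg5 (ZMod.card 5)).congr e

theorem pow_a5 : ∀ g : alternatingGroup (Fin 5), g ^ 2 = 1 ∨ g ^ 3 = 1 ∨ g ^ 5 = 1 := by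
  decide +kernel

theorem exists_pow {p n : ℕ} (hp : p.Prime) {g : G} (h : g ^ p ^ n = 1) : ∃ k : ℕ, orderOf g = p ^ k := by
  obtain ⟨k, -, hk⟩ := (Nat.dvd_prime_pow hp).1 (orderOf_dvd_of_pow_eq_one h)
  exact ⟨k, hk⟩

theorem exists_pow' {p : ℕ} (hp : p.Prime) {g : G} (h : g ^ p = 1) : ∃ k : ℕ, orderOf g = p ^ k :=
  exists_pow hp (n := 1) (by rwa [pow_one])

/-- **the exception `A₅`** -/
theorem le_a5 : Nat.card (ZP (alternatingGroup (Fin 5))) ≤
    7 + Nat.card (NL (alternatingGroup (Fin 5))) := by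
  have D := deg_a5
  have h2 : Fact (Nat.Prime 2) := ⟨by norm_num⟩
  have h3 : Fact (Nat.Prime 3) := ⟨by norm_num⟩
  have h5 : Fact (Nat.Prime 5) := ⟨by norm_num⟩
  have hk := card_classes _ D.mem
  have hNL := card_NL _ D.mem
  rw [Finset.sum_insert (by decide), Finset.sum_insert (by decide), Finset.sum_insert (by decide),
    Finset.sum_singleton, D.one, D.three, D.four, D.five] at hk
  rw [show ({1, 3, 4, 5} : Finset ℕ).filter (fun d => d ≠ 1) = {3, 4, 5} by decide,
    Finset.sum_insert (by decide), Finset.sum_insert (by decide),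
    Finset.sum_singleton, D.three, D.four, D.five] at hNL
  have hM : ∀ g : alternatingGroup (Fin 5), zn g ≤ 2 := by
    intro g
    rcases pow_a5 g with h | h | h
    · refine (zn_le _ D.mem (exists_pow' Nat.prime_two h)).trans ?_
      rw [show ({1, 3, 4, 5} : Finset ℕ).filter (fun d => 2 ∣ d) = {4} by decide,
        Finset.sum_singleton, D.four]
      norm_num
    · refine (zn_le _ D.mem (exists_pow' Nat.prime_three h)).trans ?_
      rw [show ({1, 3, 4, 5} : Finset ℕ).filter (fun d => 3 ∣ d) = {3} by decide,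
        Finset.sum_singleton, D.three]
    · refine (zn_le _ D.mem (exists_pow' Nat.prime_five h)).trans ?_
      rw [show ({1, 3, 4, 5} : Finset ℕ).filter (fun d => 5 ∣ d) = {5} by decide,
        Finset.sum_singleton, D.five]
      norm_num
  have h := card_ZP_le {(1 : alternatingGroup (Fin 5))} (by
    intro g hg h hh _
    rw [Finset.mem_singleton] at hg hh
    rw [hg, hh]) 2 _ hk hM
  rw [Finset.sum_singleton, zn_one, Finset.card_singleton] at h
  rw [hNL]
  omega

/-! ### `PSL₂(7)` -/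

/-- **the exception `PSL₂(7)`** -/
theorem le_l7 : Nat.card (ZP (ProjectiveSpecialLinearGroup (Fin 2) (ZMod 7))) ≤
    7 + Nat.card (NL (ProjectiveSpecialLinearGroup (Fin 2) (ZMod 7))) := by
  classical
  have h2 : Fact (Nat.Prime 2) := ⟨by norm_num⟩
  have h3 : Fact (Nat.Prime 3) := ⟨by norm_num⟩
  have h7 : Fact (Nat.Prime 7) := ⟨by norm_num⟩
  have hfin : Finite (ProjectiveSpecialLinearGroup (Fin 2) (ZMod 7)) := by
    unfold Matrix.ProjectiveSpecialLinearGroup
    infer_instance
  have D := deg7 (F := ZMod 7) (ZMod.card 7)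
  have hk := card_classes _ D.mem
  have hNL := card_NL _ D.mem
  rw [Finset.sum_insert (by decide), Finset.sum_insert (by decide), Finset.sum_insert (by decide),
    Finset.sum_insert (by decide), Finset.sum_singleton, D.one, D.three, D.six, D.seven, D.eight] at hk
  rw [show ({1, 3, 6, 7, 8} : Finset ℕ).filter (fun d => d ≠ 1) = {3, 6, 7, 8} by decide,
    Finset.sum_insert (by decide), Finset.sum_insert (by decide), Finset.sum_insert (by decide),
    Finset.sum_singleton, D.three, D.six, D.seven, D.eight] at hNL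
  have hcard : Nat.card (ProjectiveSpecialLinearGroup (Fin 2) (ZMod 7)) = 168 :=
    SmallSimple.PSLFacts.card_psl_two_seven (ZMod.card 7)
  have hsimple : IsSimpleGroup (ProjectiveSpecialLinearGroup (Fin 2) (ZMod 7)) :=
    TwoFusion.SLTwoFacts.isSimpleGroup_psl (by rw [ZMod.card]; norm_num)
  obtain ⟨hord, -, -⟩ := S1005.result hcard
  have z2 : ∀ {g : ProjectiveSpecialLinearGroup (Fin 2) (ZMod 7)}, (∃ k, orderOf g = 2 ^ k) → zn g ≤ 2 := by
    intro g hg
    refine (zn_le _ D.mem hg).trans ?_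
    rw [show ({1, 3, 6, 7, 8} : Finset ℕ).filter (fun d => 2 ∣ d) = {6, 8} by decide,
      Finset.sum_insert (by decide), Finset.sum_singleton, D.six, D.eight]
  have z3 : ∀ {g : ProjectiveSpecialLinearGroup (Fin 2) (ZMod 7)}, (∃ k, orderOf g = 3 ^ k) → zn g ≤ 3 := by
    intro g hg
    refine (zn_le _ D.mem hg).trans ?_
    rw [show ({1, 3, 6, 7, 8} : Finset ℕ).filter (fun d => 3 ∣ d) = {3, 6} by decide,
      Finset.sum_insert (by decide), Finset.sum_singleton, D.three, D.six]
  have z7 : ∀ {g : ProjectiveSpecialLinearGroup (Fin 2) (ZMod 7)}, (∃ k, orderOf g = 7 ^ k) → zn g ≤ 1 := by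
    intro g hg
    refine (zn_le _ D.mem hg).trans ?_
    rw [show ({1, 3, 6, 7, 8} : Finset ℕ).filter (fun d => 7 ∣ d) = {7} by decide,
      Finset.sum_singleton, D.seven]
  have hM : ∀ g : ProjectiveSpecialLinearGroup (Fin 2) (ZMod 7), zn g ≤ 3 := by
    intro g
    rcases hord g with h | h | h | h | h
    · exact (z2 ⟨0, h⟩).trans (by norm_num)
    · exact (z2 ⟨1, h⟩).trans (by norm_num)
    · exact z3 ⟨1, h⟩
    · exact (z2 ⟨2, h⟩).trans (by norm_num)
    · exact (z7 ⟨1, h⟩).trans (by norm_num)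
  obtain ⟨t, ht⟩ := exists_prime_orderOf_dvd_card' (G := ProjectiveSpecialLinearGroup (Fin 2) (ZMod 7)) 2
    (by rw [hcard]; norm_num)
  obtain ⟨x, hx⟩ := exists_prime_orderOf_dvd_card' (G := ProjectiveSpecialLinearGroup (Fin 2) (ZMod 7)) 7
    (by rw [hcard]; norm_num)
  have n1 : (1 : ProjectiveSpecialLinearGroup (Fin 2) (ZMod 7)) ∉ ({t, x} : Finset _) := by
    rw [Finset.mem_insert, Finset.mem_singleton]
    rintro (h | h)
    · rw [← h, orderOf_one] at ht
      omega
    · rw [← h, orderOf_one] at hx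
      omega
  have n2 : t ∉ ({x} : Finset _) := by
    rw [Finset.mem_singleton]
    rintro rfl
    omega
  have h := card_ZP_le {1, t, x} (by
    have hord' : ∀ {g h : ProjectiveSpecialLinearGroup (Fin 2) (ZMod 7)}, IsConj g h →
        orderOf g = orderOf h := by
      intro g h hgh
      obtain ⟨c, rfl⟩ := isConj_iff.1 hgh
      exact ((MulAut.conj c).orderOf_eq g).symm
    intro g hg h hh hgh
    have ho := hord' hgh
    simp only [Finset.mem_insert, Finset.mem_singleton] at hg hh
    rcases hg with rfl | rfl | rfl <;> rcases hh with rfl | rfl | rfl <;>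
      first
        | rfl
        | (exfalso; simp only [orderOf_one, ht, hx] at ho; omega)) 3 _ hk hM
  rw [Finset.sum_insert n1, Finset.sum_insert n2, Finset.sum_singleton, zn_one,
    Finset.card_insert_of_notMem n1, Finset.card_insert_of_notMem n2, Finset.card_singleton] at h
  have e1 := z2 (g := t) ⟨1, ht⟩
  have e2 := z7 (g := x) ⟨1, hx⟩
  rw [hNL]
  omega

/-! ### `A₆` -/

theorem deg_a6 : Deg9 (alternatingGroup (Fin 6)) := by
  have : Fact (Nat.Prime 3) := ⟨by norm_num⟩
  have := Fintype.ofFinite (GaloisField 3 2)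
  have hc : Fintype.card (GaloisField 3 2) = 9 := by
    rw [← Nat.card_eq_fintype_card, GaloisField.card 3 2 (by norm_num)]
    norm_num
  have hfin : Finite (ProjectiveSpecialLinearGroup (Fin 2) (GaloisField 3 2)) := by
    unfold Matrix.ProjectiveSpecialLinearGroup
    infer_instance
  obtain ⟨e⟩ := S0254.result (F := GaloisField 3 2) hc
  exact (deg9 hc).congr e

theorem pow_a6 : ∀ g : alternatingGroup (Fin 6), g ^ 4 = 1 ∨ g ^ 3 = 1 ∨ g ^ 5 = 1 := by
  decide +kernel

/-- an irreducible character of degree 2 mod 4 does not vanish at involutions -/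
theorem apply_ne_zero_of_two_mod_four [Finite G] (hG : commutator G = ⊤) (χ : IrrCharacter G) {t : G}
    (ht : t * t = 1) (h : charDegree (χ : G → ℂ) % 4 = 2) : (χ : G → ℂ) t ≠ 0 := by
  obtain ⟨n, ρ, hρ, hχ⟩ := χ.2
  obtain ⟨m, -, h1, h2⟩ := SmallSimple.DihedralNormalizerSimple.exists_of_involution ρ t ht
  have hdet : LinearMap.det (ρ t) = 1 := by
    let f : G →* ℂˣ := (Units.map (LinearMap.det : ((Fin n → ℂ) →ₗ[ℂ] (Fin n → ℂ)) →* ℂ)).comp
      (MonoidHom.toHomUnits ρ)
    have h3 : commutator G ≤ f.ker := Abelianization.commutator_subset_ker f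
    rw [hG] at h3
    have h4 : f t = 1 := h3 (Subgroup.mem_top t)
    have h5 := congrArg (fun u : ℂˣ => (u : ℂ)) h4
    exact h5
  have hm : Even m := by
    by_contra hm
    rw [Nat.not_even_iff_odd] at hm
    rw [hdet, hm.neg_one_pow] at h2
    norm_num at h2
  have hd : charDegree (χ : G → ℂ) = n := by
    have h3 := charDegree_cast_irr χ
    rw [← hχ, Representation.char_one] at h3
    simp only [Module.finrank_fintype_fun_eq_card, Fintype.card_fin] at h3
    rw [← hχ]
    exact_mod_cast h3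
  intro h0
  rw [← hχ, h1] at h0
  have h6 : (n : ℂ) = ((2 * m : ℕ) : ℂ) := by
    push_cast
    linear_combination h0
  have h7 : n = 2 * m := by exact_mod_cast h6
  obtain ⟨j, rfl⟩ := hm
  omega

/-- a 3-cycle -/
def c3 : alternatingGroup (Fin 6) := ⟨Equiv.swap 0 1 * Equiv.swap 1 2,
  Equiv.Perm.mem_alternatingGroup.2 (by decide +kernel)⟩
/-- a product of two 3-cycles -/
def d3 : alternatingGroup (Fin 6) :=
  ⟨Equiv.swap 0 1 * Equiv.swap 1 2 * (Equiv.swap 3 4 * Equiv.swap 4 5),
  Equiv.Perm.mem_alternatingGroup.2 (by decide +kernel)⟩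
/-- an involution -/
def t2 : alternatingGroup (Fin 6) := ⟨Equiv.swap 0 1 * Equiv.swap 2 3,
  Equiv.Perm.mem_alternatingGroup.2 (by decide +kernel)⟩

theorem c3_pow : c3 ^ 3 = 1 := by decide +kernel
theorem d3_pow : d3 ^ 3 = 1 := by decide +kernel
theorem t2_pow : t2 * t2 = 1 := by decide +kernel
theorem c3_ne : c3 ≠ 1 := by decide +kernel
theorem d3_ne : d3 ≠ 1 := by decide +kernel
theorem t2_ne : t2 ≠ 1 := by decide +kernel
theorem c3_d3 : ∀ g : alternatingGroup (Fin 6), g * c3 ≠ d3 * g := by decide +kernel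

theorem perfect_a6 : commutator (alternatingGroup (Fin 6)) = ⊤ := commutator_eq_top_of_cnt deg_a6.one

/-- **the exception `A₆`** -/
theorem le_a6 : Nat.card (ZP (alternatingGroup (Fin 6))) ≤
    7 + Nat.card (NL (alternatingGroup (Fin 6))) := by
  classical
  have D := deg_a6
  have h2 : Fact (Nat.Prime 2) := ⟨by norm_num⟩
  have h3 : Fact (Nat.Prime 3) := ⟨by norm_num⟩
  have h5 : Fact (Nat.Prime 5) := ⟨by norm_num⟩
  have hk := card_classes _ D.mem
  have hNL := card_NL _ D.mem
  rw [Finset.sum_insert (by decide), Finset.sum_insert (by decide), Finset.sum_insert (by decide),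
    Finset.sum_insert (by decide), Finset.sum_singleton, D.one, D.five, D.eight, D.nine, D.ten] at hk
  rw [show ({1, 5, 8, 9, 10} : Finset ℕ).filter (fun d => d ≠ 1) = {5, 8, 9, 10} by decide,
    Finset.sum_insert (by decide), Finset.sum_insert (by decide), Finset.sum_insert (by decide),
    Finset.sum_singleton, D.five, D.eight, D.nine, D.ten] at hNL
  have z2 : ∀ {g : alternatingGroup (Fin 6)}, (∃ k, orderOf g = 2 ^ k) → zn g ≤ 3 := by
    intro g hg
    refine (zn_le _ D.mem hg).trans ?_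
    rw [show ({1, 5, 8, 9, 10} : Finset ℕ).filter (fun d => 2 ∣ d) = {8, 10} by decide,
      Finset.sum_insert (by decide), Finset.sum_singleton, D.eight, D.ten]
  have z3 : ∀ {g : alternatingGroup (Fin 6)}, (∃ k, orderOf g = 3 ^ k) → zn g ≤ 1 := by
    intro g hg
    refine (zn_le _ D.mem hg).trans ?_
    rw [show ({1, 5, 8, 9, 10} : Finset ℕ).filter (fun d => 3 ∣ d) = {9} by decide,
      Finset.sum_singleton, D.nine]
  have z5 : ∀ {g : alternatingGroup (Fin 6)}, (∃ k, orderOf g = 5 ^ k) → zn g ≤ 3 := by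
    intro g hg
    refine (zn_le _ D.mem hg).trans ?_
    rw [show ({1, 5, 8, 9, 10} : Finset ℕ).filter (fun d => 5 ∣ d) = {5, 10} by decide,
      Finset.sum_insert (by decide), Finset.sum_singleton, D.five, D.ten]
  have hM : ∀ g : alternatingGroup (Fin 6), zn g ≤ 3 := by
    intro g
    rcases pow_a6 g with h | h | h
    · exact z2 (exists_pow Nat.prime_two (n := 2) h)
    · exact (z3 (exists_pow' Nat.prime_three h)).trans (by norm_num)
    · exact z5 (exists_pow' Nat.prime_five h)
  -- involutions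
  have zt : zn t2 ≤ 2 := by
    have hf := finite_irr (G := alternatingGroup (Fin 6))
    have h8 := card_filter (G := alternatingGroup (Fin 6)) (fun d => d = 8) _ D.mem
    rw [show ({1, 5, 8, 9, 10} : Finset ℕ).filter (fun d => d = 8) = {8} by decide,
      Finset.sum_singleton, D.eight] at h8
    rw [← h8]
    refine Nat.card_le_card_of_injective (fun χ => ⟨χ.1, ?_⟩) fun χ ψ h => Subtype.ext ?_
    · have hdeg : 0 < cnt (alternatingGroup (Fin 6)) (charDegree (χ.1 : alternatingGroup (Fin 6) → ℂ)) :=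
        cnt_pos χ.1 (charDegree_cast_irr χ.1).symm
      have hmem := D.mem _ hdeg
      have h2d : 2 ∣ charDegree (χ.1 : alternatingGroup (Fin 6) → ℂ) := by
        by_contra hd
        exact Cfsg.Agent.H627.PrincipalCount.apply_ne_zero (p := 2) (isIrr_isCharacter χ.1.2) hd t2
          (exists_pow' Nat.prime_two (by rw [pow_two]; exact t2_pow)) χ.2
      have h10 : charDegree (χ.1 : alternatingGroup (Fin 6) → ℂ) ≠ 10 := by
        intro h10
        exact apply_ne_zero_of_two_mod_four perfect_a6 χ.1 t2_pow (by rw [h10]) χ.2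
      simp only [Finset.mem_insert, Finset.mem_singleton] at hmem
      omega
    · exact congrArg (fun y : {χ : IrrCharacter (alternatingGroup (Fin 6)) //
        charDegree (χ : alternatingGroup (Fin 6) → ℂ) = 8} => y.1) h
  have oc : orderOf c3 = 3 := orderOf_eq_prime c3_pow c3_ne
  have od : orderOf d3 = 3 := orderOf_eq_prime d3_pow d3_ne
  have ot : orderOf t2 = 2 := orderOf_eq_prime (by rw [pow_two]; exact t2_pow) t2_ne
  have hcd : ¬ IsConj c3 d3 := by
    intro h
    obtain ⟨g, hg⟩ := isConj_iff.1 h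
    exact c3_d3 g (by rw [← hg, inv_mul_cancel_right])
  have n1 : (1 : alternatingGroup (Fin 6)) ∉ ({c3, d3, t2} : Finset _) := by
    simp only [Finset.mem_insert, Finset.mem_singleton, not_or]
    exact ⟨c3_ne.symm, d3_ne.symm, t2_ne.symm⟩
  have n2 : c3 ∉ ({d3, t2} : Finset (alternatingGroup (Fin 6))) := by
    simp only [Finset.mem_insert, Finset.mem_singleton, not_or]
    exact ⟨fun h => hcd (h ▸ IsConj.refl _), fun h => by rw [h, ot] at oc; omega⟩
  have n3 : d3 ∉ ({t2} : Finset (alternatingGroup (Fin 6))) := by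
    simp only [Finset.mem_singleton]
    exact fun h => by rw [h, ot] at od; omega
  have h := card_ZP_le {1, c3, d3, t2} (by
    have hord' : ∀ {g h : alternatingGroup (Fin 6)}, IsConj g h → orderOf g = orderOf h := by
      intro g h hgh
      obtain ⟨c, rfl⟩ := isConj_iff.1 hgh
      exact ((MulAut.conj c).orderOf_eq g).symm
    intro g hg h hh hgh
    have ho := hord' hgh
    simp only [Finset.mem_insert, Finset.mem_singleton] at hg hh
    rcases hg with rfl | rfl | rfl | rfl <;> rcases hh with rfl | rfl | rfl | rfl <;>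
      first
        | rfl
        | exact absurd hgh hcd
        | exact absurd hgh.symm hcd
        | (exfalso; simp only [orderOf_one, oc, od, ot] at ho; omega)) 3 _ hk hM
  rw [Finset.sum_insert n1, Finset.sum_insert n2, Finset.sum_insert n3, Finset.sum_singleton, zn_one,
    Finset.card_insert_of_notMem n1, Finset.card_insert_of_notMem n2, Finset.card_insert_of_notMem n3,
    Finset.card_singleton] at h
  have e1 := z3 (g := c3) ⟨1, oc⟩
  have e2 := z3 (g := d3) ⟨1, od⟩
  rw [hNL]
  omega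

end Cfsg.Agent.H442.ZerosSmall
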