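import Cfsg.Agent.H504.ZerosIso
import Cfsg.Agent.H504.ZerosSt
import Cfsg.Agent.H167.HasStLie
import Cfsg.Agent.H870.KSz
import Cfsg.Agent.H101.SzGeo
import Cfsg.Agent.LieExceptional.SuzukiSylow
import Cfsg.Agent.S1158
import Cfsg.Agent.S1159
import Cfsg.Agent.H794.TitsPP
import Cfsg.Agent.H92.ExcTwF4
import Cfsg.Agent.H92.ExcTits
import Cfsg.Agent.H690.Spor.Tits
import Cfsg.Agent.S2184
import Cfsg.Agent.H665.LeonT

/-!
# S4895: the rows `Sz(q)`, `²G₂(q)`, `²F₄(q)` and the Tits group (helper442)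
-/

set_option autoImplicit false

namespace Cfsg.Agent.H442.ZerosTwisted

open Subgroup Cfsg Cfsg.Agent.H92.KTools Cfsg.Agent.H504.Zeros Cfsg.Agent.H504.ZeroTI
  Cfsg.Agent.Characters.Core

/-! ### the Suzuki groups -/

section suzuki

variable {K : Type} [Field K] [Fintype K] {m : ℕ}

theorem big_sz_model (hm : 1 ≤ m) (hK : Fintype.card K = 2 ^ (2 * m + 1)) : Big (Cfsg.Sz K m) := by
  classical
  have hfin : Finite (Cfsg.Sz K m) := inferInstance
  obtain ⟨hcyc, hT⟩ := H101.SzGeo.T_cyclic hm hK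
  have hA : CC (H101.SzGeo.T hK) := by
    refine ⟨fun a ha b hb => ?_, fun a ha ha1 => H101.SzGeo.T_cent hm hK ha ha1⟩
    have := (IsCyclic.commGroup (α := H101.SzGeo.T hK)).mul_comm ⟨a, ha⟩ ⟨b, hb⟩
    exact congrArg Subtype.val this
  have hk : 2 ^ (2 * m + 1) + 3 ≤ Nat.card (ConjClasses (Cfsg.Sz K m)) := by
    have e : Cfsg.Sz K m ≃* ↥(Cfsg.Lie.Sz K (2 ^ (m + 1))) :=
      MulEquiv.ofBijective (H147.Sz.lift hm hK) ⟨H147.Sz.lift_injective hm hK, H147.Sz.lift_surjective hm hK⟩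
    rw [card_classes_congr e]
    exact H870.KSz.q_add_le hm hK
  have hcard := LieExceptional.SuzukiSylow.card_Sz (F := K) hm hK
  obtain ⟨t, ht⟩ : ∃ t, 2 ^ (2 * m + 1) = 8 + 2 * t := by
    have h1 : 2 ^ 3 ≤ 2 ^ (2 * m + 1) := Nat.pow_le_pow_right (by norm_num) (by omega)
    have h2 : 2 ∣ 2 ^ (2 * m + 1) := dvd_pow_self 2 (by omega)
    exact ⟨(2 ^ (2 * m + 1) - 8) / 2, by omega⟩
  rw [ht] at hk hcard hT
  refine big_of_index hA (a := 7 + 2 * t) (n := ((8 + 2 * t) ^ 2 + 1) * (8 + 2 * t) ^ 2) (e := 2)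
    (m := 3 + t) (k := 8 + 2 * t + 3) (by rw [hT]; omega) ?_ ?_ (by omega) (by omega) (by omega) hk ?_
  · rw [hcard, show 8 + 2 * t - 1 = 7 + 2 * t from by omega]
    ring
  · have h1 : ((8 + 2 * t) ^ 2 + 1) * (8 + 2 * t) ^ 2 =
        2 + (7 + 2 * t) * ((8 + 2 * t) ^ 3 + (8 + 2 * t) ^ 2 + 2 * (8 + 2 * t) + 2) := by ring
    rw [h1, Nat.add_mul_mod_self_left, Nat.mod_eq_of_lt (by omega)]
  · have h1 : 3 + t - 1 = 2 + t := by omega
    have h2 : 8 + 2 * t + 3 - (2 + (3 + t)) = 6 + t := by omega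
    rw [h1, h2]
    nlinarith

/-- **the rows of the Suzuki groups** -/
theorem big_sz (hm : 1 ≤ m) (hK : Fintype.card K = 2 ^ (2 * m + 1)) :
    Big (Cfsg.Lie.Sz K (2 ^ (m + 1))) := by
  have e : ↥(Cfsg.Lie.Sz K (2 ^ (m + 1))) ≃* Cfsg.Sz K m :=
    (MulEquiv.ofBijective (H147.Sz.lift hm hK) ⟨H147.Sz.lift_injective hm hK, H147.Sz.lift_surjective hm hK⟩).symm
  exact Big.of_equiv e (big_sz_model hm hK)

end suzuki

/-! ### the groups `²F₄(q)` -/

theorem hasSt_tf4 {K : Type} [Field K] [Fintype K] {m : ℕ} (hK : Fintype.card K = 2 ^ (2 * m + 1)) :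
    H167.StChar.HasSt 2 ↥(Cfsg.Lie.twistedF4 K (2 ^ m)) :=
  haveI : Fact (Nat.Prime 2) := ⟨Nat.prime_two⟩
  H167.StChar.HasSt.of_hasSplit (H794.TitsPP.hasSplit hK)

theorem charP_two {F : Type} [Field F] [Fintype F] {m : ℕ} (hF : Fintype.card F = 2 ^ (2 * m + 1)) :
    CharP F 2 := by
  obtain ⟨p, hp⟩ := CharP.exists F
  have hpr : p.Prime := CharP.char_is_prime F p
  obtain ⟨n, -, hn⟩ := FiniteField.card F p
  have h1 : p ∣ 2 ^ (2 * m + 1) := by rw [← hF, hn]; exact dvd_pow_self p n.2.ne'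
  have h2 := (Nat.prime_dvd_prime_iff_eq hpr Nat.prime_two).1 (hpr.dvd_of_dvd_pow h1)
  rwa [h2] at hp

/-- two classes of involutions and a set of even orders -/
theorem exists_nine {G : Type*} [Group G] [Finite G] (s : Finset ℕ) (hs : ∀ n ∈ s, HasOrd G n)
    (h2s : 2 ∉ s) (h2 : (ConjClasses.mk '' {g : G | orderOf g = 2}).ncard = 2) :
    ∃ t : Finset G, NonConj t ∧ t.card = s.card + 2 ∧ ∀ g ∈ t, orderOf g ∈ insert 2 s := by
  classical
  obtain ⟨c, d, hcd, hS⟩ := Set.ncard_eq_two.1 h2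
  obtain ⟨g, hg, rfl⟩ : c ∈ ConjClasses.mk '' {g : G | orderOf g = 2} := by rw [hS]; simp
  obtain ⟨g', hg', rfl⟩ : d ∈ ConjClasses.mk '' {g : G | orderOf g = 2} := by rw [hS]; simp
  have hns : ¬ IsConj g g' := fun h => hcd (ConjClasses.mk_eq_mk_iff_isConj.2 h)
  have hg2 : orderOf g = 2 := hg
  have hg2' : orderOf g' = 2 := hg'
  obtain ⟨t, ht, htc, hto⟩ := exists_of_orders s hs
  have hord : ∀ {a b : G}, IsConj a b → orderOf a = orderOf b := by
    intro a b hab
    obtain ⟨c, rfl⟩ := isConj_iff.1 hab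
    exact ((MulAut.conj c).orderOf_eq a).symm
  have h1 : ∀ x ∈ t, orderOf x ≠ 2 := fun x hx h => h2s (h ▸ hto x hx)
  have hgt : g ∉ t := fun h => h1 g h hg2
  have hgt' : g' ∉ t := fun h => h1 g' h hg2'
  have hgg : g ≠ g' := fun h => hns (h ▸ IsConj.refl g)
  refine ⟨insert g (insert g' t), ?_, ?_, ?_⟩
  · intro a ha b hb hab
    rw [Finset.mem_insert, Finset.mem_insert] at ha hb
    rcases ha with rfl | rfl | ha <;> rcases hb with rfl | rfl | hb
    · rfl
    · exact absurd hab hns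
    · exact absurd ((hord hab).symm.trans hg2) (h1 b hb)
    · exact absurd hab.symm hns
    · rfl
    · exact absurd ((hord hab).symm.trans hg2') (h1 b hb)
    · exact absurd ((hord hab).trans hg2) (h1 a ha)
    · exact absurd ((hord hab).trans hg2') (h1 a ha)
    · exact ht a ha b hb hab
  · rw [Finset.card_insert_of_notMem, Finset.card_insert_of_notMem hgt', htc]
    rw [Finset.mem_insert, not_or]
    exact ⟨hgg, hgt⟩
  · intro a ha
    rw [Finset.mem_insert, Finset.mem_insert] at ha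
    rw [Finset.mem_insert]
    rcases ha with rfl | rfl | ha
    · exact Or.inl hg2
    · exact Or.inl hg2'
    · exact Or.inr (hto a ha)

/-- **the rows `²F₄(q)`** -/
theorem big_tf4 {K : Type} [Field K] [Fintype K] {m : ℕ} (_hm : 1 ≤ m)
    (hK : Fintype.card K = 2 ^ (2 * m + 1)) : Big (Cfsg.Lie.twistedF4 K (2 ^ m)) := by
  have : CharP K 2 := charP_two hK
  have : Fact (Nat.Prime 2) := ⟨Nat.prime_two⟩
  have he : (2 : ℕ) ^ m ≠ 0 := by positivity
  have hfin : Finite ↥(Cfsg.Lie.twistedF4 K (2 ^ m)) := inferInstance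
  have h20 := H92.ExcTwF4.hasOrd (H92.ExcTwF4.el_mem (K := K) he [7, 0, 4, 1, 0, 2, 6, 1] (by decide))
    H92.ExcTwF4.o20
  have h16 := H92.ExcTwF4.hasOrd (H92.ExcTwF4.el_mem (K := K) he [0, 3] (by decide)) H92.ExcTwF4.o16
  have h12 := H92.ExcTwF4.hasOrd (H92.ExcTwF4.el_mem (K := K) he [0, 1, 2] (by decide)) H92.ExcTwF4.o12
  obtain ⟨t, ht, htc, hto⟩ := exists_nine (G := ↥(Cfsg.Lie.twistedF4 K (2 ^ m)))
    {4, 6, 8, 10, 12, 16, 20} (by
      simp only [Finset.mem_insert, Finset.mem_singleton, forall_eq_or_imp, forall_eq]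
      exact ⟨h20.of_dvd (by norm_num) (by norm_num), h12.of_dvd (by norm_num) (by norm_num),
        h16.of_dvd (by norm_num) (by norm_num), h20.of_dvd (by norm_num) (by norm_num), h12, h16, h20⟩)
    (by decide) (S2184.result m hK).1
  refine big_of_hasSt (hasSt_tf4 hK) t ht (fun g hg => ?_) (by rw [htc]; decide)
  have := hto g hg
  simp only [Finset.mem_insert, Finset.mem_singleton] at this
  rcases this with h | h | h | h | h | h | h | h <;> rw [h] <;> norm_num

/-! ### the small Ree groups -/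

section ree

theorem arith {q r ℓ : ℕ} (hℓ : ℓ.Prime) (hqr : 3 * q = r * r) (hrq : r ≤ q) (hq1 : 1 ≤ q)
    (hq2 : q % 2 = 1) (hr2 : r % 2 = 1) (hq3 : 3 ∣ q) (hr3 : 3 ∣ r) (ha : ℓ ∣ q + r + 1) :
    ¬ ℓ ∣ 2 ∧ ¬ ℓ ∣ 3 ∧ ¬ ℓ ∣ q - 1 ∧ ¬ ℓ ∣ q + 1 ∧ ¬ ℓ ∣ q - r + 1 := by
  have : Fact ℓ.Prime := ⟨hℓ⟩
  have h0 : (q : ZMod ℓ) + r + 1 = 0 := by
    have := (ZMod.natCast_eq_zero_iff _ _).2 ha
    push_cast at this
    exact this
  have h3 : 3 * (q : ZMod ℓ) = r * r := by exact_mod_cast congrArg (fun n : ℕ => (n : ZMod ℓ)) hqr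
  have n2 : ¬ ℓ ∣ 2 := by
    intro h
    rw [(Nat.prime_dvd_prime_iff_eq hℓ Nat.prime_two).1 h] at ha
    omega
  have n3 : ¬ ℓ ∣ 3 := by
    intro h
    rw [(Nat.prime_dvd_prime_iff_eq hℓ Nat.prime_three).1 h] at ha
    omega
  have z3 : (3 : ZMod ℓ) ≠ 0 := fun h => n3 ((ZMod.natCast_eq_zero_iff 3 ℓ).1 (by exact_mod_cast h))
  have z2 : (2 : ZMod ℓ) ≠ 0 := fun h => n2 ((ZMod.natCast_eq_zero_iff 2 ℓ).1 (by exact_mod_cast h))
  refine ⟨n2, n3, fun h => ?_, fun h => ?_, fun h => ?_⟩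
  · have h1 : (q : ZMod ℓ) - 1 = 0 := by
      have := (ZMod.natCast_eq_zero_iff _ _).2 h
      rw [Nat.cast_sub hq1] at this
      exact_mod_cast this
    apply one_ne_zero (α := ZMod ℓ)
    linear_combination 3 * h1 - h3 - ((r : ZMod ℓ) - 2) * (h0 - h1)
  · have h1 : (q : ZMod ℓ) + 1 = 0 := by
      have := (ZMod.natCast_eq_zero_iff _ _).2 h
      push_cast at this
      exact this
    apply z3
    linear_combination 3 * h1 - h3 - (r : ZMod ℓ) * (h0 - h1)
  · have h1 : (q : ZMod ℓ) - r + 1 = 0 := by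
      have := (ZMod.natCast_eq_zero_iff _ _).2 h
      rw [Nat.cast_add, Nat.cast_sub hrq, Nat.cast_one] at this
      exact this
    have h12 : (2 : ZMod ℓ) * 2 * 3 = 0 := by
      linear_combination 6 * (h0 + h1) - 4 * h3 - (2 * (r : ZMod ℓ)) * (h0 - h1)
    exact mul_ne_zero (mul_ne_zero z2 z2) z3 h12

/-- **the rows of the small Ree groups** -/
theorem big_ree {K : Type} [Field K] [Fintype K] {m : ℕ} (hm : 1 ≤ m)
    (hK : Fintype.card K = 3 ^ (2 * m + 1)) : Big (Cfsg.Lie.twistedG2 K (3 ^ m)) := by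
  classical
  have hfin : Finite ↥(Cfsg.Lie.twistedG2 K (3 ^ m)) := inferInstance
  have ho := fun d => Cfsg.Agent.S1159.result hm hK d
  obtain ⟨A, hA, hcA, hcN, hN⟩ := Cfsg.Agent.S1158.result hm hK
    (3 ^ (2 * m + 1) + 3 ^ (m + 1) + 1, 6 * (3 ^ (2 * m + 1) + 3 ^ (m + 1) + 1)) (by simp)
  simp only at hcA hcN
  have hq : 27 ≤ 3 ^ (2 * m + 1) := by
    have := Nat.pow_le_pow_right (n := 3) (by norm_num) (show 3 ≤ 2 * m + 1 by omega)
    norm_num at this
    exact this
  have hr : 9 ≤ 3 ^ (m + 1) := by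
    have := Nat.pow_le_pow_right (n := 3) (by norm_num) (show 2 ≤ m + 1 by omega)
    norm_num at this
    exact this
  have hrq : 3 ^ (m + 1) ≤ 3 ^ (2 * m + 1) := Nat.pow_le_pow_right (by norm_num) (by omega)
  have hqr : 3 * 3 ^ (2 * m + 1) = 3 ^ (m + 1) * 3 ^ (m + 1) := by
    rw [← pow_add, ← pow_succ']
    congr 1
    ring
  have hodd : 3 ^ (2 * m + 1) % 2 = 1 := by
    rw [Nat.pow_mod]; simp
  have hoddr : 3 ^ (m + 1) % 2 = 1 := by
    rw [Nat.pow_mod]; simp
  have hq3 : 3 ∣ 3 ^ (2 * m + 1) := dvd_pow_self 3 (by omega)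
  have hr3 : 3 ∣ 3 ^ (m + 1) := dvd_pow_self 3 (by omega)
  generalize hG : Cfsg.Lie.twistedG2 K (3 ^ m) = G at *
  generalize 3 ^ (2 * m + 1) = q at *
  generalize 3 ^ (m + 1) = r at *
  have ar := fun {ℓ : ℕ} (hℓ : ℓ.Prime) (h : ℓ ∣ q + r + 1) =>
    arith hℓ hqr hrq (by omega) hodd hoddr hq3 hr3 h
  have hcomm : ∀ a ∈ A, ∀ b ∈ A, a * b = b * a := fun a ha b hb => by
    have := (IsCyclic.commGroup (α := A)).mul_comm ⟨a, ha⟩ ⟨b, hb⟩
    exact congrArg Subtype.val this
  have hdvdA : ∀ x ∈ A, orderOf x ∣ q + r + 1 := by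
    intro x hx
    have := orderOf_dvd_natCard (⟨x, hx⟩ : A)
    rwa [← Subgroup.orderOf_coe, hcA] at this
  have hCC : CC A := by
    refine ⟨hcomm, fun x hx hx1 => ?_⟩
    have hle : A ≤ centralizer ({x} : Set G) := fun y hy =>
      mem_centralizer_singleton_iff.2 (hcomm y hy x hx)
    symm
    apply Subgroup.eq_of_le_of_card_ge hle
    have h1 : centralizer ({x} : Set G) ≤ normalizer (A : Set G) := by
      rw [← hN (zpowers x) (by rw [zpowers_le]; exact hx) (by rwa [Ne, zpowers_eq_bot])]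
      have h2 := Subgroup.centralizer_le_normalizer ((zpowers x : Subgroup G) : Set G)
      refine le_trans (fun y hy => ?_) h2
      rw [mem_centralizer_iff]
      rintro z ⟨n, rfl⟩
      exact ((show Commute y x from mem_centralizer_singleton_iff.1 hy).zpow_right n).symm.eq
    have h2 : Nat.card (centralizer ({x} : Set G)) ∣ 6 * (q + r + 1) := by
      rw [← hcN]
      exact Subgroup.card_dvd_of_le h1
    -- the order of the centralizer is prime to 6
    have h3 : ∀ p : ℕ, p.Prime → (p = 2 ∨ p = 3) → ¬ p ∣ Nat.card (centralizer ({x} : Set G)) := by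
      intro p hp hp23 hd
      have : Fact p.Prime := ⟨hp⟩
      obtain ⟨⟨y, hy⟩, hyo⟩ := exists_prime_orderOf_dvd_card' p hd
      rw [Subgroup.orderOf_mk] at hyo
      have hyx : Commute y x := mem_centralizer_singleton_iff.1 hy
      have hx1' : orderOf x ≠ 1 := fun h => hx1 (orderOf_eq_one_iff.1 h)
      set ℓ := (orderOf x).minFac with hℓdef
      have hℓ : ℓ.Prime := Nat.minFac_prime hx1'
      have hℓx : ℓ ∣ orderOf x := Nat.minFac_dvd _
      have hℓa : ℓ ∣ q + r + 1 := hℓx.trans (hdvdA x hx)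
      obtain ⟨n2, n3, nm, np, nmm⟩ := ar hℓ hℓa
      have hxo : orderOf (x ^ (orderOf x / ℓ)) = ℓ := by
        rw [orderOf_pow_of_dvd (Nat.div_pos (Nat.le_of_dvd (orderOf_pos x) hℓx) hℓ.pos).ne'
          (Nat.div_dvd_of_dvd hℓx), Nat.div_div_self hℓx (orderOf_pos x).ne']
      have hcop : p.Coprime ℓ := by
        rw [Nat.coprime_primes hp hℓ]
        rintro rfl
        rcases hp23 with h | h
        · exact n2 (by rw [← h])
        · exact n3 (by rw [← h])
      have hprod : orderOf (y * x ^ (orderOf x / ℓ)) = p * ℓ := by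
        rw [(hyx.pow_right _).orderOf_mul_eq_mul_orderOf_of_coprime (by rw [hyo, hxo]; exact hcop),
          hyo, hxo]
      have hdiv := (ho (p * ℓ)).1 ⟨_, hprod⟩
      have hl : ℓ ∣ p * ℓ := Dvd.intro_left p rfl
      rcases hdiv with h | h | h | h | h | h
      · have h5 : ℓ ∣ 2 * 3 := hl.trans h
        rcases hℓ.dvd_mul.1 h5 with h6 | h6
        · exact n2 h6
        · exact n3 h6
      · have h5 : ℓ ∣ 3 * 3 := hl.trans h
        rcases hℓ.dvd_mul.1 h5 with h6 | h6
        · exact n3 h6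
        · exact n3 h6
      · exact nm (hl.trans h)
      · exact np ((hl.trans h).trans (Nat.div_dvd_of_dvd (by omega)))
      · exact nmm (hl.trans h)
      · have h5 : p ∣ q + r + 1 := (Dvd.intro ℓ rfl).trans h
        obtain ⟨m2, m3, -⟩ := ar hp h5
        rcases hp23 with h | h
        · exact m2 (by rw [← h])
        · exact m3 (by rw [← h])
    have h4 : Nat.Coprime (Nat.card (centralizer ({x} : Set G))) 6 := by
      rw [show (6 : ℕ) = 2 * 3 from rfl]
      exact Nat.Coprime.mul_right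
        ((Nat.prime_two.coprime_iff_not_dvd.2 (h3 2 Nat.prime_two (Or.inl rfl))).symm)
        ((Nat.prime_three.coprime_iff_not_dvd.2 (h3 3 Nat.prime_three (Or.inr rfl))).symm)
    rw [hcA]
    exact Nat.le_of_dvd (by omega) (h4.dvd_of_dvd_mul_left h2)
  have he : eIdx A = 6 := by
    have h1 := eIdx_mul A
    rw [hcA, hcN, mul_comm] at h1
    exact Nat.eq_of_mul_eq_mul_right (by omega) h1
  obtain ⟨t, ht, htc, hto⟩ := exists_of_orders (G := ↥G)
    {1, 2, 3, 6, 9, (q - 1) / 2, q - 1, (q + 1) / 2} (by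
      intro n hn
      refine (ho n).2 ?_
      simp only [Finset.mem_insert, Finset.mem_singleton] at hn
      rcases hn with rfl | rfl | rfl | rfl | rfl | rfl | rfl | rfl
      · exact Or.inl (by norm_num)
      · exact Or.inl (by norm_num)
      · exact Or.inl (by norm_num)
      · exact Or.inl (by norm_num)
      · exact Or.inr (Or.inl (by norm_num))
      · right; right; left
        exact Nat.div_dvd_of_dvd (by omega)
      · right; right; left
        exact dvd_rfl
      · right; right; right; left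
        exact dvd_rfl)
  have hcs : ({1, 2, 3, 6, 9, (q - 1) / 2, q - 1, (q + 1) / 2} : Finset ℕ).card = 8 := by
    rw [Finset.card_insert_of_notMem, Finset.card_insert_of_notMem,
      Finset.card_insert_of_notMem, Finset.card_insert_of_notMem,
      Finset.card_insert_of_notMem, Finset.card_insert_of_notMem, Finset.card_insert_of_notMem,
      Finset.card_singleton] <;>
    · simp only [Finset.mem_insert, Finset.mem_singleton, not_or]
      omega
  rw [hcs] at htc
  obtain ⟨k, hk⟩ : ∃ k, q + r + 1 = 6 * (6 + k) + 1 := ⟨(q + r) / 6 - 6, by omega⟩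
  refine big_of_ti_out hCC he (m := 6 + k) (by omega) (by rw [hcA, hk]) t ht ?_ (by
    rw [htc, show 6 + k - 1 = 5 + k from by omega]
    omega)
  intro g hg b hb hb1 hcj
  have h1 : orderOf g = orderOf b := by
    obtain ⟨c, rfl⟩ := isConj_iff.1 hcj
    exact ((MulAut.conj c).orderOf_eq g).symm
  have hb1' : orderOf b ≠ 1 := fun h => hb1 (orderOf_eq_one_iff.1 h)
  have hℓ : (orderOf b).minFac.Prime := Nat.minFac_prime hb1'
  have hℓx : (orderOf b).minFac ∣ orderOf b := Nat.minFac_dvd _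
  obtain ⟨n2, n3, nm, np, -⟩ := ar hℓ (hℓx.trans (hdvdA b hb))
  have h2 := hto g hg
  rw [h1] at h2
  simp only [Finset.mem_insert, Finset.mem_singleton] at h2
  rcases h2 with h | h | h | h | h | h | h | h
  · exact hb1' h
  · exact n2 (by rw [h] at hℓx ⊢; exact hℓx)
  · exact n3 (by rw [h] at hℓx ⊢; exact hℓx)
  · have h5 : (orderOf b).minFac ∣ 2 * 3 := by rw [h] at hℓx ⊢; exact hℓx
    rcases hℓ.dvd_mul.1 h5 with h6 | h6
    · exact n2 h6
    · exact n3 h6
  · have h5 : (orderOf b).minFac ∣ 3 * 3 := by rw [h] at hℓx ⊢; exact hℓx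
    rcases hℓ.dvd_mul.1 h5 with h6 | h6
    · exact n3 h6
    · exact n3 h6
  · exact nm (hℓx.trans (h ▸ Nat.div_dvd_of_dvd (by omega)))
  · exact nm (hℓx.trans (h ▸ dvd_rfl))
  · exact np (hℓx.trans (h ▸ Nat.div_dvd_of_dvd (by omega)))

end ree

/-! ### the Tits group -/

section tits

theorem even_of_not_mem {G : Type*} [Group G] [Finite G] {N : Subgroup G} (hidx : N.index = 2)
    {g : G} (hg : g ∉ N) : 2 ∣ orderOf g := by
  by_contra h
  apply hg
  obtain ⟨k, hk⟩ : ∃ k, orderOf g = 2 * k + 1 := ⟨orderOf g / 2, by omega⟩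
  have h1 : g = (g ^ 2) ^ (k + 1) := by
    rw [← pow_mul, show 2 * (k + 1) = orderOf g + 1 by omega, pow_succ, pow_orderOf_eq_one, one_mul]
  rw [h1]
  exact pow_mem (Subgroup.sq_mem_of_index_two hidx g) _

theorem card_tits : Nat.card Lie.TitsGroup = 2 ^ 11 * (3 ^ 3 * 5 ^ 2 * 13) := by
  rw [S1074.result.2.2.2]
  norm_num

theorem exists_deg : ∃ χ : IrrCharacter Lie.TitsGroup, charDegree (χ : Lie.TitsGroup → ℂ) = 2 ^ 11 := by
  have : Fact (Nat.Prime 2) := ⟨Nat.prime_two⟩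
  obtain ⟨hidx, -, -, -⟩ := Cfsg.Agent.S1074.result
  have hcard' : Nat.card ↥(Lie.twistedF4 (ZMod 2) 1) = 2 ^ 12 * (3 ^ 3 * 5 ^ 2 * 13) := by
    rw [← Subgroup.card_mul_index (commutator ↥(Lie.twistedF4 (ZMod 2) 1)), hidx, card_tits]
    norm_num
  have f12 : (Nat.card ↥(Lie.twistedF4 (ZMod 2) 1)).factorization 2 = 12 := by
    rw [hcard', Nat.factorization_mul (by norm_num) (by norm_num), Nat.prime_two.factorization_pow,
      Finsupp.add_apply, Finsupp.single_eq_same, Nat.factorization_eq_zero_of_not_dvd (by norm_num)]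
  have hSt : H167.StChar.HasSt 2 ↥(Lie.twistedF4 (ZMod 2) 1) := hasSt_tf4 (K := ZMod 2) (m := 0) (by simp)
  obtain ⟨χ, hχ, h1, -⟩ := hSt
  rw [f12] at h1
  have hd : charDegree χ = 2 ^ 12 := by
    have h2 := charDegree_cast_irr (⟨χ, hχ⟩ : IrrCharacter ↥(Lie.twistedF4 (ZMod 2) 1))
    have h3 : (charDegree χ : ℂ) = ((2 ^ 12 : ℕ) : ℂ) := h2.trans h1
    exact_mod_cast h3
  have hvan : ∀ g, g ∉ commutator ↥(Lie.twistedF4 (ZMod 2) 1) → χ g = 0 := by
    intro g hg
    refine Cfsg.Agent.H713.irr_zero_of_singular (p := 2)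
      (χ := (⟨χ, hχ⟩ : IrrCharacter ↥(Lie.twistedF4 (ZMod 2) 1))) ?_ (even_of_not_mem hidx hg)
    show (charDegree χ).factorization 2 = _
    rw [hd, f12, Nat.prime_two.factorization_pow, Finsupp.single_eq_same]
  obtain ⟨θ, e, hθ, he, hde, -⟩ := H665.LeonT.exists_constituent_index (p := 2) hχ h1
    (commutator ↥(Lie.twistedF4 (ZMod 2) 1)) hidx hvan
  refine ⟨⟨θ, hθ⟩, ?_⟩
  have h2 := charDegree_cast_irr (⟨θ, hθ⟩ : IrrCharacter Lie.TitsGroup)
  have h3 : (charDegree θ : ℂ) = ((e : ℕ) : ℂ) := h2.trans he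
  have h5 : charDegree θ = e := by exact_mod_cast h3
  show charDegree θ = 2 ^ 11
  rw [h5]
  omega

/-- two different non-linear characters with zeros -/
theorem big_of_two {G : Type*} [Group G] [Finite G] {χ ψ : IrrCharacter G} (hne : χ ≠ ψ)
    (s t : Finset G) (hs : NonConj s) (ht : NonConj t) (hs1 : s.Nonempty) (ht1 : t.Nonempty)
    (hχ : ∀ g ∈ s, (χ : G → ℂ) g = 0) (hψ : ∀ g ∈ t, (ψ : G → ℂ) g = 0)
    (hsum : 8 ≤ (s.card - 1) + (t.card - 1)) : Big G := by
  classical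
  obtain ⟨g, hg⟩ := hs1
  obtain ⟨h, hh⟩ := ht1
  refine big_of_sum {χ, ψ} (fun φ => if φ = χ then s.card else t.card) ?_ ?_ ?_
  · intro φ hφ
    rw [Finset.mem_insert, Finset.mem_singleton] at hφ
    rcases hφ with rfl | rfl
    · exact nonlinear_of_zero (hχ g hg)
    · exact nonlinear_of_zero (hψ h hh)
  · intro φ hφ
    rw [Finset.mem_insert, Finset.mem_singleton] at hφ
    rcases hφ with rfl | rfl
    · rw [if_pos rfl]
      exact le_zc hs hχ
    · rw [if_neg hne.symm]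
      exact le_zc ht hψ
  · rw [Finset.sum_pair hne, if_pos rfl, if_neg hne.symm]
    exact hsum

theorem nonempty_self {G : Type*} [Group G] (T : Subgroup G) : Nonempty (T ≃* T) := ⟨MulEquiv.refl _⟩

theorem isoTits_self : Lie.IsoTits Lie.TitsGroup := nonempty_self _

theorem big_of_nonempty {G : Type*} [Group G] {T : Subgroup G} {X : Type*} [Group X]
    (h : Nonempty (X ≃* T)) (hT : Big T) : Big X := by
  obtain ⟨e⟩ := h
  exact Big.of_equiv e hT

theorem big_tits_model : Big Lie.TitsGroup := by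
  have h2f : Fact (Nat.Prime 2) := ⟨Nat.prime_two⟩
  have h3f : Fact (Nat.Prime 3) := ⟨Nat.prime_three⟩
  have hfin : Finite Lie.TitsGroup := Nat.finite_of_card_ne_zero (by rw [card_tits]; norm_num)
  have f11 : (Nat.card Lie.TitsGroup).factorization 2 = 11 := by
    rw [card_tits, Nat.factorization_mul (by norm_num) (by norm_num), Nat.prime_two.factorization_pow,
      Finsupp.add_apply, Finsupp.single_eq_same, Nat.factorization_eq_zero_of_not_dvd (by norm_num)]
  have f3 : 3 ∣ Nat.card Lie.TitsGroup := by rw [card_tits]; norm_num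
  obtain ⟨χ, hχ⟩ := exists_deg
  obtain ⟨ψ, hψ⟩ := H690.Spor.Tits.hasDZ isoTits_self (p := 3) Nat.prime_three (by norm_num)
    (by norm_num)
  have hχ2 : (charDegree (χ : Lie.TitsGroup → ℂ)).factorization 2 =
      (Nat.card Lie.TitsGroup).factorization 2 := by
    rw [hχ, f11, Nat.prime_two.factorization_pow, Finsupp.single_eq_same]
  have hne : χ ≠ ψ := by
    rintro rfl
    rw [hχ, Nat.prime_two.factorization_pow, Finsupp.single_apply, if_neg (by norm_num)] at hψ
    have := (Nat.prime_three.dvd_iff_one_le_factorization (n := Nat.card Lie.TitsGroup)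
      (by rw [card_tits]; norm_num)).1 f3
    omega
  have h16 := H92.ExcTits.hasOrd_tits (by decide) (by decide) H92.ExcTits.t16
  have h12 := H92.ExcTits.hasOrd_tits (by decide) (by decide) H92.ExcTits.t12
  have h10 := H92.ExcTits.hasOrd_tits (by decide) (by decide) H92.ExcTits.t10
  obtain ⟨s, hs, hsc, hso⟩ := exists_nine (G := Lie.TitsGroup) {4, 6, 8, 10, 12, 16} (by
      simp only [Finset.mem_insert, Finset.mem_singleton, forall_eq_or_imp, forall_eq]
      exact ⟨h12.of_dvd (by norm_num) (by norm_num), h12.of_dvd (by norm_num) (by norm_num),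
        h16.of_dvd (by norm_num) (by norm_num), h10, h12, h16⟩)
    (by decide) (S2184.result (K := ZMod 2) 0 (by simp)).2
  obtain ⟨t, ht, htc, hto⟩ := exists_of_orders (G := Lie.TitsGroup) {3, 6, 12} (by
      simp only [Finset.mem_insert, Finset.mem_singleton, forall_eq_or_imp, forall_eq]
      exact ⟨h12.of_dvd (by norm_num) (by norm_num), h12.of_dvd (by norm_num) (by norm_num), h12⟩)
  have hsc' : s.card = 8 := by rw [hsc]; decide
  have htc' : t.card = 3 := by rw [htc]; decide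
  refine big_of_two hne s t hs ht (Finset.card_pos.1 (by omega)) (Finset.card_pos.1 (by omega))
    (fun g hg => H713.irr_zero_of_singular hχ2 ?_) (fun g hg => H713.irr_zero_of_singular hψ ?_)
    (by omega)
  · have := hso g hg
    simp only [Finset.mem_insert, Finset.mem_singleton] at this
    rcases this with h | h | h | h | h | h | h <;> rw [h] <;> norm_num
  · have := hto g hg
    simp only [Finset.mem_insert, Finset.mem_singleton] at this
    rcases this with h | h | h <;> rw [h] <;> norm_num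

/-- **the row of the Tits group** -/
theorem big_tits {S : Type*} [Group S] (h : Cfsg.Lie.IsoTits S) : Big S :=
  big_of_nonempty h big_tits_model

end tits

end Cfsg.Agent.H442.ZerosTwisted
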