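import Cfsg.Agent.H92.ExtP
import Cfsg.Agent.S2378
import Cfsg.Agent.S1059
import Cfsg.Agent.S1062
import Cfsg.Agent.S1063
import Cfsg.Agent.S1064
import Cfsg.Agent.S1065

/-!
# Nonabelian Sylow subgroups of order `p³` in G2, F4, E6, E7, E8 (for S2215)
-/

set_option autoImplicit false

namespace Cfsg.Agent.H442.ExtExc

open Cfsg Cfsg.Lie Cfsg.Agent.H92.ExtP

variable {p : ℕ} [Fact p.Prime]

/-- no commutative `p`-subgroup of order at least `p³` -/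
theorem no_hom {G : Type*} [Group G] [Finite G] (h : Ext p G) {A : Type*} [Group A] (hc : ∀ a b : A, a * b = b * a)
    (hA : ∃ k, 3 ≤ k ∧ Nat.card A = p ^ k) (f : A →* G) (hf : Function.Injective f) : False := by
  have hp : p.Prime := Fact.out
  obtain ⟨k, hk3, hk⟩ := hA
  have h1 : Nat.card f.range = p ^ k := by
    rw [← hk]; exact Nat.card_congr (f.ofInjective hf).toEquiv.symm
  obtain ⟨a, ⟨a', rfl⟩, b, ⟨b', rfl⟩, hab⟩ := h.exists_ne (A := f.range) (IsPGroup.of_card h1)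
    (by rw [h1]; exact Nat.pow_le_pow_right hp.pos hk3)
  exact hab (by rw [← map_mul, ← map_mul, hc])

/-- the generic primes -/
theorem no_gen {F : Type*} [Field F] [Fintype F] (c : Cfsg.Lie.ChevalleyDatum × List ℕ)
    (hc : c ∈ [(Cfsg.Lie.chevG2, [2, 6]), (Cfsg.Lie.chevB2, [2, 4]), (Cfsg.Lie.chevD4, [2, 4, 4, 6]), (Cfsg.Lie.chevF4, [2, 6, 8, 12]),
      (Cfsg.Lie.chevE6, [2, 5, 6, 8, 9, 12]), (Cfsg.Lie.chevE7, [2, 6, 8, 10, 12, 14, 18]), (Cfsg.Lie.chevE8, [2, 8, 12, 14, 18, 20, 24, 30])])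
    (h : Ext p ↥(c.1.group F)) (hrq : ¬ p ∣ Fintype.card F) (hrW : ¬ p ∣ c.2.prod) : False := by
  have hp : p.Prime := Fact.out
  obtain ⟨P⟩ : Nonempty (Sylow p ↥(c.1.group F)) := inferInstance
  obtain ⟨e⟩ := Cfsg.Agent.S2378.result rfl c hc p hrq hrW ((dvd_pow_self p (by norm_num)).trans h.dvd) P
  refine no_hom h (A := ↥(P : Subgroup ↥(c.1.group F))) (fun a b => e.injective (by rw [map_mul, map_mul, mul_comm])) ?_
    (P : Subgroup ↥(c.1.group F)).subtype (Subgroup.subtype_injective _)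
  refine ⟨_, ?_, P.card_eq_multiplicity⟩
  exact (hp.pow_dvd_iff_le_factorization Nat.card_pos.ne').1 h.dvd

/-- `p⁴` divides the numerator -/
theorem contra {N g X : ℕ} (hN : ¬ p ^ 4 ∣ N) (hX : g * N = X) (hg : ¬ p ∣ g) (h : p ^ 4 ∣ X) : False := by
  have hp : p.Prime := Fact.out
  rw [← hX] at h
  exact hN ((Nat.Coprime.pow_left 4 ((Nat.Prime.coprime_iff_not_dvd hp).2 hg)).dvd_of_dvd_mul_left h)

theorem prime_cases {a b c d : ℕ} (h : p ∣ 2 ^ a * 3 ^ b * 5 ^ c * 7 ^ d) : p = 2 ∨ p = 3 ∨ p = 5 ∨ p = 7 := by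
  have hp : p.Prime := Fact.out
  rcases hp.dvd_mul.1 h with h | h
  · rcases hp.dvd_mul.1 h with h | h
    · rcases hp.dvd_mul.1 h with h | h
      · exact Or.inl ((Nat.prime_dvd_prime_iff_eq hp Nat.prime_two).1 (hp.dvd_of_dvd_pow h))
      · exact Or.inr (Or.inl ((Nat.prime_dvd_prime_iff_eq hp Nat.prime_three).1 (hp.dvd_of_dvd_pow h)))
    · exact Or.inr (Or.inr (Or.inl ((Nat.prime_dvd_prime_iff_eq hp Nat.prime_five).1 (hp.dvd_of_dvd_pow h))))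
  · exact Or.inr (Or.inr (Or.inr ((Nat.prime_dvd_prime_iff_eq hp (by norm_num)).1 (hp.dvd_of_dvd_pow h))))

/-- `q ^ a ≡ 1 mod m` from the residue of `q` -/
theorem dvd_of_mod {q m a : ℕ} (hq : 1 ≤ q) (h : ((q % m) ^ a) % m = 1 % m) : m ∣ q ^ a - 1 := by
  rw [← Nat.modEq_iff_dvd' (Nat.one_le_pow _ _ hq)]
  show 1 % m = q ^ a % m
  rw [Nat.pow_mod, h]


theorem dvd_tab {q a : ℕ} (m : ℕ) (l : ℕ) (hq : 1 ≤ q) (hm : 0 < m) (P : ℕ → Prop)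
    (h : ∀ r < m, P r → r ^ a % m = 1 % m) (hP : P (q % m)) (hl : l = m) : l ∣ q ^ a - 1 :=
  hl ▸ dvd_of_mod hq (h (q % m) (Nat.mod_lt _ hm) hP)

/-- even exponents, odd `q` -/
theorem two_dvd {q a : ℕ} (hq : 1 ≤ q) (h1 : q % 2 = 1) (ha : 2 ∣ a) : 8 ∣ q ^ a - 1 := by
  obtain ⟨b, rfl⟩ := ha
  refine dvd_of_mod hq ?_
  have h2 : (q % 8) ^ 2 % 8 = 1 := (by decide : ∀ r < 8, r % 2 = 1 → r ^ 2 % 8 = 1) (q % 8)
    (Nat.mod_lt _ (by norm_num)) (by omega)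
  rw [pow_mul, Nat.pow_mod, h2, one_pow]

/-- even exponents, `3 ∤ q` -/
theorem three_dvd {q a : ℕ} (hq : 1 ≤ q) (h1 : q % 3 ≠ 0) (ha : 2 ∣ a) : 3 ∣ q ^ a - 1 := by
  obtain ⟨b, rfl⟩ := ha
  refine dvd_of_mod hq ?_
  have h2 : (q % 3) ^ 2 % 3 = 1 := (by decide : ∀ r < 3, r % 3 ≠ 0 → r ^ 2 % 3 = 1) (q % 3)
    (Nat.mod_lt _ (by norm_num)) (by omega)
  rw [pow_mul, Nat.pow_mod, h2, one_pow]

/-- exponents divisible by `d`, `q ^ d ≡ 1` -/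
theorem dvd_of_dvd {q m d a : ℕ} (hq : 1 ≤ q) (h1 : m ∣ q ^ d - 1) (ha : d ∣ a) : m ∣ q ^ a - 1 := by
  obtain ⟨b, rfl⟩ := ha
  refine h1.trans ?_
  rw [← Nat.modEq_iff_dvd' (Nat.one_le_pow _ _ hq), pow_mul]
  have h2 : 1 ≡ q ^ d [MOD (q ^ d - 1)] := (Nat.modEq_iff_dvd' (Nat.one_le_pow _ _ hq)).2 dvd_rfl
  simpa using h2.pow b

theorem dvd_iff_mod {q m a : ℕ} (hq : 1 ≤ q) : m ∣ q ^ a - 1 ↔ (q % m) ^ a % m = 1 % m := by
  rw [← Nat.modEq_iff_dvd' (Nat.one_le_pow _ _ hq)]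
  constructor
  · intro h; rw [← Nat.pow_mod]; exact h.symm
  · intro h; show 1 % m = q ^ a % m; rw [Nat.pow_mod, h]

/-- a square divisible by `5³` comes from a multiple of `25` -/
theorem sq_five {m : ℕ} (h : 5 ^ 3 ∣ m ^ 2) : 5 ^ 2 ∣ m := by
  have h5 : Nat.Prime 5 := by norm_num
  obtain ⟨a, rfl⟩ : 5 ∣ m := h5.dvd_of_dvd_pow ((dvd_pow_self 5 (by norm_num)).trans h)
  have h1 : 5 ∣ a ^ 2 := by
    have : 25 * 5 ∣ 25 * a ^ 2 := by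
      have h2 : (5 * a) ^ 2 = 25 * a ^ 2 := by ring
      rw [h2] at h
      simpa using h
    exact (Nat.mul_dvd_mul_iff_left (by norm_num)).1 this
  obtain ⟨b, rfl⟩ := h5.dvd_of_dvd_pow h1
  exact ⟨b, by ring⟩

theorem g2 {F : Type} [Field F] [Fintype F] (hF : 3 ≤ Fintype.card F) (h : Ext p ↥(chevG2.group F)) :
    p = 3 ∧ ∃ r a : ℕ, r.Prime ∧ (r % 9 = 2 ∨ r % 9 = 4 ∨ r % 9 = 5 ∨ r % 9 = 7) ∧
      1 ≤ a ∧ ¬ 3 ∣ a ∧ (r = 2 → 1 < a) ∧ Fintype.card F = r ^ a := by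
  have hp : p.Prime := Fact.out
  obtain ⟨q, hq⟩ : ∃ q, Fintype.card F = q := ⟨_, rfl⟩
  have hc := Cfsg.Agent.S1059.result hq
  have h4 := h.not_dvd
  rw [hc] at h4
  have hq1 : 1 ≤ q := by omega
  have hpq : ¬ p ∣ q := by
    intro hd
    refine h4 (Dvd.dvd.mul_right (Dvd.dvd.mul_right ?_ _) _)
    exact (pow_dvd_pow p (by norm_num)).trans (pow_dvd_pow_of_dvd hd 6)
  have hW : p = 2 ∨ p = 3 ∨ p = 5 ∨ p = 7 := by
    by_contra hcon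
    exact no_gen (chevG2, [2, 6]) (by simp) h (hq ▸ hpq) (fun h1 => hcon (prime_cases (a := 2) (b := 1) (c := 0) (d := 0)
      (by simpa using h1)))
  have hW' : p ≠ 5 ∧ p ≠ 7 := by
    refine ⟨?_, ?_⟩ <;>
    · rintro rfl
      exact no_gen (chevG2, [2, 6]) (by simp) h (hq ▸ hpq) (by norm_num)
  obtain rfl | rfl : p = 2 ∨ p = 3 := by tauto
  · exfalso
    have h1 : q % 2 = 1 := by omega
    have h2 : 8 ∣ q ^ 2 - 1 := dvd_of_mod hq1 ((by decide : ∀ r < 8, r % 2 = 1 → r ^ 2 % 8 = 1 % 8) (q % 8) (Nat.mod_lt _ (by norm_num)) (by omega))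
    have h3 : 8 ∣ q ^ 6 - 1 := dvd_of_mod hq1 ((by decide : ∀ r < 8, r % 2 = 1 → r ^ 6 % 8 = 1 % 8) (q % 8) (Nat.mod_lt _ (by norm_num)) (by omega))
    obtain ⟨a, ha⟩ := h2
    obtain ⟨b, hb⟩ := h3
    exact h4 ⟨q ^ 6 * a * b * 4, by rw [ha, hb]; ring⟩
  · refine ⟨rfl, ?_⟩
    have h1 : q % 3 ≠ 0 := by omega
    have h3 : 9 ∣ q ^ 6 - 1 := dvd_of_mod hq1 ((by decide : ∀ r < 9, r % 3 ≠ 0 → r ^ 6 % 9 = 1 % 9) (q % 9) (Nat.mod_lt _ (by norm_num)) (by omega))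
    have h2 : ¬ 9 ∣ q ^ 2 - 1 := by
      intro h2
      obtain ⟨a, ha⟩ := h2
      obtain ⟨b, hb⟩ := h3
      exact h4 ⟨q ^ 6 * a * b, by rw [ha, hb]; ring⟩
    have hm : q % 9 = 2 ∨ q % 9 = 4 ∨ q % 9 = 5 ∨ q % 9 = 7 := by
      by_contra hcon
      apply h2
      refine dvd_of_mod hq1 ?_
      have h5 : q % 9 = 1 ∨ q % 9 = 8 := by omega
      rcases h5 with h5 | h5 <;> simp [h5]
    obtain ⟨r, hr⟩ := CharP.exists F
    have := hr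
    have hrp : Fact r.Prime := ⟨CharP.char_is_prime F r⟩
    obtain ⟨a, -, ha⟩ := FiniteField.card F r
    rw [hq] at ha
    have ha0 : 1 ≤ (a : ℕ) := a.pos
    refine ⟨r, a, hrp.out, ?_, ha0, ?_, ?_, by rw [hq, ha]⟩
    · by_contra hcon
      have h5 : (r % 9 = 0 ∨ r % 9 = 3 ∨ r % 9 = 6) ∨ r % 9 = 1 ∨ r % 9 = 8 := by omega
      have hqr : q % 9 = (r % 9) ^ (a : ℕ) % 9 := by rw [ha, Nat.pow_mod]
      rcases h5 with h5 | h5 | h5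
      · have : 3 ∣ r := by omega
        have : 3 ∣ q := by rw [ha]; exact dvd_pow this (by omega)
        omega
      · rw [h5, one_pow] at hqr; omega
      · rw [h5] at hqr
        have h6 : (8 : ℕ) ^ (a : ℕ) % 9 = 1 ∨ (8 : ℕ) ^ (a : ℕ) % 9 = 8 := by
          induction (a : ℕ) with
          | zero => left; norm_num
          | succ n ih =>
            rw [pow_succ, Nat.mul_mod]
            rcases ih with ih | ih <;> rw [ih] <;> simp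
        omega
    · rintro ⟨k, hk⟩
      have hqr : q % 9 = ((r ^ k) % 9) ^ 3 % 9 := by rw [ha, hk, mul_comm, pow_mul, Nat.pow_mod]
      have h6 : ∀ x < 9, x ^ 3 % 9 = 0 ∨ x ^ 3 % 9 = 1 ∨ x ^ 3 % 9 = 8 := by decide
      rcases h6 ((r ^ k) % 9) (Nat.mod_lt _ (by norm_num)) with h7 | h7 | h7 <;> omega
    · rintro rfl
      by_contra hcon
      have : (a : ℕ) = 1 := by omega
      rw [this] at ha
      omega

/-- `q ≡ ±2 mod 5`: exponents not divisible by `4` -/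
theorem not_dvd_five {q k : ℕ} (hq : 1 ≤ q) (h : q % 5 = 2 ∨ q % 5 = 3) (hk : k % 4 ≠ 0) : ¬ 5 ∣ q ^ k - 1 := by
  rw [dvd_iff_mod hq]
  have h4 : (q % 5) ^ 4 % 5 = 1 := by rcases h with h | h <;> simp [h]
  have hk' : k = 4 * (k / 4) + k % 4 := (Nat.div_add_mod k 4).symm
  have h5 : (q % 5) ^ k % 5 = (q % 5) ^ (k % 4) % 5 := by
    conv_lhs => rw [hk', pow_add, pow_mul, Nat.mul_mod, Nat.pow_mod, h4]
    simp
  rw [h5]
  have h6 : k % 4 = 1 ∨ k % 4 = 2 ∨ k % 4 = 3 := by omega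
  rcases h with h | h <;> rcases h6 with h6 | h6 | h6 <;> rw [h, h6] <;> norm_num

theorem five_pow {q : ℕ} (h : q % 5 = 2 ∨ q % 5 = 3) : ¬ 5 ∣ q ∧ ¬ 5 ∣ q ^ 4 + 1 ∧ ¬ 5 ∣ q ^ 8 + q ^ 4 + 1 := by
  have h4 : q ^ 4 % 5 = 1 := by rw [Nat.pow_mod]; rcases h with h | h <;> rw [h]
  have h8 : q ^ 8 % 5 = 1 := by rw [Nat.pow_mod]; rcases h with h | h <;> rw [h]
  refine ⟨by omega, by omega, by omega⟩

theorem five_case {q N g X Y : ℕ} (h3 : 5 ^ 3 ∣ N) (h4 : ¬ 5 ^ 4 ∣ N) (hX : g * N = X) (hg : ¬ 5 ∣ g)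
    (hY : X = (q ^ 4 - 1) ^ 2 * Y) (hY5 : ¬ 5 ∣ Y) : False := by
  have hp : Nat.Prime 5 := by norm_num
  have : Fact (Nat.Prime 5) := ⟨hp⟩
  have h1 : 5 ^ 3 ∣ (q ^ 4 - 1) ^ 2 * Y := by
    rw [← hY, ← hX]; exact h3.mul_left _
  have h2 := (Nat.Coprime.pow_left 3 ((Nat.Prime.coprime_iff_not_dvd hp).2 hY5)).dvd_of_dvd_mul_right h1
  have h5 := sq_five h2
  refine contra h4 hX hg ?_
  rw [hY]
  have h6 : (5 : ℕ) ^ 4 ∣ (q ^ 4 - 1) ^ 2 := by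
    have := pow_dvd_pow_of_dvd h5 2
    rwa [← pow_mul] at this
  exact h6.mul_right _

theorem pow_eight (q : ℕ) (hq : 1 ≤ q) : q ^ 8 - 1 = (q ^ 4 - 1) * (q ^ 4 + 1) := by
  obtain ⟨m, hm⟩ : ∃ m, q ^ 4 = m + 1 := ⟨q ^ 4 - 1, by have := Nat.one_le_pow 4 q hq; omega⟩
  rw [show q ^ 8 = (q ^ 4) ^ 2 by ring, hm]
  have : (m + 1) ^ 2 = m * (m + 1 + 1) + 1 := by ring
  rw [this]
  simp

theorem pow_twelve (q : ℕ) (hq : 1 ≤ q) : q ^ 12 - 1 = (q ^ 4 - 1) * (q ^ 8 + q ^ 4 + 1) := by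
  obtain ⟨m, hm⟩ : ∃ m, q ^ 4 = m + 1 := ⟨q ^ 4 - 1, by have := Nat.one_le_pow 4 q hq; omega⟩
  rw [show q ^ 12 = (q ^ 4) ^ 3 by ring, show q ^ 8 = (q ^ 4) ^ 2 by ring, hm]
  have : (m + 1) ^ 3 = m * ((m + 1) ^ 2 + (m + 1) + 1) + 1 := by ring
  rw [this]
  simp

theorem f4 {F : Type} [Field F] [Fintype F] (h : Ext p ↥(chevF4.group F)) : False := by
  have hp : p.Prime := Fact.out
  obtain ⟨q, hq⟩ : ∃ q, Fintype.card F = q := ⟨_, rfl⟩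
  have hc := Cfsg.Agent.S1062.result hq
  have h4 := h.not_dvd
  rw [hc] at h4
  have hq1 : 1 ≤ q := hq ▸ Fintype.card_pos
  have hpq : ¬ p ∣ q := by
    intro hd
    refine h4 ?_
    simp only [mul_assoc]
    refine Dvd.dvd.mul_right ?_ _
    exact (pow_dvd_pow p (by norm_num)).trans (pow_dvd_pow_of_dvd hd 24)
  have hW : p = 2 ∨ p = 3 ∨ p = 5 ∨ p = 7 := by
    by_contra hcon
    exact no_gen (chevF4, [2, 6, 8, 12]) (by simp) h (hq ▸ hpq) (fun h1 => hcon (prime_cases (a := 7) (b := 2) (c := 0) (d := 0)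
      (by simpa using h1)))
  have hW' : p ≠ 5 ∧ p ≠ 7 := by
    refine ⟨?_, ?_⟩ <;>
    · rintro rfl
      exact no_gen (chevF4, [2, 6, 8, 12]) (by simp) h (hq ▸ hpq) (by norm_num)
  obtain rfl | rfl : p = 2 ∨ p = 3 := by tauto
  · have h1 : q % 2 = 1 := by omega
    obtain ⟨a, ha⟩ := two_dvd (a := 2) hq1 h1 (by norm_num)
    obtain ⟨b, hb⟩ := two_dvd (a := 6) hq1 h1 (by norm_num)
    exact h4 ⟨q ^ 24 * a * b * 4 * (q ^ 8 - 1) * (q ^ 12 - 1), by rw [ha, hb]; ring⟩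
  · have h1 : q % 3 ≠ 0 := by omega
    obtain ⟨a, ha⟩ := three_dvd (a := 2) hq1 h1 (by norm_num)
    obtain ⟨b, hb⟩ := three_dvd (a := 6) hq1 h1 (by norm_num)
    obtain ⟨c, hc'⟩ := three_dvd (a := 8) hq1 h1 (by norm_num)
    obtain ⟨d, hd⟩ := three_dvd (a := 12) hq1 h1 (by norm_num)
    exact h4 ⟨q ^ 24 * a * b * c * d, by rw [ha, hb, hc', hd]; ring⟩

theorem e6 {F : Type} [Field F] [Fintype F] (h : Ext p ↥(chevE6.group F)) : False := by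
  have hp : p.Prime := Fact.out
  obtain ⟨q, hq⟩ : ∃ q, Fintype.card F = q := ⟨_, rfl⟩
  have hc := Cfsg.Agent.S1063.result hq
  have h4 := h.not_dvd
  have h3 := h.dvd
  have hq1 : 1 ≤ q := hq ▸ Fintype.card_pos
  have hpq : ¬ p ∣ q := by
    intro hd
    refine contra h4 hc ?_ ?_
    · intro h1
      have h2 : p ∣ q - 1 := h1.trans (Nat.gcd_dvd_right _ _)
      have h3 : p ∣ 1 := by
        have h5 := Nat.dvd_sub hd h2
        rwa [show q - (q - 1) = 1 by omega] at h5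
      exact hp.one_lt.ne' (Nat.dvd_one.1 h3)
    · simp only [mul_assoc]
      refine Dvd.dvd.mul_right ?_ _
      exact (pow_dvd_pow p (by norm_num)).trans (pow_dvd_pow_of_dvd hd 36)
  have hW : p = 2 ∨ p = 3 ∨ p = 5 ∨ p = 7 := by
    by_contra hcon
    exact no_gen (chevE6, [2, 5, 6, 8, 9, 12]) (by simp) h (hq ▸ hpq) (fun h1 => hcon (prime_cases (a := 7) (b := 4) (c := 1) (d := 0)
      (by simpa using h1)))
  have hW' : p ≠ 7 := by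
    rintro rfl
    exact no_gen (chevE6, [2, 5, 6, 8, 9, 12]) (by simp) h (hq ▸ hpq) (by norm_num)
  have hg3 : Nat.gcd 3 (q - 1) ∣ 3 := Nat.gcd_dvd_left _ _
  obtain rfl | rfl | rfl : p = 2 ∨ p = 3 ∨ p = 5 := by tauto
  · have h1 : q % 2 = 1 := by omega
    obtain ⟨a, ha⟩ := two_dvd (a := 2) hq1 h1 (by norm_num)
    obtain ⟨b, hb⟩ := two_dvd (a := 6) hq1 h1 (by norm_num)
    refine contra h4 hc (fun h1 => absurd (h1.trans hg3) (by norm_num)) ?_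
    exact ⟨q ^ 36 * a * b * 4 * (q ^ 5 - 1) * (q ^ 8 - 1) * (q ^ 9 - 1) * (q ^ 12 - 1), by rw [ha, hb]; ring⟩
  · have h1 : q % 3 ≠ 0 := by omega
    obtain ⟨a, ha⟩ := three_dvd (a := 2) hq1 h1 (by norm_num)
    obtain ⟨b, hb⟩ := (dvd_iff_mod (a := 6) (m := 9) hq1).2 ((by decide : ∀ r < 9, r % 3 ≠ 0 → r ^ 6 % 9 = 1 % 9) (q % 9)
      (Nat.mod_lt _ (by norm_num)) (by omega))
    obtain ⟨c, hc'⟩ := three_dvd (a := 8) hq1 h1 (by norm_num)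
    obtain ⟨d, hd⟩ := three_dvd (a := 12) hq1 h1 (by norm_num)
    obtain ⟨e, he⟩ := hg3
    have h5 : 3 ^ 4 * Nat.gcd 3 (q - 1) ∣ Nat.card ↥(chevE6.group F) * Nat.gcd 3 (q - 1) := by
      rw [mul_comm (Nat.card _), hc]
      refine ⟨q ^ 36 * a * b * c * d * (q ^ 5 - 1) * (q ^ 9 - 1) * e, ?_⟩
      rw [ha, hb, hc', hd]
      calc q ^ 36 * (3 * a) * (q ^ 5 - 1) * (9 * b) * (3 * c) * (q ^ 9 - 1) * (3 * d)
          = 81 * (q ^ 36 * a * b * c * d * (q ^ 5 - 1) * (q ^ 9 - 1)) * 3 := by ring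
        _ = 81 * (q ^ 36 * a * b * c * d * (q ^ 5 - 1) * (q ^ 9 - 1)) * (Nat.gcd 3 (q - 1) * e) := by rw [← he]
        _ = _ := by ring
    exact h4 (Nat.dvd_of_mul_dvd_mul_right (Nat.gcd_pos_of_pos_left _ (by norm_num)) h5)
  · have h1 : q % 5 ≠ 0 := by omega
    have hg5 : ¬ 5 ∣ Nat.gcd 3 (q - 1) := fun h1 => absurd (h1.trans hg3) (by norm_num)
    by_cases h2 : q % 5 = 1
    · have e2 := (dvd_iff_mod (a := 1) (m := 5) hq1).2 (by rw [h2]; norm_num)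
      obtain ⟨a, ha⟩ := dvd_of_dvd (a := 2) hq1 e2 (one_dvd _)
      obtain ⟨b, hb⟩ := dvd_of_dvd (a := 6) hq1 e2 (one_dvd _)
      obtain ⟨c, hc'⟩ := dvd_of_dvd (a := 8) hq1 e2 (one_dvd _)
      obtain ⟨d, hd⟩ := dvd_of_dvd (a := 12) hq1 e2 (one_dvd _)
      refine contra h4 hc hg5 ?_
      exact ⟨q ^ 36 * a * b * c * d * (q ^ 5 - 1) * (q ^ 9 - 1), by rw [ha, hb, hc', hd]; ring⟩
    by_cases h2' : q % 5 = 4
    · have e2 := (dvd_iff_mod (a := 2) (m := 5) hq1).2 (by simp [h2'])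
      obtain ⟨a, ha⟩ := dvd_of_dvd (a := 2) hq1 e2 (by norm_num)
      obtain ⟨b, hb⟩ := dvd_of_dvd (a := 6) hq1 e2 (by norm_num)
      obtain ⟨c, hc'⟩ := dvd_of_dvd (a := 8) hq1 e2 (by norm_num)
      obtain ⟨d, hd⟩ := dvd_of_dvd (a := 12) hq1 e2 (by norm_num)
      refine contra h4 hc hg5 ?_
      exact ⟨q ^ 36 * a * b * c * d * (q ^ 5 - 1) * (q ^ 9 - 1), by rw [ha, hb, hc', hd]; ring⟩
    · have h6 : q % 5 = 2 ∨ q % 5 = 3 := by omega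
      obtain ⟨f1, f2, f3⟩ := five_pow h6
      refine five_case (q := q) (Y := q ^ 36 * (q ^ 2 - 1) * (q ^ 5 - 1) * (q ^ 6 - 1) * (q ^ 4 + 1) * (q ^ 9 - 1) *
        (q ^ 8 + q ^ 4 + 1)) h3 h4 hc hg5 ?_ ?_
      · rw [pow_eight q hq1, pow_twelve q hq1]; ring
      · simp only [hp.dvd_mul, not_or]
        exact ⟨⟨⟨⟨⟨⟨fun h => f1 (hp.dvd_of_dvd_pow h), not_dvd_five hq1 h6 (by norm_num)⟩,
          not_dvd_five hq1 h6 (by norm_num)⟩, not_dvd_five hq1 h6 (by norm_num)⟩, f2⟩, not_dvd_five hq1 h6 (by norm_num)⟩, f3⟩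

/-- a certificate for `e = 6` in type E7 with constant `2` -/
theorem cert_E7_6 : Cfsg.Agent.H130.WeylCk.Cert Cfsg.Agent.H130.WeylTab.alE7 7 6 3 [0, 1, 2, 3, 4, 5, 6] 3 2
    [[1, 1, 1, 1, 0, 0, 0], [0, 0, 0, 0, 0, 1, 1], [0, 0, 1, 0, 1, 1, 0]]
    [[1, -1, -1, 1, 0, 1, -1], [2, -1, -1, 0, 0, 1, -1], [0, 1, -1, 0, 0, 1, -1]] := by decide +kernel

theorem cert_E7_3 : Cfsg.Agent.H130.WeylCk.Cert Cfsg.Agent.H130.WeylTab.alE7 7 3 3 [0, 1, 2, 3, 4, 5, 6] 6 2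
    [[1, 1, 1, 1, 0, 0, 0], [0, 0, 0, 0, 0, 1, 1], [0, 0, 1, 0, 1, 1, 0]]
    [[1, -1, -1, 1, 0, 1, -1], [2, -1, -1, 0, 0, 1, -1], [0, 1, -1, 0, 0, 1, -1]] := by decide +kernel

open Cfsg.Agent.Nodes.RGDChev Cfsg.Agent.H130.Homo in
/-- the case `p = 7` in E7 -/
theorem e7_seven {F : Type} [Field F] [Fintype F] [Fact (Nat.Prime 7)] (h : Ext 7 ↥(chevE7.group F))
    (h7 : ¬ 7 ∣ Fintype.card F)
    (ho : orderOf ((Fintype.card F : ℕ) : ZMod 7) = 3 ∨ orderOf ((Fintype.card F : ℕ) : ZMod 7) = 6) : False := by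
  have hp : IsType chevE7 7 CoxeterMatrix.E₇ := by
    simp [Cfsg.Agent.Nodes.RGDChev.IsType, Cfsg.Agent.Nodes.RGDChev.typeList]
  set q := Fintype.card F with hq
  have hq1 : 1 < q := Fintype.one_lt_card
  have : NeZero (7 ^ val 7 q) := ⟨pow_ne_zero _ (by norm_num)⟩
  have hval : 1 ≤ val 7 q := by
    rw [← val_pow_orderOf h7 hq1]
    refine one_le_padicValNat_of_dvd ?_ ?_
    · have : 1 < q ^ orderOf ((q : ℕ) : ZMod 7) := Nat.one_lt_pow (by rcases ho with ho | ho <;> rw [ho] <;> norm_num) hq1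
      omega
    · have h1 := pow_orderOf_eq_one ((q : ℕ) : ZMod 7)
      rw [← Nat.modEq_iff_dvd' (Nat.one_le_pow _ _ (by omega)), ← ZMod.natCast_eq_natCast_iff]
      push_cast
      rw [h1]
  have key : ∃ w : CoxeterMatrix.E₇.Group, ∃ f : (Fin 3 → Multiplicative (ZMod (7 ^ val 7 q))) →*
      Multiplicative ((Fin 7 → ℤ) ⧸ LinearMap.range (Cfsg.Agent.ChevalleyStructure.CoxeterGeom.rep
        CoxeterMatrix.E₇.toCoxeterSystem hp.isCartan w - ((q : ℕ) : ℤ) • (1 : Module.End ℤ (Fin 7 → ℤ)))),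
      Function.Injective f := by
    rcases ho with ho | ho
    · have hC : Cfsg.Agent.H130.WeylCk.Cert Cfsg.Agent.H130.WeylTab.alE7 7 (orderOf ((q : ℕ) : ZMod 7)) 3
          [0, 1, 2, 3, 4, 5, 6] 6 2 [[1, 1, 1, 1, 0, 0, 0], [0, 0, 0, 0, 0, 1, 1], [0, 0, 1, 0, 1, 1, 0]]
          [[1, -1, -1, 1, 0, 1, -1], [2, -1, -1, 0, 0, 1, -1], [0, 1, -1, 0, 0, 1, -1]] := by
        rw [ho]; exact cert_E7_3
      exact hC.exists_hom (by rw [ho]; decide) h7 hq1 (by norm_num) Cfsg.Agent.H130.WeylTab.lists_E7 _ _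
    · have hC : Cfsg.Agent.H130.WeylCk.Cert Cfsg.Agent.H130.WeylTab.alE7 7 (orderOf ((q : ℕ) : ZMod 7)) 3
          [0, 1, 2, 3, 4, 5, 6] 3 2 [[1, 1, 1, 1, 0, 0, 0], [0, 0, 0, 0, 0, 1, 1], [0, 0, 1, 0, 1, 1, 0]]
          [[1, -1, -1, 1, 0, 1, -1], [2, -1, -1, 0, 0, 1, -1], [0, 1, -1, 0, 0, 1, -1]] := by
        rw [ho]; exact cert_E7_6
      exact hC.exists_hom (by rw [ho]; decide) h7 hq1 (by norm_num) Cfsg.Agent.H130.WeylTab.lists_E7 _ _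
  obtain ⟨w, f, hf⟩ := key
  obtain ⟨f', hf'⟩ := Cfsg.Agent.H130.TorEmb.exists_hom hp CoxeterMatrix.E₇.toCoxeterSystem rfl
    Cfsg.Agent.H129.TorusChar.invC_E7 two_ne_zero w (m := 7 ^ val 7 q) (Nat.Coprime.pow_left _ (by norm_num))
    (Cfsg.Agent.H130.ChevSyl.pow_model 3 _) f hf
  refine no_hom h (fun a b => mul_comm a b) ⟨3 * val 7 q, by omega, ?_⟩ f' hf'
  rw [Nat.card_fun, Nat.card_fin, show Nat.card (Multiplicative (ZMod (7 ^ val 7 q))) = 7 ^ val 7 q from Nat.card_zmod _,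
    ← pow_mul, mul_comm]

theorem ord_seven (x : ZMod 7) (hx0 : x ≠ 0) (hx2 : x ^ 2 ≠ 1) : orderOf x = 3 ∨ orderOf x = 6 := by
  have h6 : ∀ x : ZMod 7, x ≠ 0 → x ^ 6 = 1 := by decide
  have h7 : orderOf x ∣ 6 := orderOf_dvd_of_pow_eq_one (h6 x hx0)
  have h8 : ¬ orderOf x ∣ 2 := fun h => hx2 (orderOf_dvd_iff_pow_eq_one.1 h)
  have h9 : orderOf x ≤ 6 := Nat.le_of_dvd (by norm_num) h7
  generalize orderOf x = m at *
  interval_cases m <;> simp_all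

theorem e7 {F : Type} [Field F] [Fintype F] (h : Ext p ↥(chevE7.group F)) : False := by
  have hp : p.Prime := Fact.out
  obtain ⟨q, hq⟩ : ∃ q, Fintype.card F = q := ⟨_, rfl⟩
  have hc := Cfsg.Agent.S1064.result hq
  have h4 := h.not_dvd
  have h3 := h.dvd
  have hq1 : 1 ≤ q := hq ▸ Fintype.card_pos
  have hpq : ¬ p ∣ q := by
    intro hd
    refine contra h4 hc ?_ ?_
    · intro h1
      have h2 : p ∣ q - 1 := h1.trans (Nat.gcd_dvd_right _ _)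
      have h3 : p ∣ 1 := by
        have h5 := Nat.dvd_sub hd h2
        rwa [show q - (q - 1) = 1 by omega] at h5
      exact hp.one_lt.ne' (Nat.dvd_one.1 h3)
    · simp only [mul_assoc]
      refine Dvd.dvd.mul_right ?_ _
      exact (pow_dvd_pow p (by norm_num)).trans (pow_dvd_pow_of_dvd hd 63)
  have hW : p = 2 ∨ p = 3 ∨ p = 5 ∨ p = 7 := by
    by_contra hcon
    exact no_gen (chevE7, [2, 6, 8, 10, 12, 14, 18]) (by simp) h (hq ▸ hpq)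
      (fun h1 => hcon (prime_cases (a := 10) (b := 4) (c := 1) (d := 1) (by simpa using h1)))
  have hg2 : Nat.gcd 2 (q - 1) ∣ 2 := Nat.gcd_dvd_left _ _
  rcases hW with rfl | rfl | rfl | rfl
  · have h1 : q % 2 = 1 := by omega
    obtain ⟨a, ha⟩ := two_dvd (a := 2) hq1 h1 (by norm_num)
    obtain ⟨b, hb⟩ := two_dvd (a := 6) hq1 h1 (by norm_num)
    obtain ⟨e, he⟩ := hg2
    have h5 : 2 ^ 4 * Nat.gcd 2 (q - 1) ∣ Nat.card ↥(chevE7.group F) * Nat.gcd 2 (q - 1) := by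
      rw [mul_comm (Nat.card _), hc]
      refine ⟨q ^ 63 * a * b * 2 * (q ^ 8 - 1) * (q ^ 10 - 1) * (q ^ 12 - 1) * (q ^ 14 - 1) * (q ^ 18 - 1) * e, ?_⟩
      rw [ha, hb]
      calc q ^ 63 * (8 * a) * (8 * b) * (q ^ 8 - 1) * (q ^ 10 - 1) * (q ^ 12 - 1) * (q ^ 14 - 1) * (q ^ 18 - 1)
          = 16 * (q ^ 63 * a * b * 2 * (q ^ 8 - 1) * (q ^ 10 - 1) * (q ^ 12 - 1) * (q ^ 14 - 1) * (q ^ 18 - 1)) * 2 := by ring
        _ = 16 * (q ^ 63 * a * b * 2 * (q ^ 8 - 1) * (q ^ 10 - 1) * (q ^ 12 - 1) * (q ^ 14 - 1) * (q ^ 18 - 1)) *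
            (Nat.gcd 2 (q - 1) * e) := by rw [← he]
        _ = _ := by ring
    exact h4 (Nat.dvd_of_mul_dvd_mul_right (Nat.gcd_pos_of_pos_left _ (by norm_num)) h5)
  · have h1 : q % 3 ≠ 0 := by omega
    obtain ⟨a, ha⟩ := three_dvd (a := 2) hq1 h1 (by norm_num)
    obtain ⟨b, hb⟩ := three_dvd (a := 6) hq1 h1 (by norm_num)
    obtain ⟨c, hc'⟩ := three_dvd (a := 8) hq1 h1 (by norm_num)
    obtain ⟨d, hd⟩ := three_dvd (a := 12) hq1 h1 (by norm_num)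
    refine contra h4 hc (fun h1 => absurd (h1.trans hg2) (by norm_num)) ?_
    exact ⟨q ^ 63 * a * b * c * d * (q ^ 10 - 1) * (q ^ 14 - 1) * (q ^ 18 - 1), by rw [ha, hb, hc', hd]; ring⟩
  · have h1 : q % 5 ≠ 0 := by omega
    have hg5 : ¬ 5 ∣ Nat.gcd 2 (q - 1) := fun h1 => absurd (h1.trans hg2) (by norm_num)
    by_cases h2 : q % 5 = 1 ∨ q % 5 = 4
    · have e2 := (dvd_iff_mod (a := 2) (m := 5) hq1).2 (by rcases h2 with h2 | h2 <;> simp [h2])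
      obtain ⟨a, ha⟩ := dvd_of_dvd (a := 2) hq1 e2 (by norm_num)
      obtain ⟨b, hb⟩ := dvd_of_dvd (a := 6) hq1 e2 (by norm_num)
      obtain ⟨c, hc'⟩ := dvd_of_dvd (a := 8) hq1 e2 (by norm_num)
      obtain ⟨d, hd⟩ := dvd_of_dvd (a := 12) hq1 e2 (by norm_num)
      refine contra h4 hc hg5 ?_
      exact ⟨q ^ 63 * a * b * c * d * (q ^ 10 - 1) * (q ^ 14 - 1) * (q ^ 18 - 1), by rw [ha, hb, hc', hd]; ring⟩
    · have h6 : q % 5 = 2 ∨ q % 5 = 3 := by omega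
      obtain ⟨f1, f2, f3⟩ := five_pow h6
      refine five_case (q := q) (Y := q ^ 63 * (q ^ 2 - 1) * (q ^ 6 - 1) * (q ^ 4 + 1) * (q ^ 10 - 1) *
        (q ^ 8 + q ^ 4 + 1) * (q ^ 14 - 1) * (q ^ 18 - 1)) h3 h4 hc hg5 ?_ ?_
      · rw [pow_eight q hq1, pow_twelve q hq1]; ring
      · simp only [hp.dvd_mul, not_or]
        exact ⟨⟨⟨⟨⟨⟨⟨fun h => f1 (hp.dvd_of_dvd_pow h), not_dvd_five hq1 h6 (by norm_num)⟩,
          not_dvd_five hq1 h6 (by norm_num)⟩, f2⟩, not_dvd_five hq1 h6 (by norm_num)⟩, f3⟩,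
          not_dvd_five hq1 h6 (by norm_num)⟩, not_dvd_five hq1 h6 (by norm_num)⟩
  · have h1 : q % 7 ≠ 0 := by omega
    have hg7 : ¬ 7 ∣ Nat.gcd 2 (q - 1) := fun h1 => absurd (h1.trans hg2) (by norm_num)
    by_cases h2 : (q % 7) ^ 2 % 7 = 1
    · have e2 := (dvd_iff_mod (a := 2) (m := 7) hq1).2 h2
      obtain ⟨a, ha⟩ := dvd_of_dvd (a := 2) hq1 e2 (by norm_num)
      obtain ⟨b, hb⟩ := dvd_of_dvd (a := 6) hq1 e2 (by norm_num)
      obtain ⟨c, hc'⟩ := dvd_of_dvd (a := 8) hq1 e2 (by norm_num)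
      obtain ⟨d, hd⟩ := dvd_of_dvd (a := 12) hq1 e2 (by norm_num)
      refine contra h4 hc hg7 ?_
      exact ⟨q ^ 63 * a * b * c * d * (q ^ 10 - 1) * (q ^ 14 - 1) * (q ^ 18 - 1), by rw [ha, hb, hc', hd]; ring⟩
    · refine e7_seven h (hq ▸ hpq) ?_
      rw [hq]
      refine ord_seven _ ?_ ?_
      · rw [Ne, ZMod.natCast_eq_zero_iff]; omega
      · intro h8
        apply h2
        have : ((q ^ 2 : ℕ) : ZMod 7) = ((1 : ℕ) : ZMod 7) := by push_cast; exact h8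
        rw [ZMod.natCast_eq_natCast_iff] at this
        rw [← Nat.pow_mod]; exact this

theorem e8 {F : Type} [Field F] [Fintype F] (h : Ext p ↥(chevE8.group F)) : False := by
  have hp : p.Prime := Fact.out
  obtain ⟨q, hq⟩ : ∃ q, Fintype.card F = q := ⟨_, rfl⟩
  have hc := Cfsg.Agent.S1065.result hq
  have h4 := h.not_dvd
  rw [hc] at h4
  have hq1 : 1 ≤ q := hq ▸ Fintype.card_pos
  have hpq : ¬ p ∣ q := by
    intro hd
    refine h4 ?_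
    simp only [mul_assoc]
    refine Dvd.dvd.mul_right ?_ _
    exact (pow_dvd_pow p (by norm_num)).trans (pow_dvd_pow_of_dvd hd 120)
  have hW : p = 2 ∨ p = 3 ∨ p = 5 ∨ p = 7 := by
    by_contra hcon
    exact no_gen (chevE8, [2, 8, 12, 14, 18, 20, 24, 30]) (by simp) h (hq ▸ hpq)
      (fun h1 => hcon (prime_cases (a := 14) (b := 5) (c := 2) (d := 1) (by simpa using h1)))
  rcases hW with rfl | rfl | rfl | rfl
  · have h1 : q % 2 = 1 := by omega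
    obtain ⟨a, ha⟩ := two_dvd (a := 2) hq1 h1 (by norm_num)
    obtain ⟨b, hb⟩ := two_dvd (a := 8) hq1 h1 (by norm_num)
    exact h4 ⟨q ^ 120 * a * b * 4 * (q ^ 12 - 1) * (q ^ 14 - 1) * (q ^ 18 - 1) * (q ^ 20 - 1) * (q ^ 24 - 1) *
      (q ^ 30 - 1), by rw [ha, hb]; ring⟩
  · have h1 : q % 3 ≠ 0 := by omega
    obtain ⟨a, ha⟩ := three_dvd (a := 2) hq1 h1 (by norm_num)
    obtain ⟨b, hb⟩ := three_dvd (a := 8) hq1 h1 (by norm_num)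
    obtain ⟨c, hc'⟩ := three_dvd (a := 12) hq1 h1 (by norm_num)
    obtain ⟨d, hd⟩ := three_dvd (a := 14) hq1 h1 (by norm_num)
    exact h4 ⟨q ^ 120 * a * b * c * d * (q ^ 18 - 1) * (q ^ 20 - 1) * (q ^ 24 - 1) * (q ^ 30 - 1),
      by rw [ha, hb, hc', hd]; ring⟩
  · have h1 : q % 5 ≠ 0 := by omega
    have e4 := (dvd_iff_mod (a := 4) (m := 5) hq1).2 ((by decide : ∀ r < 5, r ≠ 0 → r ^ 4 % 5 = 1 % 5) (q % 5)
      (Nat.mod_lt _ (by norm_num)) h1)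
    obtain ⟨a, ha⟩ := dvd_of_dvd (a := 8) hq1 e4 (by norm_num)
    obtain ⟨b, hb⟩ := dvd_of_dvd (a := 12) hq1 e4 (by norm_num)
    obtain ⟨c, hc'⟩ := dvd_of_dvd (a := 20) hq1 e4 (by norm_num)
    obtain ⟨d, hd⟩ := dvd_of_dvd (a := 24) hq1 e4 (by norm_num)
    exact h4 ⟨q ^ 120 * a * b * c * d * (q ^ 2 - 1) * (q ^ 14 - 1) * (q ^ 18 - 1) * (q ^ 30 - 1),
      by rw [ha, hb, hc', hd]; ring⟩
  · have h1 : q % 7 ≠ 0 := by omega
    have e6 := (dvd_iff_mod (a := 6) (m := 7) hq1).2 ((by decide : ∀ r < 7, r ≠ 0 → r ^ 6 % 7 = 1 % 7) (q % 7)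
      (Nat.mod_lt _ (by norm_num)) h1)
    obtain ⟨a, ha⟩ := dvd_of_dvd (a := 12) hq1 e6 (by norm_num)
    obtain ⟨b, hb⟩ := dvd_of_dvd (a := 18) hq1 e6 (by norm_num)
    obtain ⟨c, hc'⟩ := dvd_of_dvd (a := 24) hq1 e6 (by norm_num)
    obtain ⟨d, hd⟩ := dvd_of_dvd (a := 30) hq1 e6 (by norm_num)
    exact h4 ⟨q ^ 120 * a * b * c * d * (q ^ 2 - 1) * (q ^ 8 - 1) * (q ^ 14 - 1) * (q ^ 20 - 1),
      by rw [ha, hb, hc', hd]; ring⟩

end Cfsg.Agent.H442.ExtExc
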