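import Cfsg.Agent.H690.Spor.RankThree

/-!
# Values of the characters of a permutation group of rank 3 (helper442)
-/

set_option autoImplicit false

namespace Cfsg.Agent.H442.RankVal

open Cfsg Cfsg.Agent.Characters.Core Cfsg.Agent.H690.Spor.RankThree Cfsg.Agent.H690.Spor.RankThree.R3

variable {G X : Type*} [Group G] [MulAction G X] {R : X → X → Prop} {k l : ℕ}
variable [Fintype X] [DecidableEq X] [DecidableRel R]

/-- **The values of the two non-principal constituents** of a permutation character of rank 3. -/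
theorem values [Finite G] (h : R3 G X R k l) {a b : ℕ} (hab : ∀ x y, ∑ z, adj R x z * adj R z y =
      (k - b : ℂ) * dia x y + (a - b : ℂ) * adj R x y + b) {r s : ℂ} (hrs : r ≠ s)
    (h1 : r + s = a - b) (h2 : r * s = b - k) : ∃ χ₁ χ₂ : IrrCharacter G,
    (∀ g : G, (χ₁ : G → ℂ) g = (r - s)⁻¹ * (∑ x : X, adj R x (g • x) -
      s * (Nat.card (MulAction.fixedBy X g) : ℂ) - (k - s))) ∧
    (∀ g : G, (χ₂ : G → ℂ) g = (s - r)⁻¹ * (∑ x : X, adj R x (g • x) -
      r * (Nat.card (MulAction.fixedBy X g) : ℂ) - (k - r))) := by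
  have := Fintype.ofFinite G
  have hp := h.params_eq hab
  have hn := h.cardn
  have hd0 : r - s ≠ 0 := sub_ne_zero.2 hrs
  -- the characters
  have hchar : ∀ u v : ℂ, u ≠ v → u + v = a - b → u * v = b - k →
      IsCharacter G (fun g : G => ∑ x : X, ker R k (Nat.card X) u v x (g • x)) := by
    intro u v huv h3 h4
    exact Cfsg.Agent.H651.isCharacter_sum_perm (MulAction.toPermHom G X) (ker R k (Nat.card X) u v)
      (h.ker_mul hab huv h3 h4) (fun g x y => h.ker_smul _ u v g x y)
  have hc1 := hchar r s hrs h1 h2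
  have hc2 := hchar s r hrs.symm (by rw [add_comm]; exact h1) (by rw [mul_comm]; exact h2)
  set θ₁ : G → ℂ := fun g : G => ∑ x : X, ker R k (Nat.card X) r s x (g • x) with hθ₁
  set θ₂ : G → ℂ := fun g : G => ∑ x : X, ker R k (Nat.card X) s r x (g • x) with hθ₂
  have hnC : (Nat.card X : ℂ) ≠ 0 := by
    have : Nat.card X ≠ 0 := by omega
    exact_mod_cast this
  have hval : ∀ u v : ℂ, ∀ g : G, ∑ x : X, ker R k (Nat.card X) u v x (g • x) =
      (u - v)⁻¹ * (∑ x : X, adj R x (g • x) - v * (Nat.card (MulAction.fixedBy X g) : ℂ) - (k - v)) := by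
    intro u v g
    unfold ker
    rw [← Finset.mul_sum, Finset.sum_sub_distrib, Finset.sum_sub_distrib, ← Finset.mul_sum, sum_dia_smul,
      Finset.sum_const, Finset.card_univ, ← Nat.card_eq_fintype_card, nsmul_eq_mul]
    congr 2
    field_simp
  have hsum : (fun g : G => (Nat.card (MulAction.fixedBy X g) : ℂ) - 1) = θ₁ + θ₂ := by
    funext g
    show _ = θ₁ g + θ₂ g
    rw [hθ₁, hθ₂]
    simp only [hval]
    have h3 : (s - r)⁻¹ = -(r - s)⁻¹ := by rw [← neg_sub, inv_neg]
    rw [h3]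
    have h4 : (r - s)⁻¹ * (r - s) = 1 := inv_mul_cancel₀ hd0
    linear_combination (-(Nat.card (MulAction.fixedBy X g) : ℂ) + 1) * h4
  have hnorm := h.norm_two (G := G)
  rw [hsum, classInner_add_left, classInner_add_right, classInner_add_right] at hnorm
  -- degrees
  have hone : ∑ x : X, adj R x ((1 : G) • x) = 0 := by
    refine Finset.sum_eq_zero fun x _ => ?_
    unfold adj
    rw [one_smul, if_neg (h.irr x)]
  have hfix1 : Nat.card (MulAction.fixedBy X (1 : G)) = Nat.card X := by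
    rw [MulAction.fixedBy_one_eq_univ]
    exact Nat.card_univ
  have hn' : (Nat.card X : ℂ) = 1 + k + l := by exact_mod_cast hn
  have hdeg1 : θ₁ 1 * (r - s) = -(s * (k + l) + k) := by
    rw [hθ₁]
    simp only [hval]
    rw [hone, hfix1, hn']
    have h4 : (r - s)⁻¹ * (r - s) = 1 := inv_mul_cancel₀ hd0
    linear_combination (0 - s * (1 + k + l) - (k - s)) * h4
  have hdeg2 : θ₂ 1 * (r - s) = r * (k + l) + k := by
    rw [hθ₂]
    simp only [hval]
    have h3 : (s - r)⁻¹ = -(r - s)⁻¹ := by rw [← neg_sub, inv_neg]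
    rw [hone, hfix1, hn', h3]
    have h4 : (r - s)⁻¹ * (r - s) = 1 := inv_mul_cancel₀ hd0
    linear_combination (0 - (0 - r * (1 + k + l) - (k - r))) * h4
  have hpC : (k : ℂ) * k = k + k * a + l * b := by exact_mod_cast hp
  have hprod : (θ₁ 1 * (r - s)) * (θ₂ 1 * (r - s)) = (1 + k + l) * k * l := by
    rw [hdeg1, hdeg2]
    linear_combination (-(k + l : ℂ) ^ 2) * h2 - (k : ℂ) * (k + l) * h1 + (k + l : ℂ) * hpC
  have hprod0 : ((1 + k + l) * k * l : ℂ) ≠ 0 := by
    have h3 := h.k0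
    have h4 := h.l0
    have h5 : (1 + k + l) * k * l ≠ 0 := by positivity
    exact_mod_cast h5
  have hne1 : θ₁ 1 ≠ 0 := by
    intro h0
    rw [h0, zero_mul, zero_mul] at hprod
    exact hprod0 hprod.symm
  have hne2 : θ₂ 1 ≠ 0 := by
    intro h0
    rw [h0, zero_mul, mul_zero] at hprod
    exact hprod0 hprod.symm
  -- norms
  obtain ⟨m11, hm11⟩ := classInner_isNat hc1 hc1
  obtain ⟨m12, hm12⟩ := classInner_isNat hc1 hc2
  obtain ⟨m21, hm21⟩ := classInner_isNat hc2 hc1
  obtain ⟨m22, hm22⟩ := classInner_isNat hc2 hc2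
  rw [hm11, hm12, hm21, hm22] at hnorm
  have hnormN : m11 + m12 + (m21 + m22) = 2 := by exact_mod_cast hnorm
  have h11 : m11 ≠ 0 := by
    rintro rfl
    have h3 := classInner_self_eq_zero (φ := θ₁) (by rw [hm11]; simp)
    rw [h3] at hne1
    exact hne1 rfl
  have h22 : m22 ≠ 0 := by
    rintro rfl
    have h3 := classInner_self_eq_zero (φ := θ₂) (by rw [hm22]; simp)
    rw [h3] at hne2
    exact hne2 rfl
  have hm1 : m11 = 1 := by omega
  have hm2 : m22 = 1 := by omega
  have hi1 : IsIrrCharacter G θ₁ := isIrr_of_classInner_self hc1 (by rw [hm11, hm1]; simp)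
  have hi2 : IsIrrCharacter G θ₂ := isIrr_of_classInner_self hc2 (by rw [hm22, hm2]; simp)
  exact ⟨⟨θ₁, hi1⟩, ⟨θ₂, hi2⟩, fun g => hval r s g, fun g => hval s r g⟩

/-- the parameters from one number -/
theorem params (h : R3 G X R k l) {x₀ y₀ : X} (hxy : R x₀ y₀) {a b : ℕ}
    (ha : com R x₀ y₀ = a) (hb : k * k = k + k * a + l * b) :
    ∀ x y, ∑ z, adj R x z * adj R z y = (k - b : ℂ) * dia x y + (a - b : ℂ) * adj R x y + b := by
  obtain ⟨a', b', hab⟩ := h.exists_params
  have hp := h.params_eq hab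
  have h1 : (a' : ℂ) = a := by
    have h2 := hab x₀ y₀
    rw [sum_mul, ha] at h2
    have hne : x₀ ≠ y₀ := fun h0 => h.irr x₀ (by rw [h0] at hxy ⊢; exact hxy)
    unfold dia adj at h2
    rw [if_neg hne, if_pos hxy] at h2
    linear_combination -h2
  have h2 : a' = a := by exact_mod_cast h1
  subst h2
  have h3 : b' = b := by
    have h4 : l * b' = l * b := by omega
    exact Nat.eq_of_mul_eq_mul_left h.l0 h4
  subst h3
  exact hab

end Cfsg.Agent.H442.RankVal
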