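import Mathlib
import Cfsg.Prelude.Def_Transfer
import Cfsg.Prelude.Def_PLocal
import Cfsg.Prelude.Def_CaseTheorems
import Cfsg.Agent.S0093
import Cfsg.Agent.H442.CycSelf
import Cfsg.Agent.Lib.FrattiniPGroup
import Cfsg.Agent.Lib.ClassTwoDuality
import Cfsg.Agent.Transfer.TausskyTwoGroup
import Cfsg.Agent.Transfer.CentralComm
import Cfsg.Agent.Transfer.ExtraspecialProduct
import Cfsg.Agent.J2.ExtQuot

/-!
# `p`-groups of symplectic type (P. Hall's theorem)
-/

set_option autoImplicit false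
set_option linter.unusedSectionVars false

namespace Cfsg.Agent.H442.SymType

open Subgroup Cfsg.Agent.H442.CycSelf
open scoped commutatorElement

/-- A criterion for a finite `p`-group to be extraspecial. -/
theorem isExtraspecial_of {p : ℕ} [hp : Fact p.Prime] {P : Type*} [Group P] [Finite P]
    (hP : IsPGroup p P) (hZ : Nat.card (Subgroup.center P) = p)
    (hc : ∀ x y : P, ⁅x, y⁆ ∈ Subgroup.center P)
    (hpow : ∀ x : P, x ^ p ∈ Subgroup.center P) (hcomm : ∃ x y : P, x * y ≠ y * x) :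
    Cfsg.IsExtraspecial p P := by
  have hle : _root_.commutator P ≤ Subgroup.center P := by
    rw [_root_.commutator_def, Subgroup.commutator_le]
    intro x _ y _
    exact hc x y
  have hprime : ∀ H : Subgroup P, H ≤ Subgroup.center P → H ≠ ⊥ → H = Subgroup.center P := by
    intro H hH hne
    have hdvd : Nat.card H ∣ p := hZ ▸ Subgroup.card_dvd_of_le hH
    rcases (Nat.dvd_prime hp.out).1 hdvd with h1 | h1
    · exact absurd ((Subgroup.card_eq_one).1 h1) hne
    · exact Subgroup.eq_of_le_of_card_ge hH (by rw [hZ, h1])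
  have hcom : _root_.commutator P = Subgroup.center P := by
    apply hprime _ hle
    intro h
    obtain ⟨x, y, hxy⟩ := hcomm
    apply hxy
    have : ⁅x, y⁆ ∈ _root_.commutator P := by
      rw [_root_.commutator_def]
      exact Subgroup.commutator_mem_commutator (Subgroup.mem_top _) (Subgroup.mem_top _)
    rw [h, Subgroup.mem_bot, commutatorElement_eq_one_iff_mul_comm] at this
    exact this
  have hfr : frattini P = Subgroup.center P := by
    apply le_antisymm
    · exact Cfsg.Agent.Lib.FrattiniPGroup.frattini_le (p := p) (Subgroup.center P) hc hpow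
    · rw [← hcom]
      exact Cfsg.Agent.Lib.FrattiniPGroup.commutator_le_frattini hP
  exact ⟨⟨hP, hfr, hcom⟩, hZ⟩

/-- A normal subgroup of order `p` of a `p`-group is central. -/
theorem central_of_card {G : Type*} [Group G] [Finite G] {p : ℕ} [hp : Fact p.Prime]
    (hG : IsPGroup p G) (N : Subgroup G) [N.Normal] (hN : Nat.card N = p) :
    N ≤ center G := by
  have hne : N ≠ ⊥ := by
    rintro rfl
    rw [card_bot] at hN
    exact hp.out.one_lt.ne hN
  obtain ⟨Z, hZN, hZ, hZp⟩ :=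
    Cfsg.Agent.Transfer.TausskyTwoGroup.exists_central_card_prime_le hG N hne
  have : Z = N := Subgroup.eq_of_le_of_card_ge hZN (by rw [hN, hZp])
  rw [← this]
  exact hZ

variable {G : Type*} [Group G] [Finite G] {p n : ℕ} {u z : G} {H : Subgroup G}

/-- The critical subgroup `H` with `C_G(H) = ⟨u⟩` cyclic of order `p ^ n`, `z` of order `p` in `⟨u⟩`. -/
structure Data {G : Type*} [Group G] (p n : ℕ) (H : Subgroup G) (u z : G) : Prop where
  pg : IsPGroup p G
  symp : ∀ A : Subgroup G, A.Characteristic → IsMulCommutative A → IsCyclic A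
  n1 : 1 ≤ n
  ord : orderOf u = p ^ n
  Zchar : (zpowers u).Characteristic
  Hchar : H.Characteristic
  cent : ∀ g, (∀ h ∈ H, h * g = g * h) → g ∈ zpowers u
  cent' : ∀ h ∈ H, h * u = u * h
  uH : u ∈ H
  pow : ∀ h ∈ H, h ^ p ∈ zpowers u
  comm : ∀ h ∈ H, ∀ g : G, ⁅h, g⁆ ∈ zpowers u
  z_def : z = u ^ p ^ (n - 1)

theorem Data.mem_z [hp : Fact p.Prime] (h : Data p n H u z) {x : G} (hx : x ∈ zpowers u)
    (hxp : x ^ p = 1) : x ∈ zpowers z := by
  obtain ⟨k, rfl⟩ := hx
  dsimp only at hxp ⊢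
  rw [← zpow_natCast, ← zpow_mul, ← orderOf_dvd_iff_zpow_eq_one, h.ord] at hxp
  obtain ⟨l, hl⟩ := Nat.exists_eq_add_of_le' h.n1
  rw [hl] at hxp
  push_cast at hxp
  obtain ⟨m, hm⟩ := hxp
  have hp0 : (p : ℤ) ≠ 0 := by exact_mod_cast hp.out.ne_zero
  have hk : k = p ^ l * m := by
    apply mul_right_cancel₀ hp0
    rw [hm]; ring
  refine ⟨m, ?_⟩
  dsimp only
  rw [h.z_def, hl, hk, ← zpow_natCast, ← zpow_mul]
  congr 1

theorem Data.z_mem (h : Data p n H u z) : z ∈ zpowers u := by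
  rw [h.z_def]
  exact pow_mem (mem_zpowers u) _

theorem Data.z_ord [hp : Fact p.Prime] (h : Data p n H u z) : orderOf z = p := by
  rw [h.z_def, orderOf_pow, h.ord, Nat.gcd_eq_right (pow_dvd_pow p (by omega)),
    Nat.pow_div (by omega) hp.out.pos]
  have h1 := h.n1
  have : n - (n - 1) = 1 := by omega
  rw [this, pow_one]

theorem Data.z_pow [hp : Fact p.Prime] (h : Data p n H u z) : z ^ p = 1 := by
  have := pow_orderOf_eq_one z
  rwa [h.z_ord] at this

theorem Data.z_central [hp : Fact p.Prime] (h : Data p n H u z) (g : G) :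
    g * z = z * g := by
  have hn : (zpowers z).Normal := by
    refine ⟨fun x hx g => ?_⟩
    have hZn : (zpowers u).Normal := by have := h.Zchar; infer_instance
    apply h.mem_z
    · exact hZn.conj_mem x ((zpowers_le.mpr h.z_mem) hx) g
    · obtain ⟨k, rfl⟩ := hx
      dsimp only
      rw [_root_.conj_pow, ← zpow_natCast, ← zpow_mul, mul_comm k, zpow_mul, zpow_natCast, h.z_pow,
        one_zpow]
      group
  have h1 := central_of_card h.pg (zpowers z) (by rw [Nat.card_zpowers, h.z_ord])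
  exact mem_center_iff.mp (h1 (mem_zpowers z)) g

/-- In `H` commutators with elements of `⟨u⟩` are trivial. -/
theorem Data.comm_u (h : Data p n H u z) {x w : G} (hx : x ∈ H) (hw : w ∈ zpowers u) :
    Commute x w := by
  obtain ⟨k, rfl⟩ := hw
  exact (show Commute x u from h.cent' x hx).zpow_right k

theorem Data.u_le (h : Data p n H u z) : zpowers u ≤ H := zpowers_le.mpr h.uH

/-- Commutators in `H` are powers of `z`. -/
theorem Data.comm_z [hp : Fact p.Prime] (h : Data p n H u z) {x y : G} (hx : x ∈ H) (hy : y ∈ H) :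
    ⁅x, y⁆ ∈ zpowers z := by
  apply h.mem_z (h.comm x hx y)
  -- `(x y x⁻¹)^p = x y^p x⁻¹`
  have h1 : ⁅x, y⁆ * y = x * y * x⁻¹ := by rw [commutatorElement_def]; group
  have h2 : Commute ⁅x, y⁆ y := (h.comm_u hy (h.comm x hx y)).symm
  have h3 : (⁅x, y⁆ * y) ^ p = ⁅x, y⁆ ^ p * y ^ p := h2.mul_pow p
  rw [h1, _root_.conj_pow] at h3
  have h4 : x * y ^ p * x⁻¹ = y ^ p := by
    have := (h.comm_u hx (h.pow y hy)).eq
    rw [this]; group
  rw [h4] at h3
  exact (mul_eq_right.mp h3.symm)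

/-- A power formula. -/
theorem mul_pow_of_comm {a b w : G} (h : b * a = a * b * w) (hwa : Commute w a)
    (hwb : Commute w b) (m : ℕ) : (a * b) ^ m = a ^ m * b ^ m * w ^ m.choose 2 := by
  have hb : ∀ k : ℕ, b ^ k * a = a * b ^ k * w ^ k := by
    intro k
    induction k with
    | zero => simp
    | succ k ih =>
      calc b ^ (k + 1) * a = b ^ k * (b * a) := by rw [pow_succ]; group
        _ = (b ^ k * a) * (b * w) := by rw [h]; group
        _ = a * b ^ k * (w ^ k * b) * w := by rw [ih]; group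
        _ = a * b ^ k * (b * w ^ k) * w := by rw [(hwb.pow_left k).eq]
        _ = a * b ^ (k + 1) * w ^ (k + 1) := by rw [pow_succ b, pow_succ w]; group
  induction m with
  | zero => simp
  | succ m ih =>
    have h2 : (m + 1).choose 2 = m + m.choose 2 := by
      rw [Nat.choose_succ_succ' m 1, Nat.choose_one_right]
    calc (a * b) ^ (m + 1) = a ^ m * b ^ m * (w ^ m.choose 2 * a) * b := by
          rw [pow_succ, ih]; group
      _ = a ^ m * (b ^ m * a) * (w ^ m.choose 2 * b) := by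
          rw [(hwa.pow_left _).eq]; group
      _ = a ^ m * (a * b ^ m * w ^ m) * (b * w ^ m.choose 2) := by
          rw [hb, (hwb.pow_left _).eq]
      _ = a ^ m * a * b ^ m * (w ^ m * b) * w ^ m.choose 2 := by group
      _ = a ^ m * a * b ^ m * (b * w ^ m) * w ^ m.choose 2 := by rw [(hwb.pow_left _).eq]
      _ = a ^ (m + 1) * b ^ (m + 1) * w ^ (m + 1).choose 2 := by
          rw [h2, pow_succ a, pow_succ b, pow_add]; group

/-- The power formula in `H`. -/
theorem Data.mul_pow [hp : Fact p.Prime] (h : Data p n H u z) {x y : G} (hx : x ∈ H)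
    (hy : y ∈ H) (m : ℕ) : ∃ w ∈ zpowers z, (x * y) ^ m = x ^ m * y ^ m * w ^ m.choose 2 := by
  have hw : ⁅y⁻¹, x⁻¹⁆ ∈ zpowers z := h.comm_z (inv_mem hy) (inv_mem hx)
  refine ⟨⁅y⁻¹, x⁻¹⁆, hw, ?_⟩
  obtain ⟨k, hk⟩ := hw
  have hc : ∀ g : G, Commute ⁅y⁻¹, x⁻¹⁆ g := by
    intro g
    rw [← hk]
    exact ((show Commute g z from h.z_central g).zpow_right k).symm
  apply mul_pow_of_comm _ (hc x) (hc y)
  rw [commutatorElement_def]
  group

omit [Finite G] in
theorem zpow_pow_eq_one {w : G} {p : ℕ} (hz : z ^ p = 1) (hw : w ∈ zpowers z) : w ^ p = 1 := by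
  obtain ⟨k, rfl⟩ := hw
  dsimp only
  rw [← zpow_natCast, ← zpow_mul, mul_comm, zpow_mul, zpow_natCast, hz, one_zpow]

/-- The exponent of `H` divides `p ^ n` (if `n ≥ 2`). -/
theorem Data.pow_pn [hp : Fact p.Prime] (h : Data p n H u z) (hn : 2 ≤ n) {x : G} (hx : x ∈ H) :
    x ^ p ^ n = 1 := by
  have hu1 : ∀ w ∈ zpowers u, w ^ p ^ n = 1 := by
    rintro _ ⟨k, rfl⟩
    dsimp only
    rw [← zpow_natCast, ← zpow_mul, mul_comm, zpow_mul, zpow_natCast, ← h.ord, pow_orderOf_eq_one,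
      one_zpow]
  have hmul : ∀ x ∈ H, ∀ y ∈ H, (x * y) ^ p ^ n = x ^ p ^ n * y ^ p ^ n := by
    intro x hx y hy
    obtain ⟨w, hw, hxy⟩ := h.mul_pow hx hy (p ^ n)
    rw [hxy]
    have h1 : p ∣ (p ^ n).choose 2 := by
      apply hp.out.dvd_choose_pow (by norm_num)
      have h2 := hp.out.two_le
      have : 2 ^ 2 ≤ p ^ n := (Nat.pow_le_pow_left h2 2).trans
        (Nat.pow_le_pow_right hp.out.pos hn)
      omega
    obtain ⟨c, hc⟩ := h1
    rw [hc, pow_mul, zpow_pow_eq_one h.z_pow hw, one_pow, mul_one]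
  have hZ : ∀ x ∈ H, x ^ p ^ n ∈ zpowers u := by
    intro x hx
    obtain ⟨l, rfl⟩ := Nat.exists_eq_add_of_le' hn
    have : p ^ (l + 2) = p * p ^ (l + 1) := by ring
    rw [this, pow_mul]
    exact pow_mem (h.pow x hx) _
  have hcen : ∀ w : H, w ∈ center H ↔ (w : G) ∈ zpowers u := by
    intro w
    rw [mem_center_iff]
    constructor
    · intro h1
      apply h.cent
      intro k hk
      exact congrArg Subtype.val (h1 ⟨k, hk⟩)
    · intro h1 g
      exact Subtype.ext (h.comm_u g.2 h1).eq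
  have hcyc : IsCyclic (center H) := by
    let j : center H →* zpowers u :=
      { toFun := fun w => ⟨((w : H) : G), (hcen w).mp w.2⟩
        map_one' := rfl
        map_mul' := fun _ _ => rfl }
    apply isCyclic_of_injective j
    intro a b hab
    have := congrArg (fun w : zpowers u => (w : G)) hab
    exact Subtype.ext (Subtype.ext this)
  let f : H →* center H :=
    { toFun := fun w => ⟨w ^ p ^ n, by rw [hcen]; simpa using hZ w w.2⟩
      map_one' := by ext; simp
      map_mul' := fun a b => by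
        apply Subtype.ext
        apply Subtype.ext
        simpa using hmul a a.2 b b.2 }
  obtain ⟨g, hg⟩ := Cfsg.Agent.Lib.ClassTwoDuality.exists_comm_eq_center (P := H) (by
    rw [_root_.commutator_def, Subgroup.commutator_le]
    intro a _ b _
    rw [hcen]
    exact h.comm a a.2 b) hcyc f (by
    intro w hw
    apply Subtype.ext
    apply Subtype.ext
    exact hu1 _ ((hcen w).mp hw))
  by_contra hne
  have hgx : ⁅g, (⟨x, hx⟩ : H)⁆ ≠ 1 := by
    rw [← hg]
    intro h0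
    exact hne (congrArg Subtype.val h0)
  have hgu : (g : G) ∉ zpowers u := by
    intro h0
    apply hgx
    rw [commutatorElement_eq_one_iff_mul_comm]
    exact (mem_center_iff.mp ((hcen g).mpr h0) _).symm
  have hgg : (g : G) ^ p ^ n = 1 := by
    have := hg g
    rw [commutatorElement_self] at this
    exact congrArg Subtype.val this
  -- the characteristic subgroup of elements of exponent `p ^ n`
  let A : Subgroup G :=
    { carrier := {x | x ∈ H ∧ x ^ p ^ n = 1}
      one_mem' := ⟨one_mem _, one_pow _⟩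
      mul_mem' := fun {a b} ha hb => ⟨mul_mem ha.1 hb.1, by
        rw [hmul a ha.1 b hb.1, ha.2, hb.2, one_mul]⟩
      inv_mem' := fun {a} ha => ⟨inv_mem ha.1, by rw [inv_pow, ha.2, inv_one]⟩ }
  have hA : A.Characteristic := by
    rw [characteristic_iff_map_le]
    rintro φ _ ⟨x, hx, rfl⟩
    have hH := h.Hchar
    rw [characteristic_iff_map_le] at hH
    refine ⟨hH φ ⟨x, hx.1, rfl⟩, ?_⟩
    rw [← map_pow, hx.2, map_one]
  have hB : (A ⊓ centralizer (A : Set G)).Characteristic := inferInstance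
  have hBc : IsMulCommutative ↥(A ⊓ centralizer (A : Set G)) :=
    ⟨⟨fun a b => Subtype.ext (mem_centralizer_iff.mp b.2.2 a a.2.1)⟩⟩
  obtain ⟨⟨c, hc⟩, hcg⟩ := (h.symp _ hB hBc).exists_generator
  have hgB : (g : G) ∈ A ⊓ centralizer (A : Set G) := by
    refine mem_inf.mpr ⟨⟨g.2, hgg⟩, mem_centralizer_iff.mpr ?_⟩
    intro y hy
    have h1 := hg ⟨y, hy.1⟩
    have h2 : ⁅g, (⟨y, hy.1⟩ : H)⁆ = 1 := by
      rw [← h1]
      exact Subtype.ext hy.2
    rw [commutatorElement_eq_one_iff_mul_comm] at h2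
    exact (congrArg Subtype.val h2).symm
  have huB : u ∈ A ⊓ centralizer (A : Set G) := by
    refine mem_inf.mpr ⟨⟨h.uH, hu1 u (mem_zpowers u)⟩, mem_centralizer_iff.mpr ?_⟩
    intro y hy
    exact h.cent' y hy.1
  obtain ⟨k, hk⟩ := hcg ⟨u, huB⟩
  obtain ⟨m, hm⟩ := hcg ⟨g, hgB⟩
  have hk : c ^ k = u := congrArg Subtype.val hk
  have hm : c ^ m = g := congrArg Subtype.val hm
  have h1 : zpowers u ≤ zpowers c := by rw [zpowers_le]; exact ⟨k, hk⟩
  have h2 : zpowers u = zpowers c := by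
    apply Subgroup.eq_of_le_of_card_ge h1
    rw [Nat.card_zpowers, Nat.card_zpowers, h.ord]
    exact Nat.le_of_dvd (pow_pos hp.out.pos n) (orderOf_dvd_of_pow_eq_one hc.1.2)
  exact hgu (by rw [h2]; exact ⟨m, hm⟩)

theorem Data.exists_pow_one [hp : Fact p.Prime] (h : Data p n H u z) (hn : 2 ≤ n) {x : G}
    (hx : x ∈ H) : ∃ w ∈ zpowers u, (x * w) ^ p = 1 := by
  obtain ⟨k, hk⟩ := h.pow x hx
  have hk : u ^ k = x ^ p := hk
  have h1 := h.pow_pn hn hx
  obtain ⟨l, rfl⟩ := Nat.exists_eq_add_of_le' hn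
  have h2 : p ^ (l + 2) = p * p ^ (l + 1) := by ring
  rw [h2, pow_mul, ← hk, ← zpow_natCast, ← zpow_mul, ← orderOf_dvd_iff_zpow_eq_one, h.ord] at h1
  push_cast at h1
  obtain ⟨m, hm⟩ := h1
  have hp0 : ((p : ℤ) ^ (l + 1)) ≠ 0 := by
    have : (p : ℤ) ≠ 0 := by exact_mod_cast hp.out.ne_zero
    positivity
  have hkm : k = p * m := by
    apply mul_right_cancel₀ hp0
    rw [hm]; ring
  refine ⟨u ^ (-m), zpow_mem (mem_zpowers u) _, ?_⟩
  rw [(h.comm_u hx (zpow_mem (mem_zpowers u) (-m))).mul_pow, ← hk, hkm, ← zpow_natCast (u ^ (-m)),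
    ← zpow_mul, ← zpow_add]
  have : (p : ℤ) * m + -m * p = 0 := by ring
  rw [this, zpow_zero]

/-- The subgroup `T` of elements of small order. -/
theorem Data.exists_T [hp : Fact p.Prime] (h : Data p n H u z) : ∃ T : Subgroup G, T ≤ H ∧
    z ∈ T ∧ (∀ x ∈ T, x ^ p ∈ zpowers z) ∧ (2 ≤ n → p ≠ 2 → ∀ x ∈ T, x ^ p = 1) ∧
    ∀ x ∈ H, ∃ w ∈ zpowers u, x * w ∈ T := by
  refine ⟨{ carrier := {x | x ∈ H ∧ x ^ p ∈ zpowers z ∧ (2 ≤ n → p ≠ 2 → x ^ p = 1)}
            one_mem' := ⟨one_mem _, by rw [one_pow]; exact one_mem _, fun _ _ => one_pow _⟩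
            mul_mem' := ?_
            inv_mem' := ?_ }, ?_, ?_, ?_, ?_, ?_⟩
  · rintro a b ⟨ha1, ha2, ha3⟩ ⟨hb1, hb2, hb3⟩
    obtain ⟨w, hw, hab⟩ := h.mul_pow ha1 hb1 p
    refine ⟨mul_mem ha1 hb1, ?_, ?_⟩
    · rw [hab]
      exact mul_mem (mul_mem ha2 hb2) (pow_mem hw _)
    · intro hn hp2
      rw [hab, ha3 hn hp2, hb3 hn hp2, one_mul, one_mul]
      have h1 : p ∣ p.choose 2 := hp.out.dvd_choose_self (by norm_num)
        (lt_of_le_of_ne hp.out.two_le (Ne.symm hp2))
      obtain ⟨c, hc⟩ := h1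
      rw [hc, pow_mul, zpow_pow_eq_one h.z_pow hw, one_pow]
  · rintro a ⟨ha1, ha2, ha3⟩
    refine ⟨inv_mem ha1, ?_, ?_⟩
    · rw [inv_pow]; exact inv_mem ha2
    · intro hn hp2
      rw [inv_pow, ha3 hn hp2, inv_one]
  · intro x hx; exact hx.1
  · refine ⟨h.u_le h.z_mem, ?_, fun _ _ => h.z_pow⟩
    rw [h.z_pow]; exact one_mem _
  · intro x hx; exact hx.2.1
  · intro hn hp2 x hx; exact hx.2.2 hn hp2
  · intro x hx
    by_cases hn : 2 ≤ n
    · obtain ⟨w, hw, h1⟩ := h.exists_pow_one hn hx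
      refine ⟨w, hw, mul_mem hx (h.u_le hw), ?_, fun _ _ => h1⟩
      rw [h1]; exact one_mem _
    · have hn1 : n = 1 := by have := h.n1; omega
      refine ⟨1, one_mem _, ?_, ?_, fun h0 => absurd h0 hn⟩
      · rw [mul_one]; exact hx
      · rw [mul_one]
        have : z = u := by rw [h.z_def, hn1]; simp
        rw [this]
        exact h.pow x hx

theorem Data.conj_mem_of_z [hp : Fact p.Prime] (h : Data p n H u z) {E : Subgroup G}
    (hEH : E ≤ H) (hzE : z ∈ E) {t : G} (ht : t ∈ H) {x : G} (hx : x ∈ E) : t * x * t⁻¹ ∈ E := by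
  have h1 := h.comm_z ht (hEH hx)
  have h2 : t * x * t⁻¹ = ⁅t, x⁆ * x := by rw [commutatorElement_def]; group
  rw [h2]
  exact mul_mem ((zpowers_le.mpr hzE) h1) hx

theorem Data.exists_E [hp : Fact p.Prime] (h : Data p n H u z) : ∃ E : Subgroup G, E ≤ H ∧
    z ∈ E ∧ (∀ x ∈ E, x ^ p ∈ zpowers z) ∧ (2 ≤ n → p ≠ 2 → ∀ x ∈ E, x ^ p = 1) ∧
    (∀ x ∈ E, x ∈ zpowers u → x ∈ zpowers z) ∧
    ∀ x ∈ H, ∃ w ∈ zpowers u, x * w ∈ E := by
  obtain ⟨T, hTH, hzT, hTp, hTp1, hT⟩ := h.exists_T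
  obtain ⟨E, hE⟩ := Set.Finite.exists_maximal (s := {E : Subgroup G | E ≤ T ∧ z ∈ E ∧
    (∀ x ∈ E, x ∈ zpowers u → x ∈ zpowers z)}) (Set.toFinite _)
    ⟨zpowers z, zpowers_le.mpr hzT, mem_zpowers z, fun x hx _ => hx⟩
  obtain ⟨⟨hET, hzE, hEz⟩, hmax⟩ := hE
  have hEH := hET.trans hTH
  refine ⟨E, hEH, hzE, fun x hx => hTp x (hET hx), fun hn hp2 x hx => hTp1 hn hp2 x (hET hx),
    hEz, ?_⟩
  have key : ∀ t ∈ T, ∃ w ∈ zpowers u, t * w ∈ E := by
    intro t ht
    by_cases htE : t ∈ E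
    · exact ⟨1, one_mem _, by rw [mul_one]; exact htE⟩
    have hlt : ¬ (E ⊔ zpowers t ≤ E) := fun h0 => htE (h0 (le_sup_right (a := E) (mem_zpowers t)))
    have hnot : ¬ ∀ x ∈ E ⊔ zpowers t, x ∈ zpowers u → x ∈ zpowers z := by
      intro h0
      exact hlt (hmax ⟨sup_le hET (zpowers_le.mpr ht), le_sup_left (a := E) hzE, h0⟩ le_sup_left)
    push Not at hnot
    obtain ⟨x, hxE, hxu, hxz⟩ := hnot
    have hnorm : zpowers t ≤ normalizer (E : Set G) := by
      rw [zpowers_le, mem_normalizer_iff]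
      intro y
      constructor
      · intro hy; exact h.conj_mem_of_z hEH hzE (hTH ht) hy
      · intro hy
        have := h.conj_mem_of_z hEH hzE (inv_mem (hTH ht)) hy
        have e : t⁻¹ * (t * y * t⁻¹) * t⁻¹⁻¹ = y := by group
        rwa [e] at this
    rw [sup_comm, ← SetLike.mem_coe, coe_mul_of_left_le_normalizer_right _ _ hnorm] at hxE
    obtain ⟨_, ⟨i, rfl⟩, e, he, hte⟩ := hxE
    have hte : t ^ i * e = x := hte
    have hcop : IsCoprime i (p : ℤ) := by
      rw [isCoprime_comm]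
      apply (Prime.coprime_iff_not_dvd (Nat.prime_iff_prime_int.mp hp.out)).mpr
      rintro ⟨m, rfl⟩
      apply hxz
      apply hEz x _ hxu
      rw [← hte, zpow_mul, zpow_natCast]
      exact mul_mem (zpow_mem ((zpowers_le.mpr hzE) (hTp t ht)) m) he
    obtain ⟨a, b, hab⟩ := hcop
    refine ⟨x ^ (-a), zpow_mem hxu _, ?_⟩
    have hti : t ^ i = x * e⁻¹ := by rw [← hte]; group
    have hcx : Commute x e⁻¹ := (h.comm_u (inv_mem (hEH he)) hxu).symm
    have h1 : t = (x * e⁻¹) ^ a * (t ^ p) ^ b := by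
      conv_lhs => rw [← zpow_one t, ← hab, zpow_add, mul_comm a i, zpow_mul, hti, mul_comm b,
        zpow_mul, zpow_natCast]
    have h2 : (x * e⁻¹) ^ a = (e⁻¹) ^ a * x ^ a := by
      rw [hcx.mul_zpow, (hcx.zpow_zpow a a).eq]
    have h3 : Commute x ((t ^ p) ^ b) := by
      have : Commute t x := h.comm_u (hTH ht) hxu
      exact ((this.pow_left p).zpow_left b).symm
    have h4 : t * x ^ (-a) = (e⁻¹) ^ a * (t ^ p) ^ b := by
      calc t * x ^ (-a) = (x * e⁻¹) ^ a * (t ^ p) ^ b * x ^ (-a) := by rw [← h1]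
        _ = (e⁻¹) ^ a * (x ^ a * (t ^ p) ^ b) * x ^ (-a) := by rw [h2]; group
        _ = (e⁻¹) ^ a * ((t ^ p) ^ b * x ^ a) * x ^ (-a) := by rw [(h3.zpow_left a).eq]
        _ = _ := by group
    rw [h4]
    exact mul_mem (zpow_mem (inv_mem he) a) (zpow_mem ((zpowers_le.mpr hzE) (hTp t ht)) b)
  intro x hx
  obtain ⟨w, hw, hxw⟩ := hT x hx
  obtain ⟨w', hw', hxw'⟩ := key _ hxw
  exact ⟨w * w', mul_mem hw hw', by rw [← mul_assoc]; exact hxw'⟩

omit [Finite G] in
theorem two_le_of_cyc [hp : Fact p.Prime] (hG : IsPGroup p G) (h : Cyc p n u) (hn1 : 1 ≤ n)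
    {y : G} (hy : y ∉ zpowers u) : 2 ≤ n := by
  obtain ⟨k₀, hy1, hy2⟩ := exists_pow (p := p) hG hy
  by_contra h0
  have hn : n = 1 := by omega
  subst hn
  apply hy1
  obtain ⟨r, hr⟩ := h.act (y ^ p ^ k₀)
  have h1 : (p : ℤ) ^ 1 ∣ r ^ p - 1 := h.dvd_of_mem (h.conj_pow hr p) hy2
  rw [pow_one] at h1
  apply h.mem_of_dvd hr
  rw [pow_one]
  have h3 : ((r ^ p - 1 : ℤ) : ZMod p) = 0 := (ZMod.intCast_zmod_eq_zero_iff_dvd _ p).mpr h1
  apply (ZMod.intCast_zmod_eq_zero_iff_dvd _ p).mp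
  push_cast at h3 ⊢
  rwa [ZMod.pow_card] at h3

/-- In a cyclic group the elements of order dividing `p` are the powers of an element of order `p`. -/
theorem mem_zpowers_of_cyclic [hp : Fact p.Prime] (hG : IsCyclic G) {v z : G}
    (hz : orderOf z = p) (hv : v ^ p = 1) : v ∈ zpowers z := by
  classical
  have : Fintype G := Fintype.ofFinite G
  have h1 := IsCyclic.card_pow_eq_one_le (α := G) hp.out.pos
  by_contra hvz
  have h2 : (zpowers z : Set G).toFinset ⊂ Finset.univ.filter (fun a : G => a ^ p = 1) := by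
    rw [Finset.ssubset_iff]
    refine ⟨v, ?_, ?_⟩
    · simpa using hvz
    · intro a ha
      rw [Finset.mem_insert] at ha
      rcases ha with rfl | ha
      · simpa using hv
      · simp only [Set.mem_toFinset, SetLike.mem_coe] at ha
        have := zpow_pow_eq_one (p := p) (by rw [← hz]; exact pow_orderOf_eq_one z) ha
        simpa using this
  have h3 := Finset.card_lt_card h2
  have h4 : (zpowers z : Set G).toFinset.card = p := by
    rw [Set.toFinset_card, ← Nat.card_eq_fintype_card, ← hz, ← Nat.card_zpowers]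
    rfl
  omega

/-- `E` and its centralizer. -/
structure Split (p n : ℕ) (H : Subgroup G) (u z : G) (E C : Subgroup G) : Prop
    extends Data p n H u z where
  EH : E ≤ H
  zE : z ∈ E
  Epow : ∀ x ∈ E, x ^ p ∈ zpowers z
  Epow1 : 2 ≤ n → p ≠ 2 → ∀ x ∈ E, x ^ p = 1
  Ez : ∀ x ∈ E, x ∈ zpowers u → x ∈ zpowers z
  EZ : ∀ x ∈ H, ∃ w ∈ zpowers u, x * w ∈ E
  hC : C = centralizer (E : Set G)

variable {E C : Subgroup G}

theorem Split.comm_of (h : Split p n H u z E C) {e c : G} (he : e ∈ E) (hc : c ∈ C) :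
    Commute e c := by
  rw [h.hC] at hc
  exact mem_centralizer_iff.mp hc e he

theorem Split.uC (h : Split p n H u z E C) : u ∈ C := by
  rw [h.hC, mem_centralizer_iff]
  intro e he
  exact h.cent' e (h.EH he)

/-- An element commuting with `E` and `u` lies in `⟨u⟩`. -/
theorem Split.mem_u (h : Split p n H u z E C) {x : G} (hE : ∀ e ∈ E, Commute e x)
    (hu : Commute u x) : x ∈ zpowers u := by
  apply h.cent
  intro k hk
  obtain ⟨w, hw, hkw⟩ := h.EZ k hk
  have h1 := hE _ hkw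
  obtain ⟨i, rfl⟩ := hw
  have h2 : Commute (u ^ i) x := hu.zpow_left i
  have h3 : Commute (k * u ^ i * (u ^ i)⁻¹) x := h1.mul_left h2.inv_left
  rw [mul_inv_cancel_right] at h3
  exact h3.eq

theorem Split.comm_E [hp : Fact p.Prime] (h : Split p n H u z E C) (g : G) {e : G} (he : e ∈ E) :
    ⁅g, e⁆ ∈ zpowers z := by
  have h0 : ⁅g, e⁆ ∈ zpowers u := by
    rw [← commutatorElement_inv]
    exact inv_mem (h.comm e (h.EH he) g)
  apply h.mem_z h0
  have h1 : ⁅g, e⁆ * e = g * e * g⁻¹ := by rw [commutatorElement_def]; group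
  have h2 : Commute ⁅g, e⁆ e := (h.comm_u (h.EH he) h0).symm
  have h3 : (⁅g, e⁆ * e) ^ p = ⁅g, e⁆ ^ p * e ^ p := h2.mul_pow p
  rw [h1, _root_.conj_pow] at h3
  have h4 : g * e ^ p * g⁻¹ = e ^ p := by
    obtain ⟨k, hk⟩ := h.Epow e he
    have hk : z ^ k = e ^ p := hk
    have := ((show Commute g z from h.z_central g).zpow_right k).eq
    rw [← hk, this]; group
  rw [h4] at h3
  exact (mul_eq_right.mp h3.symm)

theorem Split.zE' (h : Split p n H u z E C) : zpowers z ≤ E := zpowers_le.mpr h.zE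

theorem Split.E_normal [hp : Fact p.Prime] (h : Split p n H u z E C) : E.Normal := by
  refine ⟨fun e he g => ?_⟩
  have h2 : g * e * g⁻¹ = ⁅g, e⁆ * e := by rw [commutatorElement_def]; group
  rw [h2]
  exact mul_mem (h.zE' (h.comm_E g he)) he

theorem Split.C_eq_top [hp : Fact p.Prime] (h : Split p n H u z E C)
    (hab : ∀ a ∈ E, ∀ b ∈ E, a * b = b * a) : C = ⊤ := by
  rw [h.hC, eq_top_iff]
  intro g _
  rw [mem_centralizer_iff]
  intro e he
  have h1 : e ∈ zpowers u := h.mem_u (fun a ha => hab a ha e he)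
    (show Commute u e from (h.cent' e (h.EH he)).symm)
  obtain ⟨k, rfl⟩ := h.Ez e he h1
  exact ((show Commute g z from h.z_central g).zpow_right k).eq.symm

theorem Split.extraspecial [hp : Fact p.Prime] (h : Split p n H u z E C)
    (hab : ¬ ∀ a ∈ E, ∀ b ∈ E, a * b = b * a) : Cfsg.IsExtraspecial p E := by
  have hcen : ∀ x : E, x ∈ center E ↔ (x : G) ∈ zpowers z := by
    intro x
    rw [mem_center_iff]
    constructor
    · intro h1
      apply h.Ez x x.2
      exact h.mem_u (fun a ha => congrArg Subtype.val (h1 ⟨a, ha⟩))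
        (show Commute u x from (h.cent' x (h.EH x.2)).symm)
    · rintro ⟨k, hk⟩ g
      have hk : z ^ k = (x : G) := hk
      apply Subtype.ext
      have := ((show Commute (g : G) z from h.z_central g).zpow_right k).eq
      rw [hk] at this
      exact this
  apply isExtraspecial_of (h.pg.to_subgroup E)
  · have e : center E ≃ zpowers z :=
      { toFun := fun x => ⟨x, (hcen x).mp x.2⟩
        invFun := fun x => ⟨⟨x, h.zE' x.2⟩, (hcen _).mpr x.2⟩
        left_inv := fun x => rfl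
        right_inv := fun x => rfl }
    rw [Nat.card_congr e, Nat.card_zpowers, h.z_ord]
  · intro x y
    rw [hcen]
    exact h.comm_z (h.EH x.2) (h.EH y.2)
  · intro x
    rw [hcen]
    exact h.Epow x x.2
  · push Not at hab
    obtain ⟨a, ha, b, hb, hne⟩ := hab
    exact ⟨⟨a, ha⟩, ⟨b, hb⟩, fun h0 => hne (congrArg Subtype.val h0)⟩

theorem Split.sup_eq_top [hp : Fact p.Prime] (h : Split p n H u z E C) : E ⊔ C = ⊤ := by
  by_cases hab : ∀ a ∈ E, ∀ b ∈ E, a * b = b * a
  · rw [h.C_eq_top hab, sup_top_eq]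
  · rw [h.hC]
    apply Cfsg.Agent.Transfer.ExtraspecialProduct.sup_centralizer_eq_top E (h.extraspecial hab)
    rw [Subgroup.commutator_le]
    intro g _ e he
    have h1 := h.comm_E g he
    refine mem_inf.mpr ⟨h.zE' h1, mem_centralizer_iff.mpr ?_⟩
    intro y _
    obtain ⟨k, hk⟩ := h1
    have hk : z ^ k = ⁅g, e⁆ := hk
    rw [← hk]
    exact ((show Commute y z from h.z_central y).zpow_right k).eq

theorem Split.exists_mul [hp : Fact p.Prime] (h : Split p n H u z E C) (x : G) :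
    ∃ e ∈ E, ∃ c ∈ C, x = e * c := by
  have hn := h.E_normal
  have h1 : x ∈ E ⊔ C := by rw [h.sup_eq_top]; exact mem_top x
  rw [mem_sup_of_normal_left] at h1
  obtain ⟨e, he, c, hc, hx⟩ := h1
  exact ⟨e, he, c, hc, hx.symm⟩

/-- The first factor. -/
theorem Split.exists_first [hp : Fact p.Prime] (h : Split p n H u z E C) :
    ∃ E' : Subgroup G, (∀ e ∈ E', ∀ r ∈ C, e * r = r * e) ∧ E' ⊔ C = ⊤ ∧
      (E' = ⊥ ∨ Cfsg.IsExtraspecial p ↥E') := by
  by_cases hab : ∀ a ∈ E, ∀ b ∈ E, a * b = b * a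
  · refine ⟨⊥, ?_, ?_, Or.inl rfl⟩
    · intro e he r _
      rw [mem_bot] at he
      rw [he, one_mul, mul_one]
    · rw [h.C_eq_top hab, sup_top_eq]
  · exact ⟨E, fun e he r hr => (h.comm_of he hr).eq, h.sup_eq_top, Or.inr (h.extraspecial hab)⟩

theorem Split.cyc [hp : Fact p.Prime] (h : Split p n H u z E C) :
    Cyc p n (⟨u, h.uC⟩ : C) := by
  have hn : (zpowers u).Normal := by have := h.Zchar; infer_instance
  refine ⟨?_, ?_, ?_⟩
  · rw [Subgroup.orderOf_mk, h.ord]
  · intro g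
    obtain ⟨r, hr⟩ := hn.conj_mem u (mem_zpowers u) g
    exact ⟨r, Subtype.ext hr.symm⟩
  · intro g hg
    have hg' : (g : G) * u * (g : G)⁻¹ = u := congrArg Subtype.val hg
    have h1 : (g : G) ∈ zpowers u := h.mem_u (fun e he => h.comm_of he g.2)
      (show Commute u g from (mul_inv_eq_iff_eq_mul.mp hg').symm)
    obtain ⟨k, hk⟩ := h1
    exact ⟨k, Subtype.ext hk⟩

/-- The case `p = 2`, `|Z| = 4`: the whole group is extraspecial. -/
theorem Split.extra_top [Fact (Nat.Prime 2)] (h : Split 2 2 H u z E C) {y : G} (hyC : y ∈ C)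
    (hy : y ∉ zpowers u) : Cfsg.IsExtraspecial 2 G := by
  have hc := h.cyc
  have hz2 : z = u ^ 2 := by rw [h.z_def]; norm_num
  have hord4 : orderOf u = 4 := h.ord
  have hodd : ∀ c ∈ C, c ∉ zpowers u → ∃ r : ℤ, c * u * c⁻¹ = u ^ r ∧ r % 4 = 3 := by
    intro c hcC hcu
    obtain ⟨r, hr⟩ := hc.act ⟨c, hcC⟩
    have h1 := hc.odd_exp (by norm_num) hr
    have hr' : c * u * c⁻¹ = u ^ r := congrArg Subtype.val hr
    have h2 : ¬ (4 : ℤ) ∣ r - 1 := by
      intro h0
      have h3 := hc.mem_of_dvd hr (by norm_num; exact h0)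
      obtain ⟨k, hk⟩ := h3
      exact hcu ⟨k, congrArg Subtype.val hk⟩
    exact ⟨r, hr', by omega⟩
  have hdvd : ∀ (c : G) (r k : ℤ), c * u * c⁻¹ = u ^ r → r % 4 = 3 → c * u ^ k * c⁻¹ = u ^ k →
      u ^ k ∈ zpowers z := by
    intro c r k hr hr3 hk
    rw [← _root_.conj_zpow, hr, ← zpow_mul, ← orderOf_dvd_sub_iff_zpow_eq_zpow, hord4] at hk
    have h1 : (4 : ℤ) ∣ (r - 1) * k := by
      have : r * k - k = (r - 1) * k := by ring
      rw [← this]
      exact_mod_cast hk
    obtain ⟨m, hm⟩ : ∃ m, r - 1 = 2 * (2 * m + 1) := ⟨(r - 3) / 4, by omega⟩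
    have h2 : (2 : ℤ) ∣ k := by
      rw [hm] at h1
      have h3 : (2 : ℤ) ∣ (2 * m + 1) * k := by
        obtain ⟨q, hq⟩ := h1
        exact ⟨q, by linarith⟩
      rcases Int.Prime.dvd_mul' Nat.prime_two (m := 2 * m + 1) (n := k) (by exact_mod_cast h3)
        with h4 | h4
      · exfalso
        have : (2 : ℤ) ∣ 2 * m + 1 := by exact_mod_cast h4
        omega
      · exact_mod_cast h4
    obtain ⟨q, rfl⟩ := h2
    refine ⟨q, ?_⟩
    dsimp only
    rw [hz2, zpow_mul, ← zpow_natCast u 2]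
    norm_num
  obtain ⟨r, hr, hr3⟩ := hodd y hyC hy
  have hsq : ∀ c ∈ C, c ^ 2 ∈ zpowers z := by
    intro c hcC
    by_cases hcu : c ∈ zpowers u
    · obtain ⟨j, rfl⟩ := hcu
      refine ⟨j, ?_⟩
      dsimp only
      rw [hz2, ← zpow_natCast, ← zpow_natCast, ← zpow_mul, ← zpow_mul, mul_comm]
    · obtain ⟨s, hs, hs3⟩ := hodd c hcC hcu
      have hs' : (⟨c, hcC⟩ : C) * ⟨u, h.uC⟩ * (⟨c, hcC⟩ : C)⁻¹ = ⟨u, h.uC⟩ ^ s :=
        Subtype.ext hs
      have h1 := hc.mem_of_dvd (hc.conj_pow hs' 2) (by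
        obtain ⟨m, hm⟩ : ∃ m, s = 4 * m + 3 := ⟨s / 4, by omega⟩
        refine ⟨4 * m ^ 2 + 6 * m + 2, ?_⟩
        rw [hm]
        push_cast
        ring)
      obtain ⟨k, hk⟩ := h1
      have hk' : u ^ k = c ^ 2 := congrArg Subtype.val hk
      rw [← hk']
      apply hdvd c s k hs hs3
      rw [hk']
      group
  have hcen : ∀ x : G, x ∈ center G ↔ x ∈ zpowers z := by
    intro x
    constructor
    · intro hx
      rw [mem_center_iff] at hx
      have h1 : x ∈ zpowers u := h.mem_u (fun e _ => hx e) (hx u)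
      obtain ⟨k, rfl⟩ := h1
      apply hdvd y r k hr hr3
      dsimp only at hx
      rw [hx y]
      group
    · rintro ⟨k, rfl⟩
      rw [mem_center_iff]
      intro g
      exact ((show Commute g z from h.z_central g).zpow_right k).eq
  apply Cfsg.Agent.J2.ExtQuot.isExtraspecial_two h.pg
  · have : center G = zpowers z := by ext x; exact hcen x
    rw [this, Nat.card_zpowers, h.z_ord]
  · intro x
    rw [hcen]
    obtain ⟨e, he, c, hcC, rfl⟩ := h.exists_mul x
    rw [(h.comm_of he hcC).mul_pow]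
    exact mul_mem (h.Epow e he) (hsq c hcC)
  · refine ⟨y, u, fun h0 => ?_⟩
    apply hy
    have h1 : y * u * y⁻¹ = u ^ (1 : ℤ) := by rw [h0, zpow_one]; group
    rw [hr, ← orderOf_dvd_sub_iff_zpow_eq_zpow, hord4] at h1
    omega

/-- The contradiction: there is an element `v` of order `p` outside `⟨u⟩` centralizing `u ^ p`. -/
theorem Split.false_of [hp : Fact p.Prime] (h : Split p n H u z E C) (hn : 2 ≤ n)
    (hn3 : p = 2 → 3 ≤ n) {v : G} (hvC : v ∈ C) (hvu : v ∉ zpowers u) (hvp : v ^ p = 1)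
    (hvM : v * u ^ p * v⁻¹ = u ^ p) : False := by
  have hc := h.cyc
  set u' : C := ⟨u, h.uC⟩ with hu'
  -- the centralizer of `u ^ p` in `C`
  set M : Subgroup C := centralizer {u' ^ p} with hMdef
  have hM : ∀ g : C, g ∈ M ↔ g * u' ^ p * g⁻¹ = u' ^ p := by
    intro g
    rw [hMdef, mem_centralizer_singleton_iff, mul_inv_eq_iff_eq_mul]
  have hidx := hc.relIndex hn hM
  have hUM := hc.zpowers_le_M hM
  have hvM' : (⟨v, hvC⟩ : C) ∈ M := (hM _).mpr (Subtype.ext hvM)
  have hvu' : (⟨v, hvC⟩ : C) ∉ zpowers u' := by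
    rintro ⟨k, hk⟩
    exact hvu ⟨k, congrArg Subtype.val hk⟩
  have hUn : (zpowers u').Normal := by
    refine ⟨fun x hx g => ?_⟩
    obtain ⟨k, rfl⟩ := hx
    obtain ⟨r, hr⟩ := hc.act g
    exact ⟨r * k, (hc.conj_zpow hr k).symm⟩
  have hMform : ∀ c ∈ M, ∃ i j : ℤ, (c : G) = u ^ i * v ^ j := by
    intro c hcM
    have hle : zpowers u' ⊔ zpowers (⟨v, hvC⟩ : C) ≤ M :=
      sup_le hUM (zpowers_le.mpr hvM')
    have h1 := Subgroup.relIndex_mul_relIndex _ _ _ (le_sup_left : zpowers u' ≤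
      zpowers u' ⊔ zpowers (⟨v, hvC⟩ : C)) hle
    have h2 : (zpowers u').relIndex (zpowers u' ⊔ zpowers (⟨v, hvC⟩ : C)) ≠ 1 := by
      intro h0
      apply hvu'
      exact Subgroup.relIndex_eq_one.mp h0
        ((le_sup_right : zpowers (⟨v, hvC⟩ : C) ≤ _) (mem_zpowers _))
    have h3 : (zpowers u' ⊔ zpowers (⟨v, hvC⟩ : C)).relIndex M = 1 := by
      rw [← h1] at hidx
      have h4 : (zpowers u').relIndex (zpowers u' ⊔ zpowers (⟨v, hvC⟩ : C)) = p := by
        rcases (Nat.dvd_prime hp.out).mp ((Dvd.intro _ rfl).trans hidx) with h5 | h5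
        · exact absurd h5 h2
        · exact h5
      rw [h4] at hidx
      have := Nat.dvd_of_mul_dvd_mul_left hp.out.pos (k := p) (n := 1) (by simpa using hidx)
      exact Nat.dvd_one.mp this
    have h5 := Subgroup.relIndex_eq_one.mp h3 hcM
    rw [mem_sup_of_normal_left] at h5
    obtain ⟨a, ⟨i, hi⟩, b, ⟨j, hj⟩, hab⟩ := h5
    refine ⟨i, j, ?_⟩
    rw [← hab, ← hi, ← hj]
    rfl
  -- the subgroup `⟨u ^ (p ^ 2)⟩`
  have hzP : p = 2 → zpowers z ≤ zpowers (u ^ p ^ 2) := by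
    intro hp2
    rw [zpowers_le, h.z_def]
    have h1 := hn3 hp2
    have : p ^ (n - 1) = p ^ 2 * p ^ (n - 3) := by
      rw [← pow_add]; congr 1; omega
    rw [this, pow_mul]
    exact pow_mem (mem_zpowers _) _
  have huv : Commute v (u ^ p) := mul_inv_eq_iff_eq_mul.mp hvM
  set S : Set G := {x : G | Commute x (u ^ p) ∧ x ^ p ∈ zpowers (u ^ p ^ 2)} with hS
  have hcommS : ∀ x ∈ S, Commute x v := by
    rintro x ⟨hx1, hx2⟩
    obtain ⟨e, he, c, hcC, rfl⟩ := h.exists_mul x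
    have hec := h.comm_of he hcC
    have heu : Commute e u := h.comm_of he h.uC
    have hcu : Commute c (u ^ p) := by
      have h1 : Commute (e⁻¹ * (e * c)) (u ^ p) :=
        ((heu.pow_right p).inv_left).mul_left hx1
      rwa [inv_mul_cancel_left] at h1
    have hcM : (⟨c, hcC⟩ : C) ∈ M :=
      (hM _).mpr (Subtype.ext (mul_inv_eq_iff_eq_mul.mpr hcu.eq))
    obtain ⟨i, j, hij⟩ := hMform _ hcM
    have hij : c = u ^ i * v ^ j := hij
    -- the commutator of `v ^ j` and `u ^ i`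
    have hvj : v ^ j * u ^ p * (v ^ j)⁻¹ = u ^ p := by
      rw [mul_inv_eq_iff_eq_mul]
      exact (huv.zpow_left j).eq
    obtain ⟨w, hwz, hw⟩ : ∃ w ∈ zpowers z, v ^ j * u ^ i = u ^ i * v ^ j * w := by
      obtain ⟨r, hr⟩ := hc.act (⟨v, hvC⟩ ^ j)
      have hr' : v ^ j * u * (v ^ j)⁻¹ = u ^ r := congrArg Subtype.val hr
      have h1 : v ^ j * u ^ i * (v ^ j)⁻¹ = u ^ (r * i) := by
        rw [← _root_.conj_zpow, hr', ← zpow_mul]
      have h2 : u ^ ((r - 1) * i) ∈ zpowers z := by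
        apply h.mem_z ⟨_, rfl⟩
        have h3 : u ^ (r * p) = u ^ p := by
          rw [← hvj, zpow_mul, zpow_natCast, ← hr', _root_.conj_pow]
        have h4 : (u ^ ((r - 1) * i)) ^ p = (u ^ (r * p) * (u ^ p)⁻¹) ^ i := by
          rw [← zpow_natCast, ← zpow_natCast u p, ← zpow_neg, ← zpow_add, ← zpow_mul, ← zpow_mul]
          congr 1; ring
        rw [h4, h3, mul_inv_cancel, one_zpow]
      refine ⟨_, h2, ?_⟩
      have h5 : Commute (v ^ j) (u ^ ((r - 1) * i)) := by
        obtain ⟨m, hm⟩ := h2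
        have hm : z ^ m = _ := hm
        rw [← hm]
        exact (show Commute (v ^ j) z from h.z_central _).zpow_right m
      rw [mul_assoc, h5.eq, ← mul_assoc, ← zpow_add]
      have h6 : i + (r - 1) * i = r * i := by ring
      rw [h6, ← h1]
      group
    have hwc : ∀ g : G, Commute w g := by
      intro g
      obtain ⟨m, hm⟩ := hwz
      have hm : z ^ m = w := hm
      rw [← hm]
      exact ((show Commute g z from h.z_central _).zpow_right m).symm
    have hpow := mul_pow_of_comm hw (hwc _) (hwc _) p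
    rw [← hij] at hpow
    have hvjp : (v ^ j) ^ p = 1 := by
      rw [← zpow_natCast, ← zpow_mul, mul_comm, zpow_mul, zpow_natCast, hvp, one_zpow]
    rw [hvjp, mul_one] at hpow
    have hxp : (e * c) ^ p = e ^ p * ((u ^ i) ^ p * w ^ p.choose 2) := by
      rw [hec.mul_pow, hpow]
    have heP : e ^ p ∈ zpowers (u ^ p ^ 2) := by
      by_cases hp2 : p = 2
      · exact hzP hp2 (h.Epow e he)
      · rw [h.Epow1 hn hp2 e he]; exact one_mem _
    have hwP : w ^ p.choose 2 ∈ zpowers (u ^ p ^ 2) := by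
      by_cases hp2 : p = 2
      · exact pow_mem (hzP hp2 hwz) _
      · have h1 : p ∣ p.choose 2 := hp.out.dvd_choose_self (by norm_num)
          (lt_of_le_of_ne hp.out.two_le (Ne.symm hp2))
        obtain ⟨c, hc⟩ := h1
        rw [hc, pow_mul, zpow_pow_eq_one h.z_pow hwz, one_pow]
        exact one_mem _
    rw [hxp] at hx2
    have h7 : (u ^ i) ^ p ∈ zpowers (u ^ p ^ 2) := by
      have h8 := (Subgroup.mul_mem_cancel_left _ heP).mp hx2
      exact (Subgroup.mul_mem_cancel_right _ hwP).mp h8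
    obtain ⟨k, hk⟩ := h7
    have hk : (u ^ p ^ 2) ^ k = (u ^ i) ^ p := hk
    rw [← zpow_natCast, ← zpow_natCast, ← zpow_mul, ← zpow_mul, ← orderOf_dvd_sub_iff_zpow_eq_zpow,
      h.ord] at hk
    push_cast at hk
    have h9 : (p : ℤ) ^ 2 ∣ (p : ℤ) ^ 2 * k - i * p := (pow_dvd_pow _ hn).trans hk
    have h10 : (p : ℤ) ^ 2 ∣ i * p := by
      have := dvd_sub (Dvd.intro k rfl : (p : ℤ) ^ 2 ∣ (p : ℤ) ^ 2 * k) h9
      simpa using this
    have h11 : (p : ℤ) ∣ i := by
      have hp0 : (p : ℤ) ≠ 0 := by exact_mod_cast hp.out.ne_zero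
      rw [sq] at h10
      exact (mul_dvd_mul_iff_right hp0).mp h10
    obtain ⟨m, rfl⟩ := h11
    have h12 : Commute c v := by
      rw [hij]
      apply Commute.mul_left
      · rw [zpow_mul, zpow_natCast]
        exact (huv.symm.zpow_left m)
      · exact (Commute.refl v).zpow_left j
    exact (h.comm_of he hvC).mul_left h12
  have hvS : v ∈ S := ⟨huv, by rw [hvp]; exact one_mem _⟩
  have hzS : z ∈ S := ⟨(show Commute (u ^ p) z from h.z_central _).symm, by
    rw [h.z_pow]; exact one_mem _⟩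
  set N : Subgroup G := closure S with hN
  have hNchar : N.Characteristic := by
    rw [characteristic_iff_map_le]
    intro φ
    rw [hN, MonoidHom.map_closure, closure_le]
    rintro _ ⟨x, ⟨hx1, hx2⟩, rfl⟩
    have hZ := h.Zchar
    rw [characteristic_iff_map_eq] at hZ
    have h1 := hZ φ
    have h2 : φ u ∈ zpowers u := by
      rw [← h1]; exact ⟨u, mem_zpowers u, rfl⟩
    have h3 : u ∈ zpowers (φ u) := by
      have h4 : u ∈ (zpowers u).map φ.toMonoidHom := by rw [h1]; exact mem_zpowers u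
      obtain ⟨_, ⟨k, rfl⟩, hk⟩ := h4
      exact ⟨k, by simpa using hk⟩
    obtain ⟨k, hk⟩ := h2
    obtain ⟨l, hl⟩ := h3
    have hk : u ^ k = φ u := hk
    have hl : (φ u) ^ l = u := hl
    apply Subgroup.subset_closure
    refine ⟨?_, ?_⟩
    · have h5 : Commute (φ x) ((φ u) ^ p) := by
        rw [← map_pow]
        exact hx1.map φ
      have h6 : u ^ p = ((φ u) ^ p) ^ l := by
        conv_lhs => rw [← hl]
        rw [← zpow_natCast, ← zpow_natCast, ← zpow_mul, ← zpow_mul, mul_comm]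
      rw [h6]
      exact h5.zpow_right l
    · obtain ⟨m, hm⟩ := hx2
      have hm : (u ^ p ^ 2) ^ m = x ^ p := hm
      have h7 : (φ x) ^ p = (u ^ p ^ 2) ^ (k * m) := by
        rw [← map_pow, ← hm, map_zpow, map_pow, ← hk, ← zpow_natCast, ← zpow_natCast, ← zpow_mul,
          ← zpow_mul, ← zpow_mul]
        congr 1; ring
      exact ⟨k * m, h7.symm⟩
  have hBchar : (N ⊓ centralizer (N : Set G)).Characteristic := inferInstance
  have hBc : IsMulCommutative ↥(N ⊓ centralizer (N : Set G)) :=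
    ⟨⟨fun a b => Subtype.ext (mem_centralizer_iff.mp b.2.2 a a.2.1)⟩⟩
  have hcyc := h.symp _ hBchar hBc
  have hvN : v ∈ N ⊓ centralizer (N : Set G) := by
    refine mem_inf.mpr ⟨Subgroup.subset_closure hvS, ?_⟩
    have : N ≤ centralizer {v} := by
      rw [hN, closure_le]
      intro x hx
      exact mem_centralizer_singleton_iff.mpr (hcommS x hx).eq
    rw [mem_centralizer_iff]
    intro y hy
    exact mem_centralizer_singleton_iff.mp (this hy)
  have hzN : z ∈ N ⊓ centralizer (N : Set G) := by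
    refine mem_inf.mpr ⟨Subgroup.subset_closure hzS, ?_⟩
    rw [mem_centralizer_iff]
    intro y _
    exact h.z_central y
  have h1 := mem_zpowers_of_cyclic (p := p) hcyc (v := ⟨v, hvN⟩) (z := ⟨z, hzN⟩)
    (by rw [Subgroup.orderOf_mk]; exact h.z_ord) (Subtype.ext hvp)
  obtain ⟨k, hk⟩ := h1
  apply hvu
  have : z ^ k = v := congrArg Subtype.val hk
  rw [← this]
  exact zpow_mem h.z_mem k

/-- An element of order `p` outside `⟨u⟩` from an elementary abelian group of order `p ^ 2`. -/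
theorem exists_v [hp : Fact p.Prime] {Q : Type*} [Group Q] [Finite Q] {w : Q} {V : Subgroup Q}
    (hV : Cfsg.IsElementaryAbelian p V) (hc : Nat.card V = p ^ 2) :
    ∃ v ∈ V, v ∉ zpowers w := by
  by_contra h0
  push Not at h0
  have h1 : V ≤ zpowers w := fun x hx => h0 x hx
  have hcyc : IsCyclic V := by
    have := (inclusion_injective h1)
    exact isCyclic_of_injective (inclusion h1) this
  obtain ⟨g, hg⟩ := hcyc.exists_generator
  have h2 : orderOf g = p ^ 2 := by
    rw [← hc]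
    exact orderOf_eq_card_of_forall_mem_zpowers hg
  have h3 : g ^ p = 1 := Subtype.ext (hV.2 g g.2)
  have h4 := orderOf_dvd_of_pow_eq_one h3
  rw [h2] at h4
  have h5 := Nat.le_of_dvd hp.out.pos h4
  have h6 := hp.out.two_le
  nlinarith

theorem Split.main [hp : Fact p.Prime] (h : Split p n H u z E C) :
    ∃ E R : Subgroup G, (∀ e ∈ E, ∀ r ∈ R, e * r = r * e) ∧ E ⊔ R = ⊤ ∧
      (E = ⊥ ∨ Cfsg.IsExtraspecial p ↥E) ∧ (IsCyclic R ∨ (p = 2 ∧ 16 ≤ Nat.card R ∧
        ((∃ m : ℕ, Nonempty (↥R ≃* DihedralGroup m)) ∨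
        (∃ m : ℕ, Nonempty (↥R ≃* QuaternionGroup m)) ∨ Cfsg.IsQuasiDihedral ↥R))) := by
  obtain ⟨E', hE1, hE2, hE3⟩ := h.exists_first
  by_cases hCu : C ≤ zpowers u
  · exact ⟨E', C, hE1, hE2, hE3, Or.inl (isCyclic_of_injective (inclusion hCu)
      (inclusion_injective hCu))⟩
  rw [SetLike.not_le_iff_exists] at hCu
  obtain ⟨y, hyC, hyu⟩ := hCu
  have hc := h.cyc
  set u' : C := ⟨u, h.uC⟩ with hu'
  have hyu' : (⟨y, hyC⟩ : C) ∉ zpowers u' := by
    rintro ⟨k, hk⟩
    exact hyu ⟨k, congrArg Subtype.val hk⟩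
  have hn := two_le_of_cyc (h.pg.to_subgroup C) hc h.n1 hyu'
  -- the contradiction from an element of `M`
  have key : (p = 2 → 3 ≤ n) → ∀ y' : C, y' ∉ zpowers u' →
      ∀ r : ℤ, y' * u' * y'⁻¹ = u' ^ r → (p : ℤ) ^ n ∣ p * (r - 1) → False := by
    intro hn3 y' hy' r hr hd
    set M : Subgroup C := centralizer {u' ^ p} with hMdef
    have hM : ∀ g : C, g ∈ M ↔ g * u' ^ p * g⁻¹ = u' ^ p := by
      intro g
      rw [hMdef, mem_centralizer_singleton_iff, mul_inv_eq_iff_eq_mul]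
    have hyM := (hc.mem_M_iff hM hr).mpr hd
    have hV : Cfsg.IsElementaryAbelian p (Cfsg.omegaOne p M) ∧
        Nat.card ↥(Cfsg.omegaOne p M) = p ^ 2 := by
      by_cases hp2 : p = 2
      · subst hp2
        exact hc.omega_two (hn3 rfl) hM hyM hy'
      · exact hc.omega_odd (h.pg.to_subgroup C) hn hp2 hM hyM hy'
    obtain ⟨v, hvV, hvu⟩ := exists_v (w := u') hV.1 hV.2
    have hvM : v ∈ M := by
      have : Cfsg.omegaOne p M ≤ M := by
        unfold Cfsg.omegaOne
        rw [closure_le]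
        exact fun x hx => hx.1
      exact this hvV
    refine h.false_of hn hn3 v.2 ?_ (congrArg Subtype.val (hV.1.2 v hvV))
      (congrArg Subtype.val ((hM v).mp hvM))
    rintro ⟨k, hk⟩
    exact hvu ⟨k, Subtype.ext hk⟩
  by_cases hp2 : p = 2
  · subst hp2
    by_cases hM : ∀ (g : C) (r : ℤ), g * u' * g⁻¹ = u' ^ r → (4 : ℤ) ∣ r - 1 → g ∈ zpowers u'
    · by_cases hn2 : n = 2
      · subst hn2
        refine ⟨⊤, ⊥, ?_, ?_, Or.inr ?_, Or.inl inferInstance⟩
        · intro e _ r hr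
          rw [mem_bot] at hr
          rw [hr, one_mul, mul_one]
        · rw [sup_bot_eq]
        · exact Cfsg.Agent.J2.ExtQuot.isExtraspecial_of_equiv topEquiv.symm (h.extra_top hyC hyu)
      · obtain ⟨h1, h2⟩ := hc.two_case hn hM hyu'
        refine ⟨E', C, hE1, hE2, hE3, Or.inr ⟨rfl, ?_, h2⟩⟩
        rw [h1]
        have : 4 ≤ n + 1 := by omega
        calc 16 = 2 ^ 4 := by norm_num
          _ ≤ 2 ^ (n + 1) := Nat.pow_le_pow_right (by norm_num) this
    · exfalso
      push Not at hM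
      obtain ⟨g, r, hr, h4, hg⟩ := hM
      obtain ⟨k, hk1, hk2⟩ := exists_pow (p := 2) (h.pg.to_subgroup C) hg
      have hr' := hc.conj_pow hr (2 ^ k)
      have h5 : (4 : ℤ) ∣ r ^ 2 ^ k - 1 := by
        have := sub_dvd_pow_sub_pow r 1 (2 ^ k)
        rw [one_pow] at this
        exact h4.trans this
      refine key (fun _ => ?_) _ hk1 _ hr' (hc.comm_of_pow h.n1 hr' hk2 (Or.inr h5))
      by_contra hn3
      have hn2 : n = 2 := by omega
      subst hn2
      exact hg (hc.mem_of_dvd hr (by norm_num; exact h4))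
  · exfalso
    obtain ⟨k, hk1, hk2⟩ := exists_pow (p := p) (h.pg.to_subgroup C) hyu'
    obtain ⟨r, hr⟩ := hc.act ((⟨y, hyC⟩ : C) ^ p ^ k)
    exact key (fun h0 => absurd h0 hp2) _ hk1 r hr (hc.comm_of_pow h.n1 hr hk2 (Or.inl hp2))

/-- **P. Hall's theorem** on `p`-groups of symplectic type. -/
theorem hall [hp : Fact p.Prime] (hG : IsPGroup p G)
    (hsymp : ∀ A : Subgroup G, A.Characteristic → IsMulCommutative A → IsCyclic A) :
    ∃ E R : Subgroup G, (∀ e ∈ E, ∀ r ∈ R, e * r = r * e) ∧ E ⊔ R = ⊤ ∧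
      (E = ⊥ ∨ Cfsg.IsExtraspecial p ↥E) ∧ (IsCyclic R ∨ (p = 2 ∧ 16 ≤ Nat.card R ∧
        ((∃ m : ℕ, Nonempty (↥R ≃* DihedralGroup m)) ∨
        (∃ m : ℕ, Nonempty (↥R ≃* QuaternionGroup m)) ∨ Cfsg.IsQuasiDihedral ↥R))) := by
  rcases subsingleton_or_nontrivial G with hs | hnt
  · refine ⟨⊥, ⊥, ?_, ?_, Or.inl rfl, Or.inl inferInstance⟩
    · intro e _ r _
      exact Subsingleton.elim _ _
    · ext x
      constructor
      · intro _; exact mem_top x
      · intro _
        rw [Subsingleton.elim x 1]; exact one_mem _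
  obtain ⟨H, hHc, hfr, hcm, hCH⟩ := Cfsg.Agent.S0093.result hG
  set Z : Subgroup G := centralizer (H : Set G) with hZ
  have hZc : Z.Characteristic := inferInstance
  have hZab : IsMulCommutative Z :=
    ⟨⟨fun a b => Subtype.ext (mem_centralizer_iff.mp b.2 a (hCH a.2))⟩⟩
  obtain ⟨⟨u, huZ⟩, hug⟩ := (hsymp Z hZc hZab).exists_generator
  have hZu : Z = zpowers u := by
    apply le_antisymm
    · intro x hx
      obtain ⟨k, hk⟩ := hug ⟨x, hx⟩
      exact ⟨k, congrArg Subtype.val hk⟩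
    · rw [zpowers_le]; exact huZ
  obtain ⟨n, hn⟩ := (hG.to_subgroup Z).exists_card_eq
  have hord : orderOf u = p ^ n := by rw [← hn, hZu, Nat.card_zpowers]
  have hn1 : 1 ≤ n := by
    by_contra h0
    have h1 : n = 0 := by omega
    rw [h1, pow_zero, Subgroup.card_eq_one] at hn
    have h2 := hG.bot_lt_center
    have h3 : center G ≤ Z := Subgroup.center_le_centralizer _
    rw [hn] at h3
    exact absurd h2 (not_lt_of_ge h3)
  have hD : Data p n H u (u ^ p ^ (n - 1)) := by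
    refine ⟨hG, hsymp, hn1, hord, hZu ▸ hZc, hHc, ?_, ?_, hCH huZ, ?_, ?_, rfl⟩
    · intro g hg
      rw [← hZu, hZ, mem_centralizer_iff]
      exact hg
    · intro h hh
      exact mem_centralizer_iff.mp huZ h hh
    · intro h hh
      rw [← hZu]
      apply hfr
      exact ⟨⟨h, hh⟩ ^ p, Cfsg.Agent.Lib.FrattiniPGroup.pow_mem_frattini (hG.to_subgroup H) _, rfl⟩
    · intro h hh g
      rw [← hZu]
      exact (hcm (commutator_mem_commutator hh (mem_top g))).2
  obtain ⟨E, hE1, hE2, hE3, hE4, hE5, hE6⟩ := hD.exists_E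
  exact Split.main (E := E) (C := centralizer (E : Set G))
    { toData := hD, EH := hE1, zE := hE2, Epow := hE3, Epow1 := hE4, Ez := hE5, EZ := hE6,
      hC := rfl }

end Cfsg.Agent.H442.SymType
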