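import Cfsg.Agent.H442.TwoUniq
import Cfsg.Agent.H377.TwoConv.Basic
import Cfsg.Agent.HKS.CosetTwo
import Cfsg.Agent.H612.Heredity

/-!
# S4897: fused characters, zeros outside the inertia subgroup (helper442)
-/

set_option autoImplicit false

namespace Cfsg.Agent.H442.TwoFused

open Subgroup Cfsg Cfsg.Agent.Characters.Core Cfsg.Agent.H504.Zeros Cfsg.Agent.H504.TwoZ
  Cfsg.Agent.H727.DegCount Cfsg.Agent.H377.TwoConv

universe u v

variable {G : Type u} [Group G] [Finite G] {S : Type v} [Group S]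

theorem autS_comp (N : Subgroup G) [N.Normal] (e : N ≃* S) (g : G) (f : S → ℂ) :
    (f ∘ autS N e g) ∘ e = (f ∘ e) ∘ (MulAut.conjNormal g : MulAut N) := by
  funext n
  simp only [Function.comp_apply, autS_apply, MulEquiv.symm_apply_apply]

theorem autS_mul (N : Subgroup G) [N.Normal] (e : N ≃* S) (g h : G) : autS N e (g * h) = autS N e g * autS N e h := by
  ext x
  simp only [MulAut.mul_apply, autS_apply, MulEquiv.symm_apply_apply, map_mul]

/-- the conjugates of a constituent are constituents -/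
theorem over_comp {N : Subgroup G} [N.Normal] {e : N ≃* S} {χ : IrrCharacter G} {θ θ' : IrrCharacter S}
    (h : Over N e χ θ) (g : G) (hθ' : (θ' : S → ℂ) = (θ : S → ℂ) ∘ autS N e g) : Over N e χ θ' := by
  classical
  let _ := Fintype.ofFinite N
  let _ := Fintype.ofFinite G
  unfold Over at h ⊢
  rw [hθ', autS_comp]
  have h1 := Cfsg.Agent.Characters.Clifford.classInner_restrict_conjNormal (N := N)
    (isIrr_isClassFunction χ.2) ((θ : S → ℂ) ∘ e) g
  intro h2
  exact h (h1.symm.trans h2)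

/-- the degree of a constituent divides the degree -/
theorem over_dvd {N : Subgroup G} [N.Normal] {e : N ≃* S} {χ : IrrCharacter G} {θ : IrrCharacter S}
    (h : Over N e χ θ) : charDegree (θ : S → ℂ) ∣ charDegree (χ : G → ℂ) := by
  classical
  let _ := Fintype.ofFinite N
  let _ := Fintype.ofFinite G
  have h1 := Cfsg.Agent.H612.Heredity.degree_dvd N χ ⟨_, isIrr_comp_equiv N e θ⟩ h
  have h2 : charDegree ((θ : S → ℂ) ∘ e) = charDegree (θ : S → ℂ) := by
    have h3 : (charDegree ((θ : S → ℂ) ∘ e) : ℂ) = charDegree (θ : S → ℂ) := by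
      rw [charDegree_cast_irr θ]
      rw [charDegree_cast_irr (⟨_, isIrr_comp_equiv N e θ⟩ : IrrCharacter N)]
      show (θ : S → ℂ) (e 1) = _
      rw [map_one]
    exact_mod_cast h3
  rw [← h2]
  exact h1

/-- the composite with an automorphism -/
theorem isIrr_comp_aut (θ : IrrCharacter S) (φ : MulAut S) : IsIrrCharacter S ((θ : S → ℂ) ∘ φ) :=
  isIrr_comp (φ : S →* S) φ.surjective θ.2

theorem charDegree_comp_aut (θ : IrrCharacter S) (φ : MulAut S) :
    charDegree ((θ : S → ℂ) ∘ φ) = charDegree (θ : S → ℂ) := by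
  have h3 : (charDegree ((θ : S → ℂ) ∘ φ) : ℂ) = charDegree (θ : S → ℂ) := by
    rw [charDegree_cast_irr θ]
    rw [charDegree_cast_irr (⟨_, isIrr_comp_aut θ φ⟩ : IrrCharacter S)]
    show (θ : S → ℂ) (φ 1) = _
    rw [map_one]
  exact_mod_cast h3

/-- **zeros outside**: `T` of index two fixes `θ`, and `θ` is moved -/
theorem zero_out {N : Subgroup G} [N.Normal] {e : N ≃* S} {χ : IrrCharacter G} {θ : IrrCharacter S}
    (h : Over N e χ θ) {T : Subgroup G} (hT : T.index = 2) (hNT : N ≤ T)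
    (hfix : ∀ t ∈ T, (θ : S → ℂ) ∘ autS N e t = θ) {g₀ : G} (hg : (θ : S → ℂ) ∘ autS N e g₀ ≠ θ)
    {x : G} (hx : x ∉ T) : (χ : G → ℂ) x = 0 := by
  classical
  let _ := Fintype.ofFinite N
  let _ := Fintype.ofFinite G
  let _ := Fintype.ofFinite T
  let _ := Fintype.ofFinite (N.subgroupOf T)
  by_contra hne
  have hirr := Cfsg.Agent.HKS.CosetTwo.isIrr_restrict hT χ.2 hx hne
  let ψ : IrrCharacter T := ⟨_, hirr⟩
  have hNn : (N.subgroupOf T).Normal := inferInstance
  let e' : N.subgroupOf T ≃* N := subgroupOfEquivOfLe hNT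
  have he' : ∀ n : N.subgroupOf T, ((e' n : N) : G) = ((n : T) : G) := fun n => rfl
  have key : ∀ f : N → ℂ, classInner (fun n : N.subgroupOf T => (ψ : T → ℂ) n) (f ∘ e') =
      classInner (fun n : N => (χ : G → ℂ) n) f := by
    intro f
    have h1 := Cfsg.Agent.Characters.Clifford.classInner_comp_mulEquiv (G := N) e'
      (fun n : N => (χ : G → ℂ) n) f
    exact h1
  let θ' : IrrCharacter S := ⟨_, isIrr_comp_aut θ (autS N e g₀)⟩
  have h' : Over N e χ θ' := over_comp h g₀ rfl
  obtain ⟨t, ht⟩ := Cfsg.Agent.Characters.Clifford.exists_conj_of_constituents (N.subgroupOf T) ψ.2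
    (χ := ((θ : S → ℂ) ∘ e) ∘ e') (ψ := ((θ' : S → ℂ) ∘ e) ∘ e')
    (isIrr_comp (e' : N.subgroupOf T →* N) e'.surjective (isIrr_comp_equiv N e θ))
    (isIrr_comp (e' : N.subgroupOf T →* N) e'.surjective (isIrr_comp_equiv N e θ'))
    (by rw [key]; exact h) (by rw [key]; exact h')
  apply hg
  have h3 := hfix t t.2
  funext s
  have h4 := congrFun ht (e'.symm (e.symm s))
  simp only [Function.comp_apply, MulEquiv.apply_symm_apply] at h4
  have h5 : e (e' ((MulAut.conjNormal t : MulAut (N.subgroupOf T)) (e'.symm (e.symm s)))) =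
      autS N e (t : G) s := by
    rw [autS_apply]
    congr 1
  rw [h5] at h4
  rw [← congrFun h3 s]
  exact h4

/-- the inertia subgroup -/
noncomputable def inertia (N : Subgroup G) [N.Normal] (e : N ≃* S) (θ : IrrCharacter S) : Subgroup G where
  carrier := {g | (θ : S → ℂ) ∘ autS N e g = θ}
  mul_mem' := by
    intro a b ha hb
    have ha : (θ : S → ℂ) ∘ autS N e a = θ := ha
    have hb : (θ : S → ℂ) ∘ autS N e b = θ := hb
    show (θ : S → ℂ) ∘ autS N e (a * b) = θ
    rw [autS_mul]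
    have : (θ : S → ℂ) ∘ (autS N e a * autS N e b : MulAut S) = ((θ : S → ℂ) ∘ autS N e a) ∘ autS N e b := rfl
    rw [this, ha, hb]
  one_mem' := by
    show (θ : S → ℂ) ∘ autS N e 1 = θ
    funext s
    rw [Function.comp_apply, autS_apply, map_one, MulAut.one_apply, MulEquiv.apply_symm_apply]
  inv_mem' := by
    intro a ha
    have ha : (θ : S → ℂ) ∘ autS N e a = θ := ha
    show (θ : S → ℂ) ∘ autS N e a⁻¹ = θ
    have h1 : ((θ : S → ℂ) ∘ autS N e a) ∘ autS N e a⁻¹ = θ := by
      have : ((θ : S → ℂ) ∘ autS N e a) ∘ autS N e a⁻¹ = (θ : S → ℂ) ∘ (autS N e a * autS N e a⁻¹ : MulAut S) := rfl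
      rw [this, ← autS_mul, mul_inv_cancel]
      funext s
      rw [Function.comp_apply, autS_apply, map_one, MulAut.one_apply, MulEquiv.apply_symm_apply]
    rwa [ha] at h1

theorem mem_inertia {N : Subgroup G} [N.Normal] {e : N ≃* S} {θ : IrrCharacter S} {g : G} :
    g ∈ inertia N e θ ↔ (θ : S → ℂ) ∘ autS N e g = θ := Iff.rfl

theorem le_inertia (N : Subgroup G) [N.Normal] (e : N ≃* S) (θ : IrrCharacter S) : N ≤ inertia N e θ := by
  intro n hn
  rw [mem_inertia]
  funext s
  have h1 : autS N e n s = e ⟨n, hn⟩ * s * (e ⟨n, hn⟩)⁻¹ := by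
    rw [autS_apply]
    have h2 : (MulAut.conjNormal n : MulAut N) (e.symm s) = ⟨n, hn⟩ * e.symm s * (⟨n, hn⟩ : N)⁻¹ := by
      apply Subtype.ext
      rw [MulAut.conjNormal_apply]
      rfl
    rw [h2, map_mul, map_mul, map_inv, MulEquiv.apply_symm_apply]
  rw [Function.comp_apply, h1]
  exact isIrr_isClassFunction θ.2 s _

theorem eq_of_cnt_two [Finite S] {d : ℕ} (hd : cnt S d ≤ 2) {a b c : IrrCharacter S}
    (ha : charDegree (a : S → ℂ) = d) (hb : charDegree (b : S → ℂ) = d)
    (hc : charDegree (c : S → ℂ) = d) (hab : a ≠ b) (hcb : c ≠ b) : a = c := by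
  classical
  have := finite_irr (G := S)
  by_contra hac
  have h1 : Nat.card (Fin 3) ≤ cnt S d := by
    refine Nat.card_le_card_of_injective
      (fun i : Fin 3 => (![⟨a, (deg_eq a).2 ha⟩, ⟨b, (deg_eq b).2 hb⟩, ⟨c, (deg_eq c).2 hc⟩] i :
        {χ : IrrCharacter S // (χ : S → ℂ) 1 = (d : ℂ)})) ?_
    intro i j hij
    have hij' := congrArg (fun z : {χ : IrrCharacter S // (χ : S → ℂ) 1 = (d : ℂ)} => z.1) hij
    fin_cases i <;> fin_cases j <;> simp at hij' ⊢
    · exact hab hij'
    · exact hac hij'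
    · exact hab hij'.symm
    · exact hcb hij'.symm
    · exact hac hij'.symm
    · exact hcb hij'
  rw [Nat.card_eq_fintype_card, Fintype.card_fin] at h1
  omega

/-- at most two characters of the degree: the inertia subgroup has index two -/
theorem index_inertia [Finite S] {N : Subgroup G} [N.Normal] {e : N ≃* S} {θ : IrrCharacter S}
    (hd : cnt S (charDegree (θ : S → ℂ)) ≤ 2) {g₀ : G} (hg : (θ : S → ℂ) ∘ autS N e g₀ ≠ θ) :
    (inertia N e θ).index = 2 := by
  have key : ∀ a b : G, a ∉ inertia N e θ → b ∉ inertia N e θ → a * b ∈ inertia N e θ := by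
    intro a b ha hb
    rw [mem_inertia] at ha hb ⊢
    let θa : IrrCharacter S := ⟨_, isIrr_comp_aut θ (autS N e a)⟩
    let θb : IrrCharacter S := ⟨_, isIrr_comp_aut θ (autS N e b)⟩
    let θab : IrrCharacter S := ⟨_, isIrr_comp_aut θa (autS N e b)⟩
    have ea : θa ≠ θ := fun h => ha (congrArg Subtype.val h)
    have eb : θb ≠ θ := fun h => hb (congrArg Subtype.val h)
    have e1 : θa = θb := eq_of_cnt_two hd (charDegree_comp_aut θ _) rfl (charDegree_comp_aut θ _) ea eb
    have e2 : θab ≠ θb := by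
      intro h
      have h1 : ((θ : S → ℂ) ∘ autS N e a) ∘ autS N e b = (θ : S → ℂ) ∘ autS N e b := congrArg Subtype.val h
      apply ha
      funext s
      obtain ⟨t, rfl⟩ := (autS N e b).surjective s
      exact congrFun h1 t
    have e3 : θab = θ := eq_of_cnt_two hd (b := θb) ((charDegree_comp_aut θa _).trans (charDegree_comp_aut θ _))
      (charDegree_comp_aut θ _) rfl e2 eb.symm
    rw [autS_mul]
    exact congrArg Subtype.val e3
  rw [Subgroup.index_eq_two_iff_exists_notMem_and]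
  refine ⟨g₀, hg, fun b => ?_⟩
  by_cases hb : b ∈ inertia N e θ
  · exact Or.inr hb
  · exact Or.inl (key b g₀ hb hg)

/-- **zeros outside the inertia subgroup** -/
theorem zero_twin [Finite S] {N : Subgroup G} [N.Normal] {e : N ≃* S} {χ : IrrCharacter G} {θ : IrrCharacter S}
    (h : Over N e χ θ) (hd : cnt S (charDegree (θ : S → ℂ)) ≤ 2) {g₀ : G}
    (hg : (θ : S → ℂ) ∘ autS N e g₀ ≠ θ) {x : G} (hx : x ∉ inertia N e θ) : (χ : G → ℂ) x = 0 :=
  zero_out h (index_inertia hd hg) (le_inertia N e θ) (fun _ ht => ht) hg hx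

end Cfsg.Agent.H442.TwoFused
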