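import Cfsg.Agent.H442.TwoOut

/-!
# S4897: the index of `N ≅ S` in `G` is at most `|Out S|` (helper442)
-/

set_option autoImplicit false

namespace Cfsg.Agent.H442.TwoOut

open Cfsg Cfsg.Agent.H504.TwoZ

universe u v

/-- conjugation modulo inner automorphisms -/
noncomputable def outHom {G : Type u} [Group G] (N : Subgroup G) [N.Normal] : G →* Out N :=
  (QuotientGroup.mk' (Inn N)).comp MulAut.conjNormal

theorem ker_outHom {G : Type u} [Group G] (N : Subgroup G) [N.Normal]
    (hC : Subgroup.centralizer (N : Set G) = ⊥) : (outHom N).ker = N := by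
  ext g
  rw [MonoidHom.mem_ker]
  constructor
  · intro h
    have h3 : (MulAut.conjNormal g : MulAut N) ∈ Inn N := (QuotientGroup.eq_one_iff _).1 h
    obtain ⟨n, hn⟩ := h3
    have h4 : (n : G)⁻¹ * g ∈ Subgroup.centralizer (N : Set G) := by
      rw [Subgroup.mem_centralizer_iff]
      intro x hx
      have h5 := congrArg (fun α : MulAut N => ((α ⟨x, hx⟩ : N) : G)) hn
      have h6 : (n : G) * x * (n : G)⁻¹ = g * x * g⁻¹ := by
        simpa using h5
      have h7 : g * x = (n : G) * x * (n : G)⁻¹ * g := by rw [h6]; group
      rw [mul_assoc, h7]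
      group
    rw [hC, Subgroup.mem_bot] at h4
    have h5 : g = n := by
      have := congrArg (fun y => (n : G) * y) h4
      simpa using this
    rw [h5]
    exact n.2
  · intro h
    refine (QuotientGroup.eq_one_iff _).2 ⟨⟨g, h⟩, ?_⟩
    ext x
    simp

/-- **the index is at most `|Out S|`** -/
theorem index_le_out {S : Type v} [Group S] [Finite S] {G : Type u} [Group G] [Finite G]
    (N : Subgroup G) [N.Normal] (e : N ≃* S) (hC : Subgroup.centralizer (N : Set G) = ⊥) :
    N.index ≤ Nat.card (Out S) := by
  have h0 : Finite (Out N) := inferInstance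
  have h1 := Subgroup.index_ker (outHom N)
  rw [ker_outHom N hC] at h1
  rw [h1, ← H55.OutGen.card_out_congr e]
  exact Nat.card_le_card_of_injective (fun x : (outHom N).range => (x : Out N)) Subtype.val_injective

end Cfsg.Agent.H442.TwoOut
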