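import Cfsg.Agent.H442.TwoIdx

/-!
# S4897: uniqueness of `G` with `N ≅ S` of index `|Out S|` (helper442)
-/

set_option autoImplicit false

namespace Cfsg.Agent.H442.TwoOut

open Cfsg Cfsg.Agent.H504.TwoZ

universe u v w

/-- a group of the maximal index is the automorphism group -/
theorem equiv_mulAut {G : Type u} [Group G] [Finite G] (N : Subgroup G) [N.Normal]
    (hC : Subgroup.centralizer (N : Set G) = ⊥) (h : Nat.card (Out N) ≤ N.index) :
    Nonempty (G ≃* MulAut N) := by
  have h0 : Finite (Out N) := inferInstance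
  have hinj : Function.Injective (MulAut.conjNormal : G →* MulAut N) := by
    rw [injective_iff_map_eq_one]
    intro g hg
    have h1 : g ∈ Subgroup.centralizer (N : Set G) := by
      rw [Subgroup.mem_centralizer_iff]
      intro x hx
      have h5 := congrArg (fun α : MulAut N => ((α ⟨x, hx⟩ : N) : G)) hg
      have h6 : g * x * g⁻¹ = x := by simpa using h5
      calc x * g = (g * x * g⁻¹) * g := by rw [h6]
        _ = g * x := by group
    rw [hC, Subgroup.mem_bot] at h1
    exact h1
  have hsurj : Function.Surjective (MulAut.conjNormal : G →* MulAut N) := by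
    intro α
    have h1 := Subgroup.index_ker (outHom N)
    rw [ker_outHom N hC] at h1
    have h2 : (outHom N).range = ⊤ := Subgroup.eq_top_of_le_card _ (by rw [← h1]; exact h)
    have h3 : (QuotientGroup.mk α : Out N) ∈ (outHom N).range := by rw [h2]; trivial
    obtain ⟨g, hg⟩ := h3
    have h4 : (QuotientGroup.mk (MulAut.conjNormal g : MulAut N) : Out N) = QuotientGroup.mk α := hg
    rw [QuotientGroup.eq] at h4
    obtain ⟨n, hn⟩ := h4
    refine ⟨g * n, ?_⟩
    rw [map_mul]
    have h5 : (MulAut.conjNormal (n : G) : MulAut N) = MulAut.conj n := by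
      ext x
      simp
    rw [h5, hn]
    group
  exact ⟨MulEquiv.ofBijective _ ⟨hinj, hsurj⟩⟩

/-- **uniqueness**: two groups of the maximal index over isomorphic normal subgroups are isomorphic -/
theorem equiv_of_index {S : Type w} [Group S] [Finite S] {G : Type u} [Group G] [Finite G]
    (N : Subgroup G) [N.Normal] (e : N ≃* S) (hC : Subgroup.centralizer (N : Set G) = ⊥)
    (h : Nat.card (Out S) ≤ N.index) {A : Type v} [Group A] [Finite A] (M : Subgroup A) [M.Normal]
    (f : M ≃* S) (hM : Subgroup.centralizer (M : Set A) = ⊥) (h' : Nat.card (Out S) ≤ M.index) :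
    Nonempty (G ≃* A) := by
  obtain ⟨a⟩ := equiv_mulAut N hC (by rw [H55.OutGen.card_out_congr e]; exact h)
  obtain ⟨b⟩ := equiv_mulAut M hM (by rw [H55.OutGen.card_out_congr f]; exact h')
  exact ⟨a.trans ((MulAut.congr (e.trans f.symm)).trans b.symm)⟩

end Cfsg.Agent.H442.TwoOut
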