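import Cfsg.Agent.H504.TwoRows
import Cfsg.Agent.H442.TwoUniq
import Cfsg.Agent.H442.RankVal
import Cfsg.Agent.J2.HundredGens
import Cfsg.Agent.S1619
import Cfsg.Agent.S2066

/-!
# S4897: the row of `J₂` (helper442)

The rank 3 graph on 100 points: characters of degrees 36 and 63 of `J₂` and of `J₂ : 2`, zeros at elements of
orders 2, 3, 8 resp. 3, 6, 12.
-/

set_option autoImplicit false

namespace Cfsg.Agent.H442.TwoJTwo

open Subgroup Cfsg Equiv Cfsg.Agent.SporadicA.PermTab Cfsg.Agent.SporadicA.PermRank3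
  Cfsg.Agent.SporadicA.J2Hundred Cfsg.Agent.H504.Zeros Cfsg.Agent.H504.TwoZ
  Cfsg.Agent.H690.Spor.RankThree Cfsg.Agent.H690.Spor.RankThree.R3

/-- the graph -/
abbrev adjM : ℕ := Cfsg.Agent.SporadicA.J2Data.adj

/-- adjacency -/
def RR (x y : Fin 100) : Prop := bitM 100 adjM x y = 1

instance decRR : DecidableRel RR := fun x y => by unfold RR; infer_instance

theorem symm_ok : allB (fun i => allB (fun j => Nat.beq (bitM 100 adjM i j) (bitM 100 adjM j i)) 100) 100 =
    true := by decide +kernel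

theorem irr_ok : allB (fun i => Nat.beq (bitM 100 adjM i i) 0) 100 = true := by decide +kernel

theorem deg_ok : allB (fun i => cntB (fun j => Nat.beq (bitM 100 adjM i j) 1) 100 36) 100 = true := by
  decide +kernel

theorem orb1_ok : allB (fun j => cond (Nat.beq (bitM 100 adjM 0 j) 1) (nbeq (lk Cfsg.Agent.SporadicA.J2Data.c1 j) 2047)
    (cond (Nat.beq j 0) true (nbeq (lk Cfsg.Agent.SporadicA.J2Data.c1b j) 2047))) 100 = true := by decide +kernel

theorem symm (x y : Fin 100) (h : RR x y) : RR y x := by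
  have h1 := (allB_iff _ _).1 ((allB_iff _ _).1 symm_ok x x.2) y y.2
  have h2 := Nat.eq_of_beq_eq_true h1
  unfold RR at h ⊢
  rw [← h2, h]

theorem irr (x : Fin 100) : ¬ RR x x := by
  have h1 := Nat.eq_of_beq_eq_true ((allB_iff _ _).1 irr_ok x x.2)
  unfold RR
  rw [h1]
  norm_num

theorem cardk (x : Fin 100) : Nat.card {y // RR x y} = 36 := by
  have h1 := card_fin_of_cntB _ _ _ ((allB_iff _ _).1 deg_ok x x.2)
  rw [Nat.card_eq_fintype_card, Fintype.card_subtype, ← h1]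
  congr 1
  ext y
  simp only [Finset.mem_filter, Finset.mem_univ, true_and]
  exact ⟨fun h => by rw [h]; rfl, fun h => Nat.eq_of_beq_eq_true h⟩

/-! ### the groups between `J₂` and `J₂ : 2` -/

theorem to_zero (x : Fin 100) : ∃ g ∈ G, g x = 0 := by
  obtain ⟨g, hg, h⟩ := trans x
  refine ⟨g⁻¹, G.inv_mem hg, ?_⟩
  rw [Perm.inv_eq_iff_eq, ← h]

theorem RR_iff {g : Perm (Fin 100)} (hg : g ∈ autG 100 adjM) (x y : Fin 100) : RR (g x) (g y) ↔ RR x y := by
  unfold RR
  rw [mem_autG.1 hg x y]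

theorem ps_le {g : Perm (Fin 100)} {x : Fin 100} (h : g ∈ ps G x) : g ∈ G ∧ g x = x := h

theorem one_zero (y z : Fin 100) (hy : RR 0 y) (hz : RR 0 z) : ∃ g ∈ G, g 0 = 0 ∧ g y = z := by
  have key : ∀ y : Fin 100, RR 0 y → lk Cfsg.Agent.SporadicA.J2Data.c1 y ≠ 2047 := by
    intro y hy
    have h := (allB_iff _ _).1 orb1_ok y y.2
    have h1 : Nat.beq (bitM 100 adjM 0 y) 1 = true := by
      have : bitM 100 adjM 0 y = 1 := hy
      rw [this]; rfl
    rw [h1, cond_true] at h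
    exact (nbeq_iff _ _).1 h
  obtain ⟨g, hg, h⟩ := orb_pair psu0 (mem2 psu0 psu1) or1 y z (key y hy) (key z hz)
  exact ⟨g, (ps_le hg).1, (ps_le hg).2, h⟩

theorem two_zero (y z : Fin 100) (hy : ¬ RR 0 y) (hy0 : 0 ≠ y) (hz : ¬ RR 0 z) (hz0 : 0 ≠ z) :
    ∃ g ∈ G, g 0 = 0 ∧ g y = z := by
  have key : ∀ y : Fin 100, ¬ RR 0 y → 0 ≠ y → lk Cfsg.Agent.SporadicA.J2Data.c1b y ≠ 2047 := by
    intro y hy hy0
    have h := (allB_iff _ _).1 orb1_ok y y.2
    have h1 : Nat.beq (bitM 100 adjM 0 y) 1 = false := by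
      rw [← Bool.not_eq_true]
      exact fun hb => hy (Nat.eq_of_beq_eq_true hb)
    have h2 : Nat.beq (y : ℕ) 0 = false := by
      rw [← Bool.not_eq_true]
      exact fun hb => hy0 (Fin.ext (Nat.eq_of_beq_eq_true hb).symm)
    rw [h1, cond_false, h2, cond_false] at h
    exact (nbeq_iff _ _).1 h
  obtain ⟨g, hg, h⟩ := orb_pair psu0 (mem2 psu0 psu1) or1b y z (key y hy hy0) (key z hz hz0)
  exact ⟨g, (ps_le hg).1, (ps_le hg).2, h⟩

/-- rank 3 -/
theorem r3 (H : Subgroup (Perm (Fin 100))) (h1 : G ≤ H) (h2 : H ≤ autG 100 adjM) :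
    R3 H (Fin 100) RR 36 63 where
  trans := by
    refine ⟨fun a b => ?_⟩
    obtain ⟨g, hg, hga⟩ := to_zero a
    obtain ⟨k, hk, hkb⟩ := to_zero b
    refine ⟨⟨k⁻¹ * g, h1 (G.mul_mem (G.inv_mem hk) hg)⟩, ?_⟩
    change (k⁻¹ * g) a = b
    rw [Perm.mul_apply, hga, Perm.inv_eq_iff_eq, hkb]
  symm := symm
  irr := irr
  inv := fun g x y h => (RR_iff (h2 g.2) x y).2 h
  one := by
    intro x y x' y' h h'
    obtain ⟨g, hg, hgx⟩ := to_zero x
    obtain ⟨k, hk, hkx⟩ := to_zero x'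
    have h3 : RR 0 (g y) := by rw [← hgx]; exact (RR_iff (h2 (h1 hg)) x y).2 h
    have h4 : RR 0 (k y') := by rw [← hkx]; exact (RR_iff (h2 (h1 hk)) x' y').2 h'
    obtain ⟨u, hu, hu0, huy⟩ := one_zero _ _ h3 h4
    refine ⟨⟨k⁻¹ * (u * g), h1 (G.mul_mem (G.inv_mem hk) (G.mul_mem hu hg))⟩, ?_, ?_⟩
    · change (k⁻¹ * (u * g)) x = x'
      rw [Perm.mul_apply, Perm.mul_apply, hgx, hu0, Perm.inv_eq_iff_eq, hkx]
    · change (k⁻¹ * (u * g)) y = y'
      rw [Perm.mul_apply, Perm.mul_apply, huy, Perm.inv_eq_iff_eq]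
  two := by
    intro x y x' y' hne h hne' h'
    obtain ⟨g, hg, hgx⟩ := to_zero x
    obtain ⟨k, hk, hkx⟩ := to_zero x'
    have h3 : ¬ RR 0 (g y) := by rw [← hgx]; exact fun h0 => h ((RR_iff (h2 (h1 hg)) x y).1 h0)
    have h4 : ¬ RR 0 (k y') := by rw [← hkx]; exact fun h0 => h' ((RR_iff (h2 (h1 hk)) x' y').1 h0)
    have h5 : 0 ≠ g y := by rw [← hgx]; exact fun h0 => hne (g.injective h0)
    have h6 : 0 ≠ k y' := by rw [← hkx]; exact fun h0 => hne' (k.injective h0)
    obtain ⟨u, hu, hu0, huy⟩ := two_zero _ _ h3 h5 h4 h6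
    refine ⟨⟨k⁻¹ * (u * g), h1 (G.mul_mem (G.inv_mem hk) (G.mul_mem hu hg))⟩, ?_, ?_⟩
    · change (k⁻¹ * (u * g)) x = x'
      rw [Perm.mul_apply, Perm.mul_apply, hgx, hu0, Perm.inv_eq_iff_eq, hkx]
    · change (k⁻¹ * (u * g)) y = y'
      rw [Perm.mul_apply, Perm.mul_apply, huy, Perm.inv_eq_iff_eq]
  cardk := cardk
  k0 := by norm_num
  l0 := by norm_num
  cardn := by rw [Nat.card_eq_fintype_card, Fintype.card_fin]

theorem com_ok : cntB (fun j => band (Nat.beq (bitM 100 adjM 0 j) 1) (Nat.beq (bitM 100 adjM j 13) 1)) 100 14 =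
    true := by decide +kernel

theorem com_eq : com RR 0 13 = 14 := by
  have h1 := card_fin_of_cntB _ _ _ com_ok
  unfold com
  rw [Nat.card_eq_fintype_card, Fintype.card_subtype, ← h1]
  refine congrArg Finset.card (Finset.ext fun y => ?_)
  simp only [Finset.mem_filter, Finset.mem_univ, true_and, band_eq_true]
  constructor
  · rintro ⟨h3, h4⟩
    have h3 : bitM 100 adjM 0 y = 1 := h3
    have h4 : bitM 100 adjM y 13 = 1 := h4
    exact ⟨by rw [h3]; rfl, by rw [h4]; rfl⟩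
  · rintro ⟨h3, h4⟩
    exact ⟨Nat.eq_of_beq_eq_true h3, Nat.eq_of_beq_eq_true h4⟩

theorem adj_ok : RR 0 13 := by decide +kernel

/-- elements given by words -/
theorem exists_word (L : List ℕ) (hL : sub L = true) {f0 f1 n : ℕ} (hn : 0 < n)
    (h1 : allB (fun i => Nat.beq ((ev L)^[n] i) i) 100 = true)
    (hq : ∀ p : ℕ, p.Prime → p ∣ n → Nat.beq ((ev L)^[n / p] 0) 0 = false)
    (h0 : cntB (fun i => Nat.beq (ev L i) i) 100 f0 = true)
    (h2 : cntB (fun i => Nat.beq (bitM 100 adjM i (ev L i)) 1) 100 f1 = true) :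
    ∃ g ∈ G, orderOf g = n ∧ Nat.card {x // g x = x} = f0 ∧ ∑ x, adj RR x (g x) = f1 := by
  classical
  obtain ⟨g, hg, hgi⟩ := exists_ev L (inAll' hL)
  refine ⟨g, hg, ?_, ?_, ?_⟩
  · refine orderOf_eq_of_pow_and_pow_div_prime hn (pow_eq_one_of_iter hgi h1) fun p hp hpn h3 => ?_
    have h4 := pow_val hgi (n / p) 0
    rw [h3] at h4
    have h5 := hq p hp hpn
    have h6 : (ev L)^[n / p] 0 = 0 := h4.symm
    rw [h6] at h5
    exact absurd h5 (by decide)
  · rw [← card_fin_of_cntB _ _ _ h0, Nat.card_eq_fintype_card, Fintype.card_subtype]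
    congr 1
    ext x
    simp only [Finset.mem_filter, Finset.mem_univ, true_and]
    rw [← hgi x]
    exact ⟨fun h => by rw [h]; exact Nat.beq_refl _, fun h => Fin.ext (Nat.eq_of_beq_eq_true h)⟩
  · rw [← card_fin_of_cntB _ _ _ h2]
    unfold adj
    rw [Finset.sum_boole]
    congr 2
    ext x
    simp only [Finset.mem_filter, Finset.mem_univ, true_and]
    rw [← hgi x]
    constructor
    · intro h
      have h : bitM 100 adjM x (g x) = 1 := h
      rw [h]; rfl
    · intro h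
      exact Nat.eq_of_beq_eq_true h

/-- the words used -/
theorem w_D : ∃ g ∈ G, orderOf g = 2 ∧ Nat.card {x // g x = x} = 0 ∧ ∑ x, adj RR x (g x) = (40 : ℕ) :=
  exists_word [Cfsg.Agent.SporadicA.J2Data.tD] (by decide +kernel) (by norm_num) (by decide +kernel)
    (fun p hp h => by
      have : p = 2 := (Nat.prime_dvd_prime_iff_eq hp Nat.prime_two).1 h
      subst this; decide +kernel) (by decide +kernel) (by decide +kernel)

theorem w_BC : ∃ g ∈ G, orderOf g = 3 ∧ Nat.card {x // g x = x} = 4 ∧ ∑ x, adj RR x (g x) = (24 : ℕ) :=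
  exists_word [Cfsg.Agent.SporadicA.J2Data.tB, Cfsg.Agent.SporadicA.J2Data.tC] (by decide +kernel)
    (by norm_num) (by decide +kernel)
    (fun p hp h => by
      have : p = 3 := (Nat.prime_dvd_prime_iff_eq hp Nat.prime_three).1 h
      subst this; decide +kernel) (by decide +kernel) (by decide +kernel)

theorem w_CD : ∃ g ∈ G, orderOf g = 8 ∧ Nat.card {x // g x = x} = 2 ∧ ∑ x, adj RR x (g x) = (32 : ℕ) :=
  exists_word [Cfsg.Agent.SporadicA.J2Data.tC, Cfsg.Agent.SporadicA.J2Data.tD] (by decide +kernel)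
    (by norm_num) (by decide +kernel)
    (fun p hp h => by
      have : p = 2 := (Nat.prime_dvd_prime_iff_eq hp Nat.prime_two).1
        (hp.dvd_of_dvd_pow (by simpa using h : p ∣ 2 ^ 3))
      subst this; decide +kernel) (by decide +kernel) (by decide +kernel)

theorem w_DE : ∃ g ∈ G, orderOf g = 3 ∧ Nat.card {x // g x = x} = 10 ∧ ∑ x, adj RR x (g x) = (90 : ℕ) :=
  exists_word [Cfsg.Agent.SporadicA.J2Data.tD, Cfsg.Agent.SporadicA.J2Data.tE] (by decide +kernel)
    (by norm_num) (by decide +kernel)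
    (fun p hp h => by
      have : p = 3 := (Nat.prime_dvd_prime_iff_eq hp Nat.prime_three).1 h
      subst this; decide +kernel) (by decide +kernel) (by decide +kernel)

theorem prime_six {p : ℕ} (hp : p.Prime) (h : p ∣ 6) : p = 2 ∨ p = 3 := by
  rw [show (6 : ℕ) = 2 * 3 by norm_num, hp.dvd_mul] at h
  exact h.imp (Nat.prime_dvd_prime_iff_eq hp Nat.prime_two).1 (Nat.prime_dvd_prime_iff_eq hp Nat.prime_three).1

theorem w_ADE : ∃ g ∈ G, orderOf g = 6 ∧ Nat.card {x // g x = x} = 2 ∧ ∑ x, adj RR x (g x) = (42 : ℕ) :=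
  exists_word [Cfsg.Agent.SporadicA.J2Data.tA, Cfsg.Agent.SporadicA.J2Data.tD,
    Cfsg.Agent.SporadicA.J2Data.tE] (by decide +kernel) (by norm_num) (by decide +kernel)
    (fun p hp h => by
      rcases prime_six hp h with rfl | rfl <;> decide +kernel) (by decide +kernel) (by decide +kernel)

theorem w_CDE : ∃ g ∈ G, orderOf g = 12 ∧ Nat.card {x // g x = x} = 2 ∧ ∑ x, adj RR x (g x) = (42 : ℕ) :=
  exists_word [Cfsg.Agent.SporadicA.J2Data.tC, Cfsg.Agent.SporadicA.J2Data.tD,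
    Cfsg.Agent.SporadicA.J2Data.tE] (by decide +kernel) (by norm_num) (by decide +kernel)
    (fun p hp h => by
      have h' : p = 2 ∨ p = 3 := by
        rw [show (12 : ℕ) = 6 * 2 by norm_num, hp.dvd_mul] at h
        rcases h with h | h
        · exact prime_six hp h
        · exact Or.inl ((Nat.prime_dvd_prime_iff_eq hp Nat.prime_two).1 h)
      rcases h' with rfl | rfl <;> decide +kernel) (by decide +kernel) (by decide +kernel)

/-- **`Two` for the groups between** -/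
theorem two_mid (H : Subgroup (Perm (Fin 100))) (h1 : G ≤ H) (h2 : H ≤ autG 100 adjM) : Two H := by
  classical
  have hr := r3 H h1 h2
  have hab := RankVal.params hr adj_ok (a := 14) (b := 12) com_eq (by norm_num)
  obtain ⟨χ₁, χ₂, hv1, hv2⟩ := RankVal.values hr hab (r := 6) (s := -4) (by norm_num) (by norm_num)
    (by norm_num)
  have hfix : ∀ (g : Perm (Fin 100)) (hg : g ∈ G), Nat.card (MulAction.fixedBy (Fin 100) (⟨g, h1 hg⟩ : H)) =
      Nat.card {x // g x = x} := fun g hg => rfl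
  have hadj : ∀ (g : Perm (Fin 100)) (hg : g ∈ G), ∑ x, adj RR x ((⟨g, h1 hg⟩ : H) • x) =
      ∑ x, adj RR x (g x) := fun g hg => rfl
  have hone : ∀ (g : Perm (Fin 100)) (hg : g ∈ G) (f0 f1 : ℕ), Nat.card {x // g x = x} = f0 →
      ∑ x, adj RR x (g x) = (f1 : ℕ) → (χ₁ : H → ℂ) ⟨g, h1 hg⟩ = 10⁻¹ * (f1 + 4 * f0 - 40) ∧
      (χ₂ : H → ℂ) ⟨g, h1 hg⟩ = (-10)⁻¹ * (f1 - 6 * f0 - 30) := by
    intro g hg f0 f1 h3 h4
    rw [hv1, hv2, hfix g hg, hadj g hg, h3, h4]
    constructor <;> norm_num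
  obtain ⟨a, ha, hao, ha0, ha1⟩ := w_D
  obtain ⟨b, hb, hbo, hb0, hb1⟩ := w_BC
  obtain ⟨c, hc, hco, hc0, hc1⟩ := w_CD
  obtain ⟨d, hd, hdo, hd0, hd1⟩ := w_DE
  obtain ⟨e, he, heo, he0, he1⟩ := w_ADE
  obtain ⟨f, hf, hfo, hf0, hf1⟩ := w_CDE
  have key : ∀ x y z : H, orderOf x ≠ orderOf y → orderOf x ≠ orderOf z → orderOf y ≠ orderOf z →
      NonConj ({x, y, z} : Finset H) ∧ 3 ≤ ({x, y, z} : Finset H).card := by
    intro x y z hxy hxz hyz
    have hoc : ∀ u v : H, IsConj u v → orderOf u = orderOf v := by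
      intro u v h
      obtain ⟨w, rfl⟩ := isConj_iff.1 h
      exact ((MulAut.conj w).orderOf_eq _).symm
    refine ⟨?_, ?_⟩
    · intro u hu v hv huv
      have h3 := hoc u v huv
      simp only [Finset.mem_insert, Finset.mem_singleton] at hu hv
      rcases hu with rfl | rfl | rfl <;> rcases hv with rfl | rfl | rfl <;> first | rfl | (exfalso; omega)
    · rw [Finset.card_insert_of_notMem, Finset.card_insert_of_notMem, Finset.card_singleton]
      · simp only [Finset.mem_singleton]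
        rintro rfl
        exact hyz rfl
      · simp only [Finset.mem_insert, Finset.mem_singleton]
        rintro (rfl | rfl)
        · exact hxy rfl
        · exact hxz rfl
  have hord : ∀ (g : Perm (Fin 100)) (hg : g ∈ G), orderOf (⟨g, h1 hg⟩ : H) = orderOf g :=
    fun g hg => by rw [← Subgroup.orderOf_coe]
  obtain ⟨hs1, hs2⟩ := key ⟨a, h1 ha⟩ ⟨b, h1 hb⟩ ⟨c, h1 hc⟩ (by rw [hord a ha, hord b hb, hao, hbo]; norm_num)
    (by rw [hord a ha, hord c hc, hao, hco]; norm_num) (by rw [hord b hb, hord c hc, hbo, hco]; norm_num)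
  obtain ⟨ht1, ht2⟩ := key ⟨d, h1 hd⟩ ⟨e, h1 he⟩ ⟨f, h1 hf⟩ (by rw [hord d hd, hord e he, hdo, heo]; norm_num)
    (by rw [hord d hd, hord f hf, hdo, hfo]; norm_num) (by rw [hord e he, hord f hf, heo, hfo]; norm_num)
  refine two_of_zeros (χ := χ₁) (ψ := χ₂) ?_ _ _ hs1 ht1 ?_ ?_ hs2 ht2
  · intro h
    have h3 := (hone d hd _ _ hd0 hd1).1
    have h4 := (hone d hd _ _ hd0 hd1).2
    rw [h, h4] at h3
    norm_num at h3
  · intro g hg
    simp only [Finset.mem_insert, Finset.mem_singleton] at hg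
    rcases hg with rfl | rfl | rfl
    · rw [(hone a ha _ _ ha0 ha1).1]; norm_num
    · rw [(hone b hb _ _ hb0 hb1).1]; norm_num
    · rw [(hone c hc _ _ hc0 hc1).1]; norm_num
  · intro g hg
    simp only [Finset.mem_insert, Finset.mem_singleton] at hg
    rcases hg with rfl | rfl | rfl
    · rw [(hone d hd _ _ hd0 hd1).2]; norm_num
    · rw [(hone e he _ _ he0 he1).2]; norm_num
    · rw [(hone f hf _ _ hf0 hf1).2]; norm_num

/-! ### the automorphism group -/

/-- a permutation commuting with `G` is trivial -/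
theorem eq_one_of_comm {c : Perm (Fin 100)} (hc : ∀ g ∈ G, g * c = c * g) : c = 1 := by
  have hfix : ∀ g ∈ G, g 0 = 0 → g (c 0) = c 0 := by
    intro g hg h
    have h1 := congrArg (fun π : Perm (Fin 100) => π 0) (hc g hg)
    simp only [Perm.mul_apply] at h1
    rw [h1, h]
  have h0 : c 0 = 0 := by
    by_contra hne
    by_cases hR : RR 0 (c 0)
    · obtain ⟨z, hz, hzc⟩ : ∃ z : Fin 100, RR 0 z ∧ z ≠ c 0 := by
        by_cases h13 : (13 : Fin 100) = c 0
        · exact ⟨(14 : Fin 100), by decide +kernel, by rw [← h13]; decide⟩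
        · exact ⟨13, adj_ok, h13⟩
      obtain ⟨g, hg, hg0, hgy⟩ := one_zero _ _ hR hz
      exact hzc (by rw [← hgy, hfix g hg hg0])
    · obtain ⟨z, hz, hz0, hzc⟩ : ∃ z : Fin 100, ¬ RR 0 z ∧ 0 ≠ z ∧ z ≠ c 0 := by
        by_cases h13 : (1 : Fin 100) = c 0
        · exact ⟨2, by decide +kernel, by decide, by rw [← h13]; decide⟩
        · exact ⟨1, by decide +kernel, by decide, h13⟩
      obtain ⟨g, hg, hg0, hgy⟩ := two_zero _ _ hR (fun h => hne h.symm) hz hz0
      exact hzc (by rw [← hgy, hfix g hg hg0])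
  ext x
  obtain ⟨g, hg, hgx⟩ := trans x
  have h1 := congrArg (fun π : Perm (Fin 100) => π 0) (hc g hg)
  simp only [Perm.mul_apply] at h1
  have h2 : g 0 = x := hgx
  rw [h0, h2] at h1
  rw [Perm.one_apply, ← h1]

/-- `J₂` in its automorphism group -/
noncomputable abbrev AA : Subgroup (Perm (Fin 100)) := autG 100 adjM

theorem card_AA : Nat.card AA = 1209600 := by
  have h1 : 2 * Nat.card G ≤ Nat.card AA := two_mul_card_le aut_le sign_G pT_mem sign_T
  have h2 : Nat.card AA ≤ 1209600 := card_aut_le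
  have h3 := card_G
  omega

theorem index_two : (G.subgroupOf AA).index = 2 := by
  have h1 := (G.subgroupOf AA).card_mul_index
  rw [card_AA, Nat.card_congr (Subgroup.subgroupOfEquivOfLe aut_le).toEquiv, card_G] at h1
  omega

theorem centr : Subgroup.centralizer ((G.subgroupOf AA : Subgroup AA) : Set AA) = ⊥ := by
  rw [eq_bot_iff]
  intro c hc
  rw [Subgroup.mem_centralizer_iff] at hc
  rw [Subgroup.mem_bot]
  refine Subtype.ext (eq_one_of_comm fun g hg => ?_)
  exact congrArg Subtype.val (hc ⟨g, aut_le hg⟩ hg)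

/-- **the row of `J₂`** -/
theorem j2 {S : Type} [Group S] (h : Cfsg.Spor.IsoJ2 S) : Cfsg.Agent.H504.TwoZ.RowT S := by
  have hJ : Nat.card Cfsg.Spor.J2 = 604800 := S1619.result.2.2.2
  obtain ⟨e⟩ := h
  obtain ⟨f⟩ := Cfsg.Agent.J2.HundredGens.J2_iso hJ
  have hcard : Nat.card S = 604800 := by rw [Nat.card_congr e.toEquiv, hJ]
  have hfin : Finite S := Nat.finite_of_card_ne_zero (by rw [hcard]; norm_num)
  have hout : Nat.card (Out S) = 2 := by
    have : Finite Cfsg.Spor.J2 := Nat.finite_of_card_ne_zero (by rw [hJ]; norm_num)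
    rw [H55.OutGen.card_out_congr e, S2066.result]
  refine ⟨Or.inl (Two.of_equiv (e.trans f) (two_mid G le_rfl aut_le)), ?_⟩
  rintro K _ _ N _ ⟨u⟩ hC - hN
  have hidx : 2 ≤ N.index := by
    have h1 : N.index ≠ 1 := fun h => hN (Subgroup.index_eq_one.1 h)
    have h2 : N.index ≠ 0 := Subgroup.FiniteIndex.index_ne_zero
    omega
  have hn : (G.subgroupOf AA).Normal := Subgroup.normal_of_index_eq_two index_two
  obtain ⟨w⟩ := TwoOut.equiv_of_index N u hC (by rw [hout]; exact hidx) (G.subgroupOf AA)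
    ((Subgroup.subgroupOfEquivOfLe aut_le).trans (e.trans f).symm) centr
    (by rw [hout, index_two])
  exact Or.inl (Two.of_equiv w (two_mid AA aut_le le_rfl))

end Cfsg.Agent.H442.TwoJTwo
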