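import Cfsg.Agent.H504.ZerosIso
import Cfsg.Agent.H771.KTools
import Cfsg.Agent.H413.JOneSpec
import Cfsg.Agent.H713.Spor.JJ
import Cfsg.Agent.H713.Spor.Tool
import Cfsg.Agent.H379.J2Spec
import Cfsg.Agent.KFacts.J2.Facts
import Cfsg.Agent.CpAutJThree.Row
import Cfsg.Agent.H898.J3Cent
import Cfsg.Agent.H723.Spor.JFour
import Cfsg.Agent.NotCT.Orders

/-!
# S4895: the rows of the Janko groups (helper442)
-/

set_option autoImplicit false

namespace Cfsg.Agent.H442.ZerosJanko

open Subgroup Cfsg Cfsg.Agent.H92.KTools Cfsg.Agent.H771.KTools Cfsg.Agent.H504.Zeros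
  Cfsg.Agent.H504.ZeroTI

/-! ### `J₁` -/

theorem classes_j1 : 13 ≤ Nat.card (ConjClasses Spor.J1) := by
  have hfin : Finite Spor.J1 := Nat.finite_of_card_ne_zero (by
    rw [H413.JOneLocal.card_J1]; norm_num)
  have h4 : ¬ HasOrd Spor.J1 4 := fun h => by
    have := (H413.JOneSpec.exists_orderOf_iff 4).1 h
    revert this
    decide
  have hall : ∀ n ∈ ({1, 2, 3, 5, 6, 7, 10, 11, 15, 19} : Finset ℕ), HasOrd Spor.J1 n :=
    fun n hn => (H413.JOneSpec.exists_orderOf_iff n).2 hn
  refine le_trans (by decide) (sum_le (G := Spor.J1) {1, 2, 3, 5, 6, 7, 10, 11, 15, 19}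
    (fun n => if n = 5 ∨ n = 10 ∨ n = 15 then 2 else 1) ?_)
  intro n hn
  obtain ⟨g, hg⟩ := hall n hn
  by_cases h : n = 5 ∨ n = 10 ∨ n = 15
  · have key : ∃ j, n.Coprime j ∧ (j % 5 = 2 ∨ j % 5 = 3) ∧ ∃ m, n = m * 5 ∧ 0 < m := by
      rcases h with rfl | rfl | rfl
      · exact ⟨2, by decide, by decide, 1, by norm_num⟩
      · exact ⟨3, by decide, by decide, 2, by norm_num⟩
      · exact ⟨2, by decide, by decide, 3, by norm_num⟩
    obtain ⟨j, hj, hj5, m, hm, hm0⟩ := key
    refine ⟨[g, g ^ j], by simp [h], ?_, ?_⟩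
    · have h1 : orderOf (g ^ j) = n := by rw [Nat.Coprime.orderOf_pow (by rw [hg]; exact hj), hg]
      simp [hg, h1]
    · simp only [List.pairwise_cons, List.mem_singleton, forall_eq, List.not_mem_nil, false_imp_iff,
        implies_true, List.Pairwise.nil, and_true]
      intro hc
      have h5 : orderOf (g ^ m) = 5 := by
        rw [orderOf_pow_of_dvd hm0.ne' (by rw [hg, hm]; exact dvd_mul_right m 5), hg, hm,
          Nat.mul_div_cancel_left 5 hm0]
      refine not_conj_five h4 h5 hj5 ?_
      have := pow_conj hc m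
      rwa [← pow_mul, mul_comm, pow_mul] at this
  · exact ⟨[g], by simp [h], by simpa using hg, by simp⟩

theorem big_j1_model : Big Spor.J1 := by
  have hcard := H413.JOneLocal.card_J1
  have hfin : Finite Spor.J1 := Nat.finite_of_card_ne_zero (by rw [hcard]; norm_num)
  have h19 : Fact (Nat.Prime 19) := ⟨by norm_num⟩
  obtain ⟨x, hx⟩ := (H413.JOneSpec.exists_orderOf_iff 19).2 (by decide)
  have hc := H713.card_centralizer_of_orders (p := 19)
    (H713.factorization_eq_one (by rw [hcard]; norm_num) (by rw [hcard]; norm_num))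
    (fun y hy => by
      have h := H413.JOneSpec.orderOf_mem_J1 y
      revert hy
      generalize orderOf y = n at h
      intro hy
      fin_cases h <;> first | rfl | (exfalso; revert hy; decide)) hx
  exact big_of_isolated (r := 19) (n := 9240) (e := 6) (m := 3) (k := 13) (by norm_num) hx hc
    (by rw [hcard]) (by norm_num) (by norm_num) (by norm_num) classes_j1 (by norm_num)

/-- **the row of `J₁`** -/
theorem j1 {S : Type*} [Group S] (h : Cfsg.Spor.IsoJ1 S) : Cfsg.Agent.H504.Zeros.Big S := by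
  obtain ⟨e⟩ := h
  exact Big.of_equiv e big_j1_model

/-! ### `J₄` -/

theorem big_j4_model : Big Spor.J4 := by
  have hcard := NotCT.Orders.j4 (K := Spor.J4) ⟨MulEquiv.refl _⟩
  have hfin : Finite Spor.J4 := Nat.finite_of_card_ne_zero (by rw [hcard]; norm_num)
  have h43 : Fact (Nat.Prime 43) := ⟨by norm_num⟩
  obtain ⟨x, hx⟩ := exists_prime_orderOf_dvd_card' (G := Spor.J4) 43 (by rw [hcard]; norm_num)
  exact big_of_isolated (r := 43) (n := 2018036535955292160) (e := 14) (m := 3) (k := 23)
    (by norm_num) hx (H723.Spor.JFour.cent_big (by simp) hx)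
    (by rw [hcard]) (by norm_num) (by norm_num) (by norm_num) H723.Spor.JFour.card_classes
    (by norm_num)

/-- **the row of `J₄`** -/
theorem j4 {S : Type*} [Group S] (h : Cfsg.Spor.IsoJ4 S) : Cfsg.Agent.H504.Zeros.Big S := by
  obtain ⟨e⟩ := h
  exact Big.of_equiv e big_j4_model

/-! ### `J₃` -/

theorem classes_j3 {S : Type*} [Group S] [Finite S] (h : Cfsg.Spor.IsoJ3 S) :
    15 ≤ Nat.card (ConjClasses S) := by
  classical
  obtain ⟨hcard, hM, -, -⟩ := Cfsg.Agent.CpAutJThree.base h
  have : Fact (Nat.Prime 2) := ⟨Nat.prime_two⟩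
  obtain ⟨t, ht⟩ := exists_prime_orderOf_dvd_card' (G := S) 2 (by rw [hcard]; norm_num)
  obtain ⟨-, hC, Q, v, ρ, M⟩ := hM t ht
  refine le_trans (by decide) (Cfsg.Agent.H710.VanCount.le_card_conjClasses_two
    {1, 2, 3, 4, 5, 6, 8, 10, 12, 17, 19} {5, 10, 17, 19} ?_ ?_)
  · intro n hn
    by_cases h9 : n ∈ ({1, 2, 3, 4, 5, 6, 8, 10, 12} : Finset ℕ)
    · exact Cfsg.Agent.H419.Spor.JModel.exists_orders' M n h9
    · have h3 : n = 17 ∨ n = 19 := by
        simp only [Finset.mem_insert, Finset.mem_singleton] at hn h9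
        omega
      have hp : n.Prime := by rcases h3 with rfl | rfl <;> norm_num
      have : Fact n.Prime := ⟨hp⟩
      exact exists_prime_orderOf_dvd_card' n (by
        rw [hcard]
        rcases h3 with rfl | rfl <;> norm_num)
  · intro n hn
    by_cases h9 : n ∈ ({5, 10} : Finset ℕ)
    · exact H713.Spor.JJ.two_versions rfl M n h9
    · have h3 : n = 17 ∨ n = 19 := by
        simp only [Finset.mem_insert, Finset.mem_singleton] at hn h9
        omega
      have hp : n.Prime := by rcases h3 with rfl | rfl <;> norm_num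
      have : Fact n.Prime := ⟨hp⟩
      obtain ⟨x, hx⟩ := exists_prime_orderOf_dvd_card' (G := S) n (by
        rw [hcard]
        rcases h3 with rfl | rfl <;> norm_num)
      have hc : Nat.card (centralizer ({x} : Set S)) = n := by
        rcases h3 with rfl | rfl
        · exact (H898.J3Cent.seventeen h hx).1
        · exact H898.J3Cent.card_nineteen h hx
      have hA := cc_of_prime hp hx hc
      have hA' : Nat.card (zpowers x) = n := by rw [Nat.card_zpowers, hx]
      have hm : n = eIdx (zpowers x) * 2 + 1 := by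
        rcases h3 with rfl | rfl
        · have h1 := eIdx_eq_mod hA (by rw [hA']; norm_num) (n := 2954880) (by rw [hcard, hA'])
          rw [hA'] at h1
          rw [h1]
        · have h1 := eIdx_eq_mod hA (by rw [hA']; norm_num) (n := 2643840) (by rw [hcard, hA'])
          rw [hA'] at h1
          rw [h1]
      obtain ⟨s, hs, hs2, hsA⟩ := exists_reps hA (by rw [hA']; exact hm)
      obtain ⟨a, b, hab, hsab⟩ := Finset.card_eq_two.1 hs2
      have ho : ∀ g ∈ s, orderOf g = n := by
        intro g hg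
        obtain ⟨h1, h2⟩ := hsA g hg
        have h4 : orderOf g ∣ n := by
          have := orderOf_dvd_natCard (⟨g, h1⟩ : zpowers x)
          rwa [← Subgroup.orderOf_coe, hA'] at this
        rcases (Nat.dvd_prime hp).1 h4 with h5 | h5
        · exact absurd (orderOf_eq_one_iff.1 h5) h2
        · exact h5
      refine ⟨a, b, ho a (by rw [hsab]; simp), ho b (by rw [hsab]; simp), fun hc => hab ?_⟩
      exact hs a (by rw [hsab]; simp) b (by rw [hsab]; simp) hc

/-- **the row of `J₃`** -/
theorem j3 {S : Type*} [Group S] (h : Cfsg.Spor.IsoJ3 S) : Cfsg.Agent.H504.Zeros.Big S := by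
  have hcard := NotCT.Orders.j3 h
  have hfin : Finite S := Nat.finite_of_card_ne_zero (by rw [hcard]; norm_num)
  have h17 : Fact (Nat.Prime 17) := ⟨by norm_num⟩
  have h19 : Fact (Nat.Prime 19) := ⟨by norm_num⟩
  obtain ⟨x, hx⟩ := exists_prime_orderOf_dvd_card' (G := S) 17 (by rw [hcard]; norm_num)
  obtain ⟨y, hy⟩ := exists_prime_orderOf_dvd_card' (G := S) 19 (by rw [hcard]; norm_num)
  exact big_of_isolated2 (r := 17) (n := 2954880) (e := 8) (m := 2) (r' := 19) (n' := 2643840)
    (e' := 9) (m' := 2) (k := 15) (by norm_num) hx (H898.J3Cent.seventeen h hx).1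
    (by rw [hcard]) (by norm_num) (by norm_num) (by norm_num) (by norm_num) hy
    (H898.J3Cent.card_nineteen h hy) (by rw [hcard]) (by norm_num) (by norm_num) (by norm_num)
    (by norm_num) (classes_j3 h) (by norm_num)

/-! ### `J₂` -/

/-- **the row of `J₂`** -/
theorem j2 {S : Type*} [Group S] (h : Cfsg.Spor.IsoJ2 S) : Cfsg.Agent.H504.Zeros.Big S := by
  classical
  have hcard := NotCT.Orders.j2 h
  have hfin : Finite S := Nat.finite_of_card_ne_zero (by rw [hcard]; norm_num)
  have h7 : Fact (Nat.Prime 7) := ⟨by norm_num⟩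
  obtain ⟨t, u, Q, v, ρ, D⟩ := Cfsg.Agent.KFacts.J2.Facts.exists_dat_of h
  obtain ⟨e⟩ := h
  have horders : ∀ g : S, orderOf g ∈ ({1, 2, 3, 4, 5, 6, 7, 8, 10, 12, 15} : Finset ℕ) := by
    intro g
    rw [← MulEquiv.orderOf_eq e g]
    exact H379.J2Spec.orders_J2 (e g)
  have h15 : ∃ g : S, orderOf g = 15 := by
    have h1 : (15 : ℕ) ∈ Set.range (orderOf : Cfsg.Spor.J2 → ℕ) := by
      rw [H379.J2Spec.range_J2]
      simp
    obtain ⟨g, hg⟩ := h1
    exact ⟨e.symm g, by rw [MulEquiv.orderOf_eq, hg]⟩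
  have hk : 14 ≤ Nat.card (ConjClasses S) := by
    refine le_trans (by decide) (Cfsg.Agent.H710.VanCount.le_card_conjClasses_two
      {1, 2, 3, 4, 5, 6, 7, 8, 10, 12, 15} {2, 5, 10} ?_ ?_)
    · intro n hn
      by_cases h9 : n ∈ ({1, 2, 3, 4, 5, 6, 8, 10, 12} : Finset ℕ)
      · exact Cfsg.Agent.H419.Spor.JModel.exists_orders' D.M n h9
      · have h3 : n = 7 ∨ n = 15 := by
          simp only [Finset.mem_insert, Finset.mem_singleton] at hn h9
          omega
        rcases h3 with rfl | rfl
        · exact exists_prime_orderOf_dvd_card' 7 (by rw [hcard]; norm_num)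
        · exact h15
    · intro n hn
      rw [Finset.mem_insert] at hn
      rcases hn with rfl | hn
      · exact ⟨t, u, D.F.hz, D.F.hu, D.F.nconj⟩
      · exact H713.Spor.JJ.two_versions rfl D.M n hn
  -- the four elements
  obtain ⟨a, ha⟩ := exists_prime_orderOf_dvd_card' (G := S) 7 (by rw [hcard]; norm_num)
  have hac := H713.card_centralizer_of_orders (p := 7)
    (H713.factorization_eq_one (by rw [hcard]; norm_num) (by rw [hcard]; norm_num))
    (fun y hy => by
      have h := horders y
      revert hy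
      generalize orderOf y = n at h
      intro hy
      fin_cases h <;> first | rfl | (exfalso; revert hy; decide)) ha
  obtain ⟨x, hx5, hx, hxc, hxn⟩ : ∃ x : S, orderOf x = 10 ∧ x ^ 5 = t ∧
      centralizer ({x} : Set S) ≤ zpowers x ∧ ∀ g, g * x * g⁻¹ ≠ x ^ 3 :=
    H713.Spor.JJ.exists_ten rfl D.M
  obtain ⟨b, hb4, hb⟩ := H713.Spor.JJ.exists_eight D.M
  have hbo : orderOf (b : S) = 8 := by
    rw [Subgroup.orderOf_coe]
    refine Cfsg.Agent.H419.Spor.JModel.orderOf_of_pow D.M (n := 4) (by norm_num) hb4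
      fun p hp h2 hd => ?_
    exact absurd ((Nat.prime_dvd_prime_iff_eq hp Nat.prime_two).1
      (hp.dvd_of_dvd_pow (show p ∣ 2 ^ 2 from hd))) h2
  have hbc : Nat.card (centralizer ({(b : S)} : Set S)) ≤ 8 := by
    refine (Subgroup.card_le_of_le
      (H713.Spor.JJ.cent_le rfl hb4 fun g hg => H713.Spor.JJ.cent_eight D.M hb4 hb hg)).trans ?_
    rw [Nat.card_zpowers, hbo]
  have hxc1 : Nat.card (centralizer ({x} : Set S)) ≤ 10 := by
    refine (Subgroup.card_le_of_le hxc).trans ?_
    rw [Nat.card_zpowers, hx5]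
  have hx3o : orderOf (x ^ 3) = 10 := by
    rw [Nat.Coprime.orderOf_pow (by rw [hx5]; decide), hx5]
  have hxc3 : Nat.card (centralizer ({x ^ 3} : Set S)) ≤ 10 := by
    refine (Subgroup.card_le_of_le ?_).trans hxc1
    intro g hg
    rw [mem_centralizer_singleton_iff] at hg ⊢
    have h1 : Commute g ((x ^ 3) ^ 7) := (show Commute g (x ^ 3) from hg).pow_right 7
    have h2 : (x ^ 3) ^ 7 = x := by
      rw [← pow_mul, show 3 * 7 = 10 * 2 + 1 from rfl, pow_succ, pow_mul, ← hx5, pow_orderOf_eq_one,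
        one_pow, one_mul]
    rwa [h2] at h1
  have hord : ∀ {g h : S}, IsConj g h → orderOf g = orderOf h := by
    intro g h hgh
    obtain ⟨c, rfl⟩ := isConj_iff.1 hgh
    exact ((MulAut.conj c).orderOf_eq g).symm
  have h1 : a ≠ b := fun h => by rw [h, hbo] at ha; omega
  have h2 : a ≠ x := fun h => by rw [h, hx5] at ha; omega
  have h3 : a ≠ x ^ 3 := fun h => by rw [h, hx3o] at ha; omega
  have h4 : (b : S) ≠ x := fun h => by rw [h, hx5] at hbo; omega
  have h5 : (b : S) ≠ x ^ 3 := fun h => by rw [h, hx3o] at hbo; omega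
  have h6 : x ≠ x ^ 3 := fun h => hxn 1 (by rw [one_mul, inv_one, mul_one]; exact h)
  have hxx : ¬ IsConj x (x ^ 3) := fun h => by
    obtain ⟨g, hg⟩ := isConj_iff.1 h
    exact hxn g hg
  refine big_of_cols {a, (b : S), x, x ^ 3} ?_ (fun g => orderOf g) ?_ 14 hk ?_ ?_
  · intro g hg g' hg' hgg
    have ho := hord hgg
    simp only [Finset.mem_insert, Finset.mem_singleton] at hg hg'
    rcases hg with rfl | rfl | rfl | rfl <;> rcases hg' with rfl | rfl | rfl | rfl <;>
      first
        | rfl
        | exact absurd hgg hxx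
        | exact absurd hgg.symm hxx
        | (exfalso; simp only [ha, hbo, hx5, hx3o] at ho; omega)
  · intro g hg
    refine (nv_le_card_centralizer g).trans ?_
    simp only [Finset.mem_insert, Finset.mem_singleton] at hg
    rcases hg with rfl | rfl | rfl | rfl
    · rw [hac, ha]
    · rw [hbo]; exact hbc
    · rw [hx5]; exact hxc1
    · rw [hx3o]; exact hxc3
  · rw [Finset.card_insert_of_notMem (by simp [h1, h2, h3])]
    omega
  · rw [Finset.card_insert_of_notMem (by simp [h1, h2, h3]),
      Finset.card_insert_of_notMem (by simp [h4, h5]), Finset.card_insert_of_notMem (by simp [h6]),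
      Finset.card_singleton, Finset.sum_insert (by simp [h1, h2, h3]),
      Finset.sum_insert (by simp [h4, h5]), Finset.sum_insert (by simp [h6]), Finset.sum_singleton,
      ha, hbo, hx5, hx3o]
    omega

end Cfsg.Agent.H442.ZerosJanko
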