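import Cfsg.Agent.H504.TwoRows
import Cfsg.Agent.H442.TwoIdx
import Cfsg.Agent.H442.ZerosJanko
import Cfsg.Agent.H417.JThreeDeg
import Cfsg.Agent.H305.SepJ3
import Cfsg.Agent.S2065
import Cfsg.Agent.S2067
import Cfsg.Agent.S2068

/-!
# S4897: the rows of `J₁`, `J₃`, `J₄` (helper442)
-/

set_option autoImplicit false

namespace Cfsg.Agent.H442.TwoJanko

open Subgroup Cfsg Cfsg.Agent.H504.Zeros Cfsg.Agent.H504.ZeroTI Cfsg.Agent.H504.TwoZ
  Cfsg.Agent.H442.ZerosJanko Cfsg.Agent.Characters.Core

/-! ### `J₁` -/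

theorem two_of_isolated {G : Type*} [Group G] [Finite G] {x : G} {r n e m k : ℕ} (hr : r.Prime)
    (hx : orderOf x = r) (hc : Nat.card (Subgroup.centralizer ({x} : Set G)) = r)
    (hn : Nat.card G = r * n) (he : n % r = e) (hm : 3 ≤ m) (hem : r = e * m + 1)
    (hk : k ≤ Nat.card (ConjClasses G)) (h : e + m + 2 ≤ k) : Two G := by
  have hA := cc_of_prime hr hx hc
  have cA : Nat.card (Subgroup.zpowers x) = r := by rw [Nat.card_zpowers, hx]
  have h1 := eIdx_eq_mod hA (by rw [cA]; exact hr.one_lt) (n := n) (by rw [hn, cA])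
  rw [cA, he] at h1
  exact two_of_ti hA h1 hm (by rw [cA, hem]) hk h

theorem two_j1_model : Two Spor.J1 := by
  have hcard := H413.JOneLocal.card_J1
  have hfin : Finite Spor.J1 := Nat.finite_of_card_ne_zero (by rw [hcard]; norm_num)
  have h19 : Fact (Nat.Prime 19) := ⟨by norm_num⟩
  obtain ⟨x, hx⟩ := (H413.JOneSpec.exists_orderOf_iff 19).2 (by decide)
  have hc := H713.card_centralizer_of_orders (p := 19)
    (H713.factorization_eq_one (by rw [hcard]; norm_num) (by rw [hcard]; norm_num))
    (fun y hy => by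
      have h := H413.JOneSpec.orderOf_mem_J1 y
      revert hy
      generalize orderOf y = n at h
      intro hy
      fin_cases h <;> first | rfl | (exfalso; revert hy; decide)) hx
  exact two_of_isolated (r := 19) (n := 9240) (e := 6) (m := 3) (k := 13) (by norm_num) hx hc
    (by rw [hcard]) (by norm_num) (by norm_num) (by norm_num) classes_j1 (by norm_num)

/-- **the row of `J₁`** -/
theorem j1 {S : Type} [Group S] (h : Cfsg.Spor.IsoJ1 S) : Cfsg.Agent.H504.TwoZ.RowT S := by
  obtain ⟨e⟩ := h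
  have hcard := H413.JOneLocal.card_J1
  have hfin : Finite Spor.J1 := Nat.finite_of_card_ne_zero (by rw [hcard]; norm_num)
  have hfS : Finite S := Finite.of_equiv _ e.symm.toEquiv
  exact RowT.of_equiv e ⟨Or.inl two_j1_model, TwoOut.row2_of_out_one S2065.result⟩

/-! ### `J₄` -/

theorem two_j4_model : Two Spor.J4 := by
  have hcard := NotCT.Orders.j4 (K := Spor.J4) ⟨MulEquiv.refl _⟩
  have hfin : Finite Spor.J4 := Nat.finite_of_card_ne_zero (by rw [hcard]; norm_num)
  have h43 : Fact (Nat.Prime 43) := ⟨by norm_num⟩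
  obtain ⟨x, hx⟩ := exists_prime_orderOf_dvd_card' (G := Spor.J4) 43 (by rw [hcard]; norm_num)
  exact two_of_isolated (r := 43) (n := 2018036535955292160) (e := 14) (m := 3) (k := 23)
    (by norm_num) hx (H723.Spor.JFour.cent_big (by simp) hx)
    (by rw [hcard]) (by norm_num) (by norm_num) (by norm_num) H723.Spor.JFour.card_classes
    (by norm_num)

/-- **the row of `J₄`** -/
theorem j4 {S : Type} [Group S] (h : Cfsg.Spor.IsoJ4 S) : Cfsg.Agent.H504.TwoZ.RowT S := by
  obtain ⟨e⟩ := h
  have hcard := NotCT.Orders.j4 (K := Spor.J4) ⟨MulEquiv.refl _⟩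
  have hfin : Finite Spor.J4 := Nat.finite_of_card_ne_zero (by rw [hcard]; norm_num)
  have hfS : Finite S := Finite.of_equiv _ e.symm.toEquiv
  exact RowT.of_equiv e ⟨Or.inl two_j4_model, TwoOut.row2_of_out_one S2068.result⟩

/-! ### `J₃` -/

section JThree

open Cfsg.Agent.H417.JThreeLP Cfsg.Agent.M23Order.Base

theorem num_five {ι : Type*} [Fintype ι] {V : ι → Fin 8 → ℤ} (h : Hyp V) :
    3 ≤ num V (fun v => v 0 % 5 == 0) := by
  by_contra hcon
  push Not at hcon
  refine leaf h vecs h.mem
    [-1125, 12225210, 75765600, 52713600, 240250800, 21624000, 73129920, 0, 5621150827, 48552296480, 66978068800, 11504828880, -40488037760, 25164717568, 0, 114642179200, 346181444800, 0, -192382308800, 213038663360, 0, 15370393600, 898944931200, 78483968000, -292831936000, 0, -422276980800, -150419644800, 1647643992960, 0, 41900185600, 597575687680, 0, -171285084672, 0, 10604083200, -4070881689600, 6653952000, -5018394624000, -454975488000, 5326848000]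
    [((fun v => v 0 % 5 == 0), (452468736000 : ℤ), (452468736000 : ℤ) * 2)] ?_ (by decide +kernel)
    (by decide +kernel)
  intro e he
  simp only [List.mem_cons, List.not_mem_nil, or_false] at he
  rcases he with rfl
  have h1 : num V (fun v => v 0 % 5 == 0) ≤ 2 := by omega
  exact le_of_le (by norm_num) h1

theorem fac_five {S : Type*} [Group S] (hcard : Nat.card S = 50232960) :
    (Nat.card S).factorization 5 = 1 := by
  rw [hcard]
  exact H713.factorization_eq_one (by norm_num) (by norm_num)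

/-- `J₃` has at least three characters of 5-defect zero -/
theorem exists_five {S : Type*} [Group S] [Finite S] (h : Cfsg.Spor.IsoJ3 S) :
    ∃ Z : Finset (IrrCharacter S), 3 ≤ Z.card ∧
      ∀ θ ∈ Z, (charDegree (θ : S → ℂ)).factorization 5 = (Nat.card S).factorization 5 := by
  classical
  have := finite_irr (G := S)
  let _ := Fintype.ofFinite (IrrCharacter S)
  obtain ⟨V, hdg, hV⟩ := H417.JThreeDeg.hyp h
  have hcard := NotCT.Orders.j3 h
  refine ⟨Finset.univ.filter fun χ : IrrCharacter S => 5 ∣ dg χ, ?_, ?_⟩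
  · have h1 := num_five hV
    have h2 := H417.JThreeDeg.num_eq V (fun v => v 0 % 5 == 0) (fun χ => 5 ∣ dg χ)
      (fun χ => by rw [hdg]; simp; omega) (n := (Finset.univ.filter fun χ : IrrCharacter S => 5 ∣ dg χ).card) rfl
    rw [h2] at h1
    exact_mod_cast h1
  · intro θ hθ
    rw [Finset.mem_filter] at hθ
    have h1 : 5 ∣ charDegree (θ : S → ℂ) := hθ.2
    have h2 : charDegree (θ : S → ℂ) ∣ Nat.card S := dg_dvd θ
    have h3 : charDegree (θ : S → ℂ) ≠ 0 := fun h0 => by
      rw [h0, zero_dvd_iff, hcard] at h2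
      norm_num at h2
    refine le_antisymm ((Nat.factorization_le_iff_dvd h3 (by rw [hcard]; norm_num)).2 h2 5) ?_
    rw [fac_five hcard]
    exact (Nat.Prime.dvd_iff_one_le_factorization (by norm_num) h3).1 h1

/-- **the row of `J₃`** -/
theorem j3 {S : Type} [Group S] (h : Cfsg.Spor.IsoJ3 S) : Cfsg.Agent.H504.TwoZ.RowT S := by
  classical
  have hcard := NotCT.Orders.j3 h
  have hfin : Finite S := Nat.finite_of_card_ne_zero (by rw [hcard]; norm_num)
  have h5 : Fact (Nat.Prime 5) := ⟨by norm_num⟩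
  have h2 : Fact (Nat.Prime 2) := ⟨Nat.prime_two⟩
  obtain ⟨Z, hZ, hZ5⟩ := exists_five h
  have hord : ∀ n ∈ ({5, 10, 15} : Finset ℕ), ∃ g : S, orderOf g = n := by
    intro n hn
    simp only [Finset.mem_insert, Finset.mem_singleton] at hn
    rcases hn with rfl | rfl | rfl
    · exact exists_prime_orderOf_dvd_card' 5 (by rw [hcard]; norm_num)
    · obtain ⟨-, hM, -, -⟩ := Cfsg.Agent.CpAutJThree.base h
      obtain ⟨t, ht⟩ := exists_prime_orderOf_dvd_card' (G := S) 2 (by rw [hcard]; norm_num)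
      obtain ⟨-, hC, Q, v, ρ, M⟩ := hM t ht
      exact Cfsg.Agent.H419.Spor.JModel.exists_orders' M 10 (by decide)
    · obtain ⟨K, -, t, -, ht⟩ := H305.SepJ3.exists_subgroup h
      exact ⟨t, ht⟩
  obtain ⟨s, hs, hs3, hso⟩ := autNC_of_orders {5, 10, 15} hord
  have hs3' : 3 ≤ s.card := by rw [hs3]; decide
  have hz : ∀ θ ∈ Z, ∀ x ∈ s, ∀ φ : MulAut S, (θ : S → ℂ) (φ x) = 0 := by
    intro θ hθ x hx φ
    refine dz_zero (hZ5 θ hθ) ?_ φ
    have := hso x hx
    simp only [Finset.mem_insert, Finset.mem_singleton] at this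
    rcases this with h | h | h <;> rw [h] <;> norm_num
  constructor
  · left
    refine two_of_set s hs.nonConj hs3' ?_
    have := finite_irr (G := S)
    have h1 : Nat.card Z ≤ Nat.card {χ : IrrCharacter S // ∀ g ∈ s, (χ : S → ℂ) g = 0} := by
      refine Nat.card_le_card_of_injective (fun θ : Z => (⟨θ.1, fun g hg => hz θ.1 θ.2 g hg 1⟩ :
        {χ : IrrCharacter S // ∀ g ∈ s, (χ : S → ℂ) g = 0})) ?_
      intro a b hab
      have h2 := congrArg Subtype.val hab
      exact Subtype.ext h2
    rw [Nat.card_eq_fintype_card, Fintype.card_coe] at h1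
    omega
  · rintro G _ _ N _ ⟨e⟩ hC - -
    left
    refine two_of_many N e Z ?_ s hs hz hs3'
    have h1 := TwoOut.index_le_out N e hC
    obtain ⟨F, _, _, ω, hF, hω, ⟨e'⟩⟩ := h
    rw [H55.OutGen.card_out_congr e', S2067.result hF ω hω] at h1
    omega

end JThree

end Cfsg.Agent.H442.TwoJanko
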