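import Cfsg.Agent.H504.TwoExt
import Cfsg.Agent.H55.OutGen

/-!
# S4897: `Row2` of a simple group with trivial outer automorphism group (helper442)
-/

set_option autoImplicit false

namespace Cfsg.Agent.H442.TwoOut

open Cfsg Cfsg.Agent.H504.TwoZ

universe u v

/-- if `Out S = 1` then `N ≅ S` normal in `G` with `C_G(N) = 1` is all of `G` -/
theorem eq_top_of_out_one {S : Type v} [Group S] (hout : Nat.card (Out S) = 1) {G : Type u} [Group G]
    (N : Subgroup G) [N.Normal] (e : N ≃* S) (hC : Subgroup.centralizer (N : Set G) = ⊥) : N = ⊤ := by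
  have h1 : Nat.card (Out N) = 1 := by rw [H55.OutGen.card_out_congr e, hout]
  have h2 : Subsingleton (Out N) := (Nat.card_eq_one_iff_unique.1 h1).1
  rw [eq_top_iff]
  intro g _
  have h3 : (QuotientGroup.mk (MulAut.conjNormal g : MulAut N) : Out N) = QuotientGroup.mk 1 :=
    Subsingleton.elim _ _
  rw [eq_comm, QuotientGroup.eq, inv_one, one_mul] at h3
  obtain ⟨n, hn⟩ := h3
  have h4 : (n : G)⁻¹ * g ∈ Subgroup.centralizer (N : Set G) := by
    rw [Subgroup.mem_centralizer_iff]
    intro x hx
    have h5 := congrArg (fun α : MulAut N => ((α ⟨x, hx⟩ : N) : G)) hn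
    have h6 : (n : G) * x * (n : G)⁻¹ = g * x * g⁻¹ := by
      simpa using h5
    have h7 : g * x = (n : G) * x * (n : G)⁻¹ * g := by rw [h6]; group
    rw [mul_assoc, h7]
    group
  rw [hC, Subgroup.mem_bot] at h4
  have h5 : g = n := by
    have := congrArg (fun y => (n : G) * y) h4
    simpa using this
  rw [h5]
  exact n.2

/-- **`Out S = 1`: the second row is vacuous** -/
theorem row2_of_out_one {S : Type u} [Group S] (hout : Nat.card (Out S) = 1) : Row2 S := by
  rintro G _ _ N _ ⟨e⟩ hC - hN
  exact absurd (eq_top_of_out_one hout N e hC) hN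

end Cfsg.Agent.H442.TwoOut
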