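import Cfsg.Agent.H442.TwoSixA

/-!
# S4897: `Row2` of `A₆`, the main theorem (helper442)
-/

set_option autoImplicit false

namespace Cfsg.Agent.H442.TwoSix

open Subgroup Cfsg Equiv Cfsg.Agent.Characters.Core Cfsg.Agent.H504.Zeros Cfsg.Agent.H504.TwoZ
  Cfsg.Agent.H727.DegCount Cfsg.Agent.H377.TwoConv Cfsg.Agent.H442.TwoFused Cfsg.Agent.H442.TwoSmall
  Cfsg.Agent.H442.ZerosSmall

universe u v

/-! ### `S₆` -/

/-- a six-cycle -/
def s6 : Perm (Fin 6) := swap 0 1 * swap 1 2 * swap 2 3 * swap 3 4 * swap 4 5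

theorem ord_s6 : orderOf s6 = 6 := by
  refine orderOf_eq_of_pow_and_pow_div_prime (by norm_num) (by decide +kernel) fun p hp h => ?_
  rw [show (6 : ℕ) = 2 * 3 by norm_num, hp.dvd_mul] at h
  rcases h with h | h
  · rw [(Nat.prime_dvd_prime_iff_eq hp Nat.prime_two).1 h]
    decide +kernel
  · rw [(Nat.prime_dvd_prime_iff_eq hp Nat.prime_three).1 h]
    decide +kernel

theorem c3_d3' : ∀ g : Perm (Fin 6), g * c3 ≠ d3 * g := by decide +kernel

theorem two_s6 : Two (Perm (Fin 6)) := by
  classical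
  have D := deg_a6
  have hidx : (alternatingGroup (Fin 6)).index = 2 := by
    have h := (alternatingGroup (Fin 6)).card_mul_index
    rw [card_a6, Nat.card_eq_fintype_card, Fintype.card_perm, Fintype.card_fin] at h
    have : Nat.factorial 6 = 720 := rfl
    omega
  have hN : (alternatingGroup (Fin 6)) ≠ ⊤ := by
    intro h
    rw [h, index_top] at hidx
    omega
  have hcyc : IsCyclic (Perm (Fin 6) ⧸ alternatingGroup (Fin 6)) :=
    isCyclic_of_prime_card (p := 2) (by rw [← hidx]; rfl)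
  obtain ⟨θ, hθ⟩ := exists_deg (G := A6) (d := 9) (by rw [D.nine]; norm_num)
  obtain ⟨χ, h1, h2⟩ := exists_ext_unique (alternatingGroup (Fin 6)) (MulEquiv.refl _) hcyc (θ := θ)
    (by rw [hθ, D.nine])
  have hG : Nat.card (Perm (Fin 6)) = 720 := by
    rw [Nat.card_eq_fintype_card, Fintype.card_perm, Fintype.card_fin]
    rfl
  have hdz : ∀ g : Perm (Fin 6), 3 ∣ orderOf g → (χ : Perm (Fin 6) → ℂ) g = 0 := fun g hg =>
    eq_zero_of_dz (p := 3) (a := 2) Nat.prime_three (by rw [h2, hθ]; norm_num) (by rw [hG]; norm_num) hg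
  refine two_of_gallagher (alternatingGroup (Fin 6)) hN
    (isIrr_restrict_of_ext (alternatingGroup (Fin 6)) (MulEquiv.refl _) (θ := θ) h1) ?_
  have oc : orderOf (c3 : Perm (Fin 6)) = 3 := by rw [Subgroup.orderOf_coe, ord_c3]
  have od : orderOf (d3 : Perm (Fin 6)) = 3 := by rw [Subgroup.orderOf_coe, ord_d3]
  have os := ord_s6
  have h := le_zc_list (χ := χ) [(c3 : Perm (Fin 6)), (d3 : Perm (Fin 6)), s6] (by
      simp only [List.pairwise_cons, List.mem_cons, List.not_mem_nil, or_false, forall_eq_or_imp, forall_eq]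
      refine ⟨⟨?_, not_isConj (by omega)⟩, not_isConj (by omega), ?_⟩
      · intro hc
        obtain ⟨g, hg⟩ := isConj_iff.1 hc
        exact c3_d3' g (by rw [← hg, inv_mul_cancel_right])
      · simp) (by
      simp only [List.mem_cons, List.not_mem_nil, or_false, forall_eq_or_imp, forall_eq]
      exact ⟨hdz _ (by rw [oc]), hdz _ (by rw [od]), hdz _ (by rw [os]; norm_num)⟩)
  simpa using h

/-! ### the cases -/

section

variable {G : Type u} [Group G] [Finite G] (N : Subgroup G) [N.Normal] (e : N ≃* A6)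

/-- all automorphisms are induced by permutations -/
theorem equiv_s6 (hC : centralizer (N : Set G) = ⊥) (hN : N ≠ ⊤)
    (h : ∀ g : G, (std : A6 → ℂ) ∘ autS N e g = std) : Nonempty (G ≃* Perm (Fin 6)) := by
  have hinj : Function.Injective (MulAut.conjNormal : G →* MulAut N) := by
    rw [injective_iff_map_eq_one]
    intro g hg
    have h1 : g ∈ Subgroup.centralizer (N : Set G) := by
      rw [Subgroup.mem_centralizer_iff]
      intro x hx
      have h5 := congrArg (fun α : MulAut N => ((α ⟨x, hx⟩ : N) : G)) hg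
      have h6 : g * x * g⁻¹ = x := by simpa using h5
      calc x * g = (g * x * g⁻¹) * g := by rw [h6]
        _ = g * x := by group
    rw [hC, Subgroup.mem_bot] at h1
    exact h1
  let φ : G →* MulAut A6 := (MulAut.congr e).toMonoidHom.comp (MulAut.conjNormal : G →* MulAut N)
  have hφ : Function.Injective φ := (MulAut.congr e).injective.comp hinj
  have hr : ∀ g, φ g ∈ (MulAut.conjNormal : Perm (Fin 6) →* MulAut (alternatingGroup (Fin 6))).range :=
    fun g => mem_range_of_ns (ns_of_fix_std (α := autS N e g) (h g))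
  let ψ := MonoidHom.ofInjective conjNormal_injective_six
  let Θ : G →* Perm (Fin 6) := ψ.symm.toMonoidHom.comp (φ.codRestrict _ hr)
  have hΘ : Function.Injective Θ := by
    apply ψ.symm.injective.comp
    intro x y hxy
    exact hφ (congrArg Subtype.val hxy)
  have hG : 720 ≤ Nat.card G := by
    have h1 : N.index ≠ 1 := fun h => hN (Subgroup.index_eq_one.1 h)
    have h2 : N.index ≠ 0 := Subgroup.FiniteIndex.index_ne_zero
    rw [← N.card_mul_index, Nat.card_congr e.toEquiv, card_a6]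
    omega
  have hP : Nat.card (Perm (Fin 6)) = 720 := by
    rw [Nat.card_eq_fintype_card, Fintype.card_perm, Fintype.card_fin]
    rfl
  exact ⟨MulEquiv.ofBijective Θ ((Nat.bijective_iff_injective_and_card _).2
    ⟨hΘ, le_antisymm (Nat.card_le_card_of_injective _ hΘ) (by rw [hP]; exact hG)⟩)⟩

/-- elements of order 5 are not fused -/
theorem two_of_not_fused (hC : centralizer (N : Set G) = ⊥) (hN : N ≠ ⊤)
    (h : ∀ g : G, g * (e.symm f6 : N) * g⁻¹ ≠ (e.symm (f6 ^ 2) : N)) : Two G := by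
  classical
  have D := deg_a6
  have hidx : N.index ∣ 4 := by rw [← card_out_six]; exact index_dvd_out N e hC
  obtain ⟨k, hk, hk2⟩ := (Nat.dvd_prime_pow Nat.prime_two (m := 2)).1 (by simpa using hidx)
  have hG : Nat.card G = 360 * 2 ^ k := by
    rw [← N.card_mul_index, hk2, Nat.card_congr e.toEquiv, card_a6]
  have h25 : ¬ 5 ^ (1 + 1) ∣ Nat.card G := by
    rw [hG]
    interval_cases k <;> norm_num
  have oy : orderOf ((e.symm f6 : N) : G) = 5 := by
    rw [Subgroup.orderOf_coe, MulEquiv.orderOf_eq, ord_f6]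
  have oy' : orderOf ((e.symm (f6 ^ 2) : N) : G) = 5 := by
    rw [Subgroup.orderOf_coe, MulEquiv.orderOf_eq, ord_f6']
  obtain ⟨w, hw⟩ := exists_order_double (N := N) hk2 hN (u := ((e.symm f6 : N) : G)) (by rw [oy]; decide) (by
    intro g
    have h4 : orderOf (autS N e g f6) = 5 := by rw [MulEquiv.orderOf_eq, ord_f6]
    rcases conj_f6 h4 with h5 | h5
    · obtain ⟨n, hn⟩ := isConj_iff.1 h5
      refine ⟨(e.symm n : N), (e.symm n).2, ?_⟩
      have h5 : (MulAut.conjNormal g : MulAut N) (e.symm f6) = e.symm n * e.symm f6 * (e.symm n)⁻¹ := by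
        apply e.injective
        rw [map_mul, map_mul, map_inv, MulEquiv.apply_symm_apply, MulEquiv.apply_symm_apply, hn, autS_apply]
      have h6 := congrArg (fun x : N => (x : G)) h5
      simp only [MulAut.conjNormal_apply] at h6
      exact h6
    · exfalso
      obtain ⟨n, hn⟩ := isConj_iff.1 h5.symm
      apply h ((e.symm n : N) * g)
      have h5 : e.symm n * (MulAut.conjNormal g : MulAut N) (e.symm f6) * (e.symm n)⁻¹ = e.symm (f6 ^ 2) := by
        apply e.injective
        rw [map_mul, map_mul, map_inv, MulEquiv.apply_symm_apply, MulEquiv.apply_symm_apply]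
        exact hn
      have h6 := congrArg (fun x : N => (x : G)) h5
      simp only [coe_mul, MulAut.conjNormal_apply, InvMemClass.coe_inv] at h6
      rw [← h6]
      group)
  rw [oy] at hw
  obtain ⟨θ, hθ⟩ := exists_deg (G := A6) (d := 10) (by rw [D.ten]; norm_num)
  have hstd := deg_std
  obtain ⟨χ, hχ⟩ := exists_over N e θ
  obtain ⟨ψ, hψ⟩ := exists_over N e std
  have key : ∀ η : IrrCharacter G, 5 ∣ charDegree (η : G → ℂ) → 3 ≤ zc η := by
    intro η hη
    have hdz : ∀ g : G, 5 ∣ orderOf g → (η : G → ℂ) g = 0 := fun g hg =>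
      eq_zero_of_dz (p := 5) (a := 1) Nat.prime_five (by simpa using hη) h25 hg
    have h := le_zc_list (χ := η) [((e.symm f6 : N) : G), ((e.symm (f6 ^ 2) : N) : G), w] (by
        simp only [List.pairwise_cons, List.mem_cons, List.not_mem_nil, or_false, forall_eq_or_imp, forall_eq]
        refine ⟨⟨?_, not_isConj (by omega)⟩, not_isConj (by omega), ?_⟩
        · intro hc
          obtain ⟨g, hg⟩ := isConj_iff.1 hc
          exact h g hg
        · simp) (by
        simp only [List.mem_cons, List.not_mem_nil, or_false, forall_eq_or_imp, forall_eq]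
        exact ⟨hdz _ (by rw [oy]), hdz _ (by rw [oy']), hdz _ (by rw [hw]; norm_num)⟩)
    simpa using h
  refine ⟨χ, ψ, ?_, key χ ((by rw [hθ]; norm_num : 5 ∣ charDegree (θ : A6 → ℂ)).trans (over_dvd hχ)),
    key ψ ((by rw [hstd] : 5 ∣ charDegree (std : A6 → ℂ)).trans (over_dvd hψ))⟩
  rintro rfl
  obtain ⟨g, hg⟩ := hχ.conj hψ
  have h1 : charDegree (std : A6 → ℂ) = charDegree (θ : A6 → ℂ) := by
    rw [hg, charDegree_comp_aut]
  omega

/-- elements of order 5 and the characters of degree 5 are fused -/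
theorem two_of_fused {g₂ : G} (h2 : g₂ * (e.symm f6 : N) * g₂⁻¹ = (e.symm (f6 ^ 2) : N)) {g₁ : G}
    (h1 : (std : A6 → ℂ) ∘ autS N e g₁ ≠ std) : Two G := by
  classical
  have D := deg_a6
  have := Fintype.ofFinite A6
  have := finite_irr (G := A6)
  have := Fintype.ofFinite (IrrCharacter A6)
  have hstd := deg_std
  have ha : autS N e g₂ f6 = f6 ^ 2 := by
    rw [autS_apply]
    have h3 : (MulAut.conjNormal g₂ : MulAut N) (e.symm f6) = e.symm (f6 ^ 2) := by
      apply Subtype.ext
      rw [MulAut.conjNormal_apply]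
      exact h2
    rw [h3, MulEquiv.apply_symm_apply]
  -- a character separating the elements of order 5
  obtain ⟨θ, hθ⟩ : ∃ θ : IrrCharacter A6, (θ : A6 → ℂ) f6 ≠ (θ : A6 → ℂ) (f6 ^ 2) := by
    by_contra hcon
    push Not at hcon
    have h3 := Cfsg.Agent.S0145.sum_irr_mul_conj f6 (f6 ^ 2)
    have h4 := Cfsg.Agent.S0145.sum_irr_mul_conj f6 f6
    rw [if_neg not_conj_f6] at h3
    rw [if_pos (IsConj.refl _)] at h4
    have h5 : ∑ χ : IrrCharacter A6, (χ : A6 → ℂ) f6 * (starRingEnd ℂ) ((χ : A6 → ℂ) f6) =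
        ∑ χ : IrrCharacter A6, (χ : A6 → ℂ) f6 * (starRingEnd ℂ) ((χ : A6 → ℂ) (f6 ^ 2)) :=
      Finset.sum_congr rfl fun χ _ => by rw [hcon χ]
    rw [h4, h3] at h5
    have h6 : Nat.card (centralizer ({f6} : Set A6)) ≠ 0 := Nat.card_pos.ne'
    exact h6 (by exact_mod_cast h5)
  have hmov : (θ : A6 → ℂ) ∘ autS N e g₂ ≠ θ := by
    intro h
    apply hθ
    rw [← ha, ← Function.comp_apply (f := (θ : A6 → ℂ)), h]
  have huniq : ∀ d, charDegree (θ : A6 → ℂ) = d → cnt A6 d ≤ 1 → False := by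
    intro d hd hc
    exact hmov (eq_of_cnt_le_one hc (isIrr_comp_aut θ _) θ.2
      ((deg_eq ⟨_, isIrr_comp_aut θ (autS N e g₂)⟩).2 ((charDegree_comp_aut θ _).trans hd)) ((deg_eq θ).2 hd))
  have dz5 : ∀ {χ : IrrCharacter A6}, 5 ∣ charDegree (χ : A6 → ℂ) → ∀ g, orderOf g = 5 → (χ : A6 → ℂ) g = 0 :=
    fun h g hg => eq_zero_of_dz (p := 5) (a := 1) Nat.prime_five (by simpa using h)
      (by rw [card_a6]; norm_num) (by rw [hg])
  have dz2 : ∀ {χ : IrrCharacter A6}, 8 ∣ charDegree (χ : A6 → ℂ) → ∀ g, 2 ∣ orderOf g → (χ : A6 → ℂ) g = 0 :=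
    fun h g hg => eq_zero_of_dz (p := 2) (a := 3) Nat.prime_two (by simpa using h)
      (by rw [card_a6]; norm_num) hg
  have h8 : charDegree (θ : A6 → ℂ) = 8 := by
    have hm := D.mem _ (cnt_deg_pos θ)
    simp only [Finset.mem_insert, Finset.mem_singleton] at hm
    rcases hm with hd | hd | hd | hd | hd
    · exact (huniq 1 hd (by rw [D.one])).elim
    · exact absurd (by rw [dz5 (by rw [hd]) f6 ord_f6, dz5 (by rw [hd]) (f6 ^ 2) ord_f6']) hθ
    · exact hd
    · exact (huniq 9 hd (by rw [D.nine])).elim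
    · exact (huniq 10 hd (by rw [D.ten])).elim
  obtain ⟨χ, hχ⟩ := exists_over N e θ
  obtain ⟨ψ, hψ⟩ := exists_over N e std
  have hT8 := index_inertia (N := N) (e := e) (θ := θ) (by rw [h8, D.eight]) hmov
  have hT5 := index_inertia (N := N) (e := e) (θ := std) (by rw [hstd, D.five]) h1
  have hN2 : 2 ∣ Nat.card N := by
    rw [Nat.card_congr e.toEquiv, card_a6]
    norm_num
  refine ⟨χ, ψ, ?_, ?_, ?_⟩
  · rintro rfl
    obtain ⟨g, hg⟩ := hχ.conj hψ
    have h1 : charDegree (std : A6 → ℂ) = charDegree (θ : A6 → ℂ) := by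
      rw [hg, charDegree_comp_aut]
    omega
  · have ot : orderOf ((e.symm t2 : N) : G) = 2 := by
      rw [Subgroup.orderOf_coe, MulEquiv.orderOf_eq, ord_t2]
    have oq : orderOf ((e.symm f4 : N) : G) = 4 := by
      rw [Subgroup.orderOf_coe, MulEquiv.orderOf_eq, ord_f4]
    obtain ⟨x, -, hx, -, -⟩ := exists_two_out hT8 (le_inertia N e θ) hN2
    have hxN : x ∉ N := fun h => hx (le_inertia N e θ h)
    have hnc : ∀ n : N, ¬ IsConj (n : G) x := by
      intro n hc
      obtain ⟨g, hg⟩ := isConj_iff.1 hc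
      exact hxN (hg ▸ (inferInstance : N.Normal).conj_mem n n.2 g)
    have h := le_zc_list (χ := χ) [((e.symm t2 : N) : G), ((e.symm f4 : N) : G), x] (by
        simp only [List.pairwise_cons, List.mem_cons, List.not_mem_nil, or_false, forall_eq_or_imp, forall_eq]
        refine ⟨⟨not_isConj (by omega), hnc _⟩, hnc _, ?_⟩
        simp) (by
        simp only [List.mem_cons, List.not_mem_nil, or_false, forall_eq_or_imp, forall_eq]
        refine ⟨hχ.zero fun φ => dz2 (by rw [h8]) _ ?_, hχ.zero fun φ => dz2 (by rw [h8]) _ ?_,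
          zero_twin hχ (by rw [h8, D.eight]) hmov hx⟩
        · rw [MulEquiv.orderOf_eq, ord_t2]
        · rw [MulEquiv.orderOf_eq, ord_f4]
          norm_num)
    simpa using h
  · obtain ⟨x₁, x₂, hx1, hx2, hx⟩ := exists_two_out hT5 (le_inertia N e std) hN2
    have hnc : ∀ (n : N) (x : G), x ∉ inertia N e std → ¬ IsConj (n : G) x := by
      intro n x hx hc
      obtain ⟨g, hg⟩ := isConj_iff.1 hc
      exact hx (le_inertia N e std (hg ▸ (inferInstance : N.Normal).conj_mem n n.2 g))
    have h := le_zc_list (χ := ψ) [((e.symm f6 : N) : G), x₁, x₂] (by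
        simp only [List.pairwise_cons, List.mem_cons, List.not_mem_nil, or_false, forall_eq_or_imp, forall_eq]
        refine ⟨⟨hnc _ _ hx1, hnc _ _ hx2⟩, hx, ?_⟩
        simp) (by
        simp only [List.mem_cons, List.not_mem_nil, or_false, forall_eq_or_imp, forall_eq]
        refine ⟨hψ.zero fun φ => dz5 (by rw [hstd]) _ ?_,
          zero_twin hψ (by rw [hstd, D.five]) h1 hx1, zero_twin hψ (by rw [hstd, D.five]) h1 hx2⟩
        rw [MulEquiv.orderOf_eq, ord_f6])
    simpa using h

end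

/-- **the row of `A₆`** -/
theorem row2_a6 : Row2 (alternatingGroup (Fin 6)) := by
  rintro G _ _ N _ ⟨e⟩ hC - hN
  left
  by_cases h2 : ∃ g₂ : G, g₂ * (e.symm f6 : N) * g₂⁻¹ = (e.symm (f6 ^ 2) : N)
  · obtain ⟨g₂, h2⟩ := h2
    by_cases h1 : ∀ g : G, (std : A6 → ℂ) ∘ autS N e g = std
    · obtain ⟨f⟩ := equiv_s6 N e hC hN h1
      exact Two.of_equiv f two_s6
    · push Not at h1
      obtain ⟨g₁, h1⟩ := h1
      exact two_of_fused N e h2 h1
  · push Not at h2
    exact two_of_not_fused N e hC hN h2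

end Cfsg.Agent.H442.TwoSix
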