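import Cfsg.Agent.H442.TwoSmall
import Cfsg.Agent.StdAlt.Six.Aut
import Cfsg.Agent.StandardComponent.AltAut
import Cfsg.Agent.S0254
import Cfsg.Agent.SmallSimple.S1000.ThinEightLocal
import Cfsg.Agent.S0157

/-!
# S4897: `Row2` of `A₆` (helper442)
-/

set_option autoImplicit false

namespace Cfsg.Agent.H442.TwoSix

open Subgroup Cfsg Equiv Cfsg.Agent.Characters.Core Cfsg.Agent.H504.Zeros Cfsg.Agent.H504.TwoZ
  Cfsg.Agent.H727.DegCount Cfsg.Agent.H377.TwoConv Cfsg.Agent.H442.TwoFused Cfsg.Agent.H442.TwoSmall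
  Cfsg.Agent.H442.ZerosSmall

universe u v

/-- the index divides `|Out S|` -/
theorem index_dvd_out {S : Type v} [Group S] [Finite S] {G : Type u} [Group G] [Finite G]
    (N : Subgroup G) [N.Normal] (e : N ≃* S) (hC : Subgroup.centralizer (N : Set G) = ⊥) :
    N.index ∣ Nat.card (Out S) := by
  have h0 : Finite (Out N) := inferInstance
  have h1 := Subgroup.index_ker (TwoOut.outHom N)
  rw [TwoOut.ker_outHom N hC] at h1
  rw [h1, ← H55.OutGen.card_out_congr e]
  exact Subgroup.card_subgroup_dvd_card _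

/-- two classes outside a subgroup of index two -/
theorem exists_two_out {G : Type u} [Group G] [Finite G] {T N : Subgroup G} [hNn : N.Normal] (hT : T.index = 2)
    (hNT : N ≤ T) (hN : 2 ∣ Nat.card N) : ∃ x₁ x₂ : G, x₁ ∉ T ∧ x₂ ∉ T ∧ ¬ IsConj x₁ x₂ := by
  classical
  obtain ⟨x, hx⟩ : ∃ x, x ∉ T := by
    by_contra hcon
    push Not at hcon
    have h0 : T = ⊤ := eq_top_iff.2 fun x _ => hcon x
    rw [h0, index_top] at hT
    omega
  by_contra hcon
  push Not at hcon
  have := Fintype.ofFinite G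
  have h1 := SmallSimple.Simple168.card_isConj_mul_card_centralizer x
  have h2 : Nat.card {y : G // y ∉ T} ≤ Nat.card {y : G // IsConj x y} :=
    Nat.card_le_card_of_injective (fun y => ⟨y.1, hcon x y.1 hx y.2⟩) (fun a b hab => by
      have := congrArg Subtype.val hab
      exact Subtype.ext this)
  have h3 : Nat.card {y : G // y ∉ T} = Nat.card T := by
    have h4 := HKS.CosetTwo.card_outer hT
    rw [← h4, Nat.card_eq_fintype_card, Fintype.card_subtype]
  have h5 : Nat.card G = 2 * Nat.card T := HKS.CosetTwo.card_eq hT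
  have hT0 : 0 < Nat.card T := Nat.card_pos
  have h6 : Nat.card (centralizer ({x} : Set G)) ≤ 2 := by
    by_contra h7
    push Not at h7
    rw [h3] at h2
    have h8 : Nat.card T * 3 ≤ Nat.card {y : G // IsConj x y} * Nat.card (centralizer ({x} : Set G)) :=
      Nat.mul_le_mul h2 h7
    rw [h1, h5] at h8
    omega
  -- `x` is an involution
  have hx1 : x ≠ 1 := fun h => hx (h ▸ T.one_mem)
  have hxC : x ∈ centralizer ({x} : Set G) := mem_centralizer_singleton_iff.2 rfl
  have hcent : ∀ z : G, z * x = x * z → z = 1 ∨ z = x := by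
    intro z hz
    by_contra h7
    push Not at h7
    have hzC : z ∈ centralizer ({x} : Set G) := mem_centralizer_singleton_iff.2 hz
    have h8 : ({⟨1, one_mem _⟩, ⟨x, hxC⟩, ⟨z, hzC⟩} : Finset (centralizer ({x} : Set G))).card = 3 := by
      rw [Finset.card_insert_of_notMem, Finset.card_insert_of_notMem, Finset.card_singleton]
      · simp only [Finset.mem_singleton, Subtype.mk.injEq]
        exact fun h => h7.2 h.symm
      · simp only [Finset.mem_insert, Finset.mem_singleton, Subtype.mk.injEq]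
        rintro (h | h)
        · exact hx1 h.symm
        · exact h7.1 h.symm
    have h9 := Finset.card_le_univ ({⟨1, one_mem _⟩, ⟨x, hxC⟩, ⟨z, hzC⟩} : Finset (centralizer ({x} : Set G)))
    rw [h8, ← Nat.card_eq_fintype_card] at h9
    omega
  have hxx : x * x = 1 := by
    rcases hcent (x * x) (by group) with h | h
    · exact h
    · exact absurd (mul_eq_left.1 h) hx1
  -- the fixed points on `N`
  have hfx := Equiv.Perm.card_fixedPoints_modEq (α := N)
    (f := (fun n : N => MulAut.conjNormal x n : Function.End N)) (p := 2) (n := 1) (by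
      funext n
      show MulAut.conjNormal x (MulAut.conjNormal x n) = n
      rw [← MulAut.mul_apply, ← map_mul, hxx, map_one, MulAut.one_apply])
  have h10 : Fintype.card N ≡ 0 [MOD 2] := by
    rw [← Nat.card_eq_fintype_card]
    exact (Nat.modEq_zero_iff_dvd).2 hN
  have h11 : 2 ∣ Fintype.card (Function.fixedPoints (fun n : N => (MulAut.conjNormal x : MulAut N) n)) :=
    (Nat.modEq_zero_iff_dvd).1 (hfx.symm.trans h10)
  have h12 : 0 < Fintype.card (Function.fixedPoints (fun n : N => (MulAut.conjNormal x : MulAut N) n)) :=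
    Fintype.card_pos_iff.2 ⟨⟨1, by simp [Function.IsFixedPt]⟩⟩
  have h13 : 1 < Fintype.card (Function.fixedPoints (fun n : N => (MulAut.conjNormal x : MulAut N) n)) := by
    obtain ⟨c, hc⟩ := h11
    omega
  obtain ⟨⟨n, hn⟩, hn1⟩ := Fintype.exists_ne_of_one_lt_card h13 ⟨1, by simp [Function.IsFixedPt]⟩
  have hn2 : (MulAut.conjNormal x : MulAut N) n = n := hn
  have hn3 : n ≠ 1 := fun h => hn1 (Subtype.ext h)
  have hn4 : x * n * x⁻¹ = n := by
    have := congrArg Subtype.val hn2
    rwa [MulAut.conjNormal_apply] at this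
  rcases hcent n (by rw [mul_inv_eq_iff_eq_mul] at hn4; exact hn4.symm) with h | h
  · exact hn3 (Subtype.ext h)
  · exact hx (hNT (h ▸ n.2))

/-! ### automorphisms of `A₆` -/

theorem conjNormal_injective_six :
    Function.Injective (MulAut.conjNormal : Equiv.Perm (Fin 6) →* MulAut (alternatingGroup (Fin 6))) := by
  rw [injective_iff_map_eq_one]
  intro σ hσ
  apply Cfsg.Agent.StandardComponent.AltAut.eq_one_of_centralizes (m := 4) (by norm_num)
  intro x
  have h4 := congrArg (fun f : MulAut (alternatingGroup (Fin 6)) => ((f x : alternatingGroup (Fin 6)) :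
    Equiv.Perm (Fin 6))) hσ
  simpa only [MulAut.conjNormal_apply, MulAut.one_apply] using h4

theorem mem_range_of_ns {α : MulAut (alternatingGroup (Fin 6))} (h : StdAlt.Six.NS α) :
    α ∈ (MulAut.conjNormal : Equiv.Perm (Fin 6) →* MulAut (alternatingGroup (Fin 6))).range := by
  obtain ⟨σ, hσ⟩ := h
  refine ⟨σ, ?_⟩
  ext x : 2
  rw [MulAut.conjNormal_apply, hσ]

theorem card_out_six : Nat.card (Out (alternatingGroup (Fin 6))) = 4 := by
  have : Fact (Nat.Prime 3) := ⟨Nat.prime_three⟩
  have : Fintype (GaloisField 3 2) := Fintype.ofFinite _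
  have hF : Fintype.card (GaloisField 3 2) = 3 ^ 2 := by
    rw [← Nat.card_eq_fintype_card]
    exact GaloisField.card 3 2 (by norm_num)
  have hfin : Finite (Matrix.ProjectiveSpecialLinearGroup (Fin 2) (GaloisField 3 2)) := by
    unfold Matrix.ProjectiveSpecialLinearGroup
    infer_instance
  obtain ⟨e⟩ := Cfsg.Agent.S0254.result (F := GaloisField 3 2) (by rw [hF]; norm_num)
  rw [← H55.OutGen.card_out_congr e]
  obtain ⟨φ, h1, -, h2⟩ := Cfsg.Agent.S2602.result (F := GaloisField 3 2) (p := 3) (f := 2) (by norm_num) hF (by norm_num)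
  have h3 := Subgroup.card_mul_index φ.ker
  rw [h2, Subgroup.index_ker, MonoidHom.range_eq_top.2 h1, Subgroup.card_top] at h3
  have h4 : Nat.card (Multiplicative (ZMod 2)) = 2 := by
    rw [Nat.card_congr Multiplicative.toAdd, Nat.card_zmod]
  rw [h4] at h3
  rw [← h3]
  norm_num

/-! ### `A₆` -/

abbrev A6 : Type := alternatingGroup (Fin 6)

theorem inv_f6 : ∃ g : A6, g * f6 = f6⁻¹ * g := by decide +kernel

theorem conj_f6 {w : A6} (hw : orderOf w = 5) : IsConj f6 w ∨ IsConj (f6 ^ 2) w := by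
  have h5 : Fact (Nat.Prime 5) := ⟨by norm_num⟩
  obtain ⟨k, hk⟩ := SmallSimple.S1000.ThinEightLocal.Ctx.exists_conj_mem_zpowers (p := 5) (by rw [card_a6]; norm_num)
    ord_f6 hw
  obtain ⟨g, hg⟩ := inv_f6
  have hinv : IsConj f6 f6⁻¹ := isConj_iff.2 ⟨g, by rw [hg, mul_inv_cancel_right]⟩
  have hinv2 : IsConj (f6 ^ 2) (f6 ^ 2)⁻¹ := by
    refine isConj_iff.2 ⟨g, ?_⟩
    have h1 : g * f6 * g⁻¹ = f6⁻¹ := by rw [hg, mul_inv_cancel_right]
    rw [← conj_pow, h1, inv_pow]
  have h1 : IsConj w (k * w * k⁻¹) := isConj_iff.2 ⟨k, rfl⟩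
  obtain ⟨i, hi, hi2⟩ : ∃ i < 5, f6 ^ i = k * w * k⁻¹ := by
    have h2 := (mem_zpowers_iff_mem_range_orderOf (x := f6) (y := k * w * k⁻¹)).1 hk
    rw [ord_f6] at h2
    simpa using h2
  have hpow5 : f6 ^ 5 = 1 := by rw [← ord_f6]; exact pow_orderOf_eq_one _
  interval_cases i
  · exfalso
    rw [pow_zero] at hi2
    rw [← hi2, isConj_one_left] at h1
    rw [h1, orderOf_one] at hw
    omega
  · left
    rw [pow_one] at hi2
    rw [hi2]
    exact h1.symm
  · right
    rw [hi2]
    exact h1.symm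
  · right
    have h2 : (f6 ^ 2)⁻¹ = f6 ^ 3 := by
      rw [inv_eq_iff_mul_eq_one, ← pow_add]; exact hpow5
    rw [h2, hi2] at hinv2
    exact hinv2.trans h1.symm
  · left
    have h2 : (f6)⁻¹ = f6 ^ 4 := by
      rw [inv_eq_iff_mul_eq_one, ← pow_succ']; exact hpow5
    rw [h2, hi2] at hinv
    exact hinv.trans h1.symm

/-- fixed points minus one -/
theorem isIrr_std : IsIrrCharacter A6 (fun g => (Nat.card (MulAction.fixedBy (Fin 6) g) : ℂ) - 1) := by
  have h4 := alternatingGroup.isMultiplyPretransitive (Fin 6)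
  rw [Nat.card_eq_fintype_card, Fintype.card_fin] at h4
  have h2 : MulAction.IsMultiplyPretransitive A6 (Fin 6) 2 :=
    MulAction.isMultiplyPretransitive_of_le (n := 4) (by norm_num) (by simp)
  have h1 : MulAction.IsPretransitive A6 (Fin 6) := MulAction.isPretransitive_of_is_two_pretransitive
  exact (S0157.result (G := A6) (Fin 6) (by simp)).2 h2

/-- the character of degree five -/
noncomputable def std : IrrCharacter A6 := ⟨_, isIrr_std⟩

theorem std_apply (g : A6) : (std : A6 → ℂ) g = (Nat.card (MulAction.fixedBy (Fin 6) g) : ℂ) - 1 := rfl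

theorem card_fixedBy (g : A6) : Nat.card (MulAction.fixedBy (Fin 6) g) + StdAlt.Six.mv (g : Perm (Fin 6)) = 6 := by
  classical
  have h1 : Nat.card (MulAction.fixedBy (Fin 6) g) = ((g : Perm (Fin 6)).supportᶜ).card := by
    rw [Nat.card_eq_fintype_card, ← Set.toFinset_card]
    congr 1
    ext i
    simp only [Set.mem_toFinset, MulAction.mem_fixedBy, Finset.mem_compl, Perm.mem_support, not_not]
    rfl
  rw [h1, StdAlt.Six.mv, Finset.card_compl, Fintype.card_fin]
  have h2 := Finset.card_le_univ (g : Perm (Fin 6)).support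
  rw [Fintype.card_fin] at h2
  omega

theorem deg_std : charDegree (std : A6 → ℂ) = 5 := by
  apply (deg_eq _).1
  rw [std_apply]
  have h := card_fixedBy 1
  have h2 : StdAlt.Six.mv ((1 : A6) : Perm (Fin 6)) = 0 := by
    rw [StdAlt.Six.mv, coe_one, Perm.support_one, Finset.card_empty]
  rw [h2, add_zero] at h
  rw [h]
  norm_num

/-- an automorphism fixing `std` is induced by a permutation -/
theorem ns_of_fix_std {α : MulAut A6} (h : (std : A6 → ℂ) ∘ α = std) : StdAlt.Six.NS α := by
  obtain ⟨c, hc⟩ : ∃ c : A6, (c : Equiv.Perm (Fin 6)).IsThreeCycle :=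
    ⟨⟨StdAlt.Six.c0, StdAlt.Six.c0_mem⟩, (StdAlt.Six.three_iff StdAlt.Six.c0).1 (by decide +kernel)⟩
  have hco : orderOf c = 3 := by
    rw [← Subgroup.orderOf_coe]
    exact hc.orderOf
  have h1 := congrFun h c
  rw [Function.comp_apply, std_apply, std_apply] at h1
  have h2 : Nat.card (MulAction.fixedBy (Fin 6) (α c)) = Nat.card (MulAction.fixedBy (Fin 6) c) := by
    have h3 : (Nat.card (MulAction.fixedBy (Fin 6) (α c)) : ℂ) = Nat.card (MulAction.fixedBy (Fin 6) c) := by
      linear_combination h1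
    exact_mod_cast h3
  have h4 := card_fixedBy (α c)
  have h5 := card_fixedBy c
  have h6 := (StdAlt.Six.three_iff _).2 hc
  refine StdAlt.Six.ns_of_three hc ((StdAlt.Six.three_iff _).1 ?_)
  omega

end Cfsg.Agent.H442.TwoSix
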