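import Cfsg.Agent.H442.TwoFused
import Cfsg.Agent.H377.TwoConv.LSeven
import Cfsg.Agent.H377.TwoConv.Alt
import Cfsg.Agent.H504.TwoRows
import Cfsg.Agent.S0886
import Cfsg.Agent.S2119
import Cfsg.Agent.S2602

/-!
# S4897: `Row2` of `A₅`, `L₂(7)` (helper442)
-/

set_option autoImplicit false

namespace Cfsg.Agent.H442.TwoSmall

open Subgroup Cfsg Cfsg.Agent.Characters.Core Cfsg.Agent.H504.Zeros Cfsg.Agent.H504.TwoZ
  Cfsg.Agent.H727.DegCount Cfsg.Agent.H377.TwoConv Cfsg.Agent.H442.TwoFused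

universe u v

section

variable {G : Type u} [Group G]

/-- an element outside `N` commuting with `u` -/
theorem exists_comm_out {N : Subgroup G} (hN : N ≠ ⊤) {u : G}
    (h : ∀ g : G, ∃ n ∈ N, g * u * g⁻¹ = n * u * n⁻¹) : ∃ c, c ∉ N ∧ c * u = u * c := by
  obtain ⟨g, hg⟩ : ∃ g, g ∉ N := by
    by_contra hcon
    push Not at hcon
    exact hN (eq_top_iff.2 fun x _ => hcon x)
  obtain ⟨n, hn, h1⟩ := h g
  refine ⟨n⁻¹ * g, fun hc => hg ?_, ?_⟩
  · have := N.mul_mem hn hc
    rwa [mul_inv_cancel_left] at this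
  · have h2 : g * u = n * u * n⁻¹ * g := by rw [← h1]; group
    calc n⁻¹ * g * u = n⁻¹ * (g * u) := by group
      _ = u * (n⁻¹ * g) := by rw [h2]; group

/-- the index a power of two: elements outside `N` have even order -/
theorem two_dvd_of_notMem {N : Subgroup G} [N.Normal] {k : ℕ} (hidx : N.index = 2 ^ k) {c : G} (hc : c ∉ N) :
    2 ∣ orderOf c := by
  have h1 : orderOf (c : G ⧸ N) ∣ 2 ^ k := by
    rw [← hidx]
    exact orderOf_dvd_natCard _
  have h2 : orderOf (c : G ⧸ N) ≠ 1 := by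
    rw [Ne, orderOf_eq_one_iff, QuotientGroup.eq_one_iff]
    exact hc
  obtain ⟨j, -, hj⟩ := (Nat.dvd_prime_pow Nat.prime_two).1 h1
  have h3 : j ≠ 0 := by
    rintro rfl
    exact h2 (by rw [hj, pow_zero])
  have h4 : 2 ∣ orderOf (c : G ⧸ N) := by
    rw [hj]
    exact dvd_pow_self 2 h3
  exact h4.trans (orderOf_map_dvd (QuotientGroup.mk' N) c)

/-- an element of order `2 * orderOf u` -/
theorem exists_order_double [Finite G] {N : Subgroup G} [N.Normal] {k : ℕ} (hidx : N.index = 2 ^ k) (hN : N ≠ ⊤) {u : G}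
    (hu : Odd (orderOf u)) (h : ∀ g : G, ∃ n ∈ N, g * u * g⁻¹ = n * u * n⁻¹) :
    ∃ w : G, orderOf w = 2 * orderOf u := by
  obtain ⟨c, hc, hcu⟩ := exists_comm_out hN h
  have h2 := two_dvd_of_notMem hidx hc
  have h0 : orderOf c ≠ 0 := (orderOf_pos c).ne'
  have hz : orderOf (c ^ (orderOf c / 2)) = 2 := orderOf_pow_orderOf_div h0 h2
  have hcomm : Commute (c ^ (orderOf c / 2)) u := (show Commute c u from hcu).pow_left _
  refine ⟨c ^ (orderOf c / 2) * u, ?_⟩
  rw [hcomm.orderOf_mul_eq_mul_orderOf_of_coprime, hz]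
  rw [hz]
  exact (Nat.coprime_two_left).2 hu

end

section

variable {S : Type v} [Group S] [Finite S]

/-- characters of even degree vanish at a `2`-element with a small centralizer -/
theorem zero_of_odd {g : S} (hg : ∃ k : ℕ, orderOf g = 2 ^ k)
    (hC : Nat.card (centralizer ({g} : Set S)) ≤ Nat.card {χ : IrrCharacter S // ¬ 2 ∣ charDegree (χ : S → ℂ)})
    {χ : IrrCharacter S} (hχ : 2 ∣ charDegree (χ : S → ℂ)) : (χ : S → ℂ) g = 0 := by
  classical
  have := finite_irr (G := S)
  by_contra hz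
  have h1 := nv_le_card_centralizer g
  have h3 : Nat.card ({χ : IrrCharacter S // ¬ 2 ∣ charDegree (χ : S → ℂ)} ⊕ Unit) ≤ nv g := by
    refine Nat.card_le_card_of_injective (fun x => match x with
      | .inl χ => ⟨χ.1, ne_zero_of_not_dvd Nat.prime_two χ.2 hg⟩
      | .inr _ => ⟨χ, hz⟩) ?_
    rintro (a | a) (b | b) hab
    · have h4 : a.1 = b.1 :=
        congrArg (fun x : {χ : IrrCharacter S // (χ : S → ℂ) g ≠ 0} => x.1) hab
      exact congrArg Sum.inl (Subtype.ext h4)
    · exfalso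
      have h4 : a.1 = χ := congrArg Subtype.val hab
      exact a.2 (by rw [h4]; exact hχ)
    · exfalso
      have h4 : χ = b.1 := congrArg Subtype.val hab
      exact b.2 (by rw [← h4]; exact hχ)
    · rfl
  have h4 : Nat.card Unit = 1 := Nat.card_unique
  rw [Nat.card_sum, h4] at h3
  omega

/-- **extension to index two of a character of unique degree** -/
theorem exists_ext_unique {G : Type u} [Group G] [Finite G] (N : Subgroup G) [hN : N.Normal] (e : N ≃* S)
    (hcyc : IsCyclic (G ⧸ N)) {θ : IrrCharacter S} (hθ : cnt S (charDegree (θ : S → ℂ)) ≤ 1) :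
    ∃ χ : IrrCharacter G, (∀ n : N, (χ : G → ℂ) n = (θ : S → ℂ) (e n)) ∧
      charDegree (χ : G → ℂ) = charDegree (θ : S → ℂ) := by
  obtain ⟨χ, hχ, h1⟩ := S0886.result N hcyc ((θ : S → ℂ) ∘ e) (isIrr_comp_equiv N e θ) (by
    intro g n
    have h2 : (θ : S → ℂ) ∘ autS N e g = θ := eq_of_cnt_le_one hθ (isIrr_comp_aut θ _) θ.2
      ((deg_eq ⟨_, isIrr_comp_aut θ (autS N e g)⟩).2 (charDegree_comp_aut θ _)) ((deg_eq θ).2 rfl)
    have h3 := congrFun h2 (e n)
    rw [Function.comp_apply, autS_apply, MulEquiv.symm_apply_apply] at h3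
    exact h3)
  refine ⟨⟨χ, hχ⟩, h1, ?_⟩
  have h2 : (charDegree χ : ℂ) = charDegree (θ : S → ℂ) := by
    rw [charDegree_cast_irr ⟨χ, hχ⟩, charDegree_cast_irr θ]
    have := h1 1
    rw [Function.comp_apply, map_one] at this
    exact this
  exact_mod_cast h2

end

/-! ### `A₅` -/

/-- `Aut A₅ = S₅` -/
theorem row2_a5 : Row2 (alternatingGroup (Fin 5)) := by
  rintro G _ _ N _ ⟨e⟩ hC - hN
  right; right; left
  have hb := S2119.result 5 (by norm_num) (by norm_num)
  have hMul : Nat.card (MulAut (alternatingGroup (Fin 5))) = 120 := by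
    rw [← Nat.card_congr (Equiv.ofBijective _ hb), Nat.card_eq_fintype_card, Fintype.card_perm, Fintype.card_fin]
    rfl
  have hinj : Function.Injective (MulAut.conjNormal : G →* MulAut N) := by
    rw [injective_iff_map_eq_one]
    intro g hg
    have h1 : g ∈ Subgroup.centralizer (N : Set G) := by
      rw [Subgroup.mem_centralizer_iff]
      intro x hx
      have h5 := congrArg (fun α : MulAut N => ((α ⟨x, hx⟩ : N) : G)) hg
      have h6 : g * x * g⁻¹ = x := by simpa using h5
      calc x * g = (g * x * g⁻¹) * g := by rw [h6]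
        _ = g * x := by group
    rw [hC, Subgroup.mem_bot] at h1
    exact h1
  have hfin : Finite (MulAut N) := inferInstance
  have hcN : Nat.card (MulAut N) = 120 := by
    rw [Nat.card_congr (MulAut.congr e).toEquiv, hMul]
  have hNc : Nat.card N = 60 := by
    rw [Nat.card_congr e.toEquiv, card_a5]
  have hidx : 2 ≤ N.index := by
    have h1 : N.index ≠ 1 := fun h => hN (Subgroup.index_eq_one.1 h)
    have h2 : N.index ≠ 0 := Subgroup.FiniteIndex.index_ne_zero
    omega
  have hG : 120 ≤ Nat.card G := by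
    rw [← N.card_mul_index, hNc]
    omega
  have hbij : Function.Bijective (MulAut.conjNormal : G →* MulAut N) := by
    refine (Nat.bijective_iff_injective_and_card _).2 ⟨hinj, le_antisymm (Nat.card_le_card_of_injective _ hinj) ?_⟩
    rw [hcN]
    exact hG
  exact ⟨(MulEquiv.ofBijective _ hbij).trans ((MulAut.congr e).trans (MulEquiv.ofBijective _ hb).symm)⟩

/-! ### `L₂(7)` -/

theorem card_out {q : ℕ} [hq : Fact q.Prime] (h5 : 5 ≤ q) :
    Nat.card (Out (Matrix.ProjectiveSpecialLinearGroup (Fin 2) (ZMod q))) = 2 := by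
  obtain ⟨φ, hφ, -, hk⟩ := S2602.result (F := ZMod q) (p := q) (f := 1) le_rfl (by rw [ZMod.card, pow_one])
    (by rw [pow_one]; omega)
  rw [← Subgroup.card_mul_index φ.ker, hk, Subgroup.index_ker, MonoidHom.range_eq_top.2 hφ, Subgroup.card_top, pow_one]
  have h1 : Nat.card (Multiplicative (ZMod 1)) = 1 := by
    rw [Nat.card_congr Multiplicative.toAdd, Nat.card_zmod]
  rw [h1, mul_one]
  have h2 : Odd q := hq.out.odd_of_ne_two (by omega)
  obtain ⟨k, hk⟩ := h2
  have h3 : q - 1 = 2 * k := by omega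
  rw [h3, Nat.gcd_mul_right_right]

theorem row2_l7 : Row2 (Matrix.ProjectiveSpecialLinearGroup (Fin 2) (ZMod 7)) := by
  classical
  rintro G _ _ N _ ⟨e⟩ hC - hN
  left
  have hsimple : IsSimpleGroup L7 := simple_L7
  have hc7 : Nat.card L7 = 168 := card_l7
  have h7 : Fact (Nat.Prime 7) := ⟨by norm_num⟩
  have h3 : Fact (Nat.Prime 3) := ⟨by norm_num⟩
  have hout : Nat.card (Out L7) = 2 := card_out (q := 7) (by norm_num)
  have D := ZerosSmall.deg7 (F := ZMod 7) (ZMod.card 7)
  have hidx : N.index = 2 := by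
    have h1 : N.index ≠ 1 := fun h => hN (Subgroup.index_eq_one.1 h)
    have h2 : N.index ≠ 0 := Subgroup.FiniteIndex.index_ne_zero
    have h3 := TwoOut.index_le_out N e hC
    rw [hout] at h3
    omega
  have hcyc : IsCyclic (G ⧸ N) := isCyclic_of_prime_card (p := 2) (by rw [← hidx]; rfl)
  have hG : Nat.card G = 336 := by
    rw [← N.card_mul_index, hidx, Nat.card_congr e.toEquiv, hc7]
  obtain ⟨θ, hθ⟩ := exists_deg (G := L7) (d := 6) (by rw [D.six]; norm_num)
  obtain ⟨χ, h1, h2⟩ := exists_ext_unique N e hcyc (θ := θ) (by rw [hθ, D.six])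
  obtain ⟨c, oc⟩ := exists_prime_orderOf_dvd_card' (G := L7) 3 (by rw [hc7]; norm_num)
  obtain ⟨q, -, oq⟩ := SmallSimple.Simple168Classes.exists_four hc7 default
  have oc' : orderOf ((e.symm c : N) : G) = 3 := by
    rw [Subgroup.orderOf_coe, MulEquiv.orderOf_eq, oc]
  have oq' : orderOf ((e.symm q : N) : G) = 4 := by
    rw [Subgroup.orderOf_coe, MulEquiv.orderOf_eq, oq]
  obtain ⟨w, hw⟩ := exists_order_double (N := N) (k := 1) (by rw [hidx, pow_one]) hN
    (u := ((e.symm c : N) : G)) (by rw [oc']; decide) (by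
      intro g
      have h4 : orderOf (autS N e g c) = 3 := by rw [MulEquiv.orderOf_eq, oc]
      obtain ⟨n, hn⟩ := isConj_iff.1 (SmallSimple.Simple168Classes.isConj_of_orderOf_three hc7 _ _ oc h4)
      refine ⟨(e.symm n : N), (e.symm n).2, ?_⟩
      have h5 : (MulAut.conjNormal g : MulAut N) (e.symm c) = e.symm n * e.symm c * (e.symm n)⁻¹ := by
        apply e.injective
        rw [map_mul, map_mul, map_inv, MulEquiv.apply_symm_apply, MulEquiv.apply_symm_apply, hn, autS_apply]
      have h6 := congrArg (fun x : N => (x : G)) h5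
      simp only [MulAut.conjNormal_apply] at h6
      exact h6)
  have hdz : ∀ g : G, 3 ∣ orderOf g → (χ : G → ℂ) g = 0 := fun g hg =>
    eq_zero_of_dz (p := 3) (a := 1) Nat.prime_three (by rw [h2, hθ]; norm_num) (by rw [hG]; norm_num) hg
  have hz4 : (θ : L7 → ℂ) q = 0 := by
    refine zero_of_odd ⟨2, oq⟩ ?_ (by rw [hθ]; norm_num)
    rw [SmallSimple.Simple168Classes.card_centralizer_four hc7 q oq,
      ZerosSmall.card_filter (G := L7) (fun d => ¬ 2 ∣ d) _ D.mem,
      show ({1, 3, 6, 7, 8} : Finset ℕ).filter (fun d => ¬ 2 ∣ d) = {1, 3, 7} by decide,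
      Finset.sum_insert (by decide), Finset.sum_insert (by decide), Finset.sum_singleton, D.one, D.three, D.seven]
    norm_num
  refine two_of_gallagher N hN (isIrr_restrict_of_ext N e (θ := θ) h1) ?_
  rw [oc'] at hw
  have h := le_zc_list (χ := χ) [((e.symm c : N) : G), ((e.symm q : N) : G), w] (by
      simp only [List.pairwise_cons, List.mem_cons, List.not_mem_nil, or_false, forall_eq_or_imp, forall_eq]
      refine ⟨⟨not_isConj (by omega), not_isConj (by omega)⟩, not_isConj (by omega), ?_⟩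
      simp) (by
      simp only [List.mem_cons, List.not_mem_nil, or_false, forall_eq_or_imp, forall_eq]
      refine ⟨hdz _ (by rw [oc']), ?_, hdz _ (by rw [hw]; norm_num)⟩
      rw [h1, MulEquiv.apply_symm_apply]
      exact hz4)
  simpa using h

end Cfsg.Agent.H442.TwoSmall
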